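import Cfsg.Agent.Lib.Small.SuzOrder.Four.Normal

/-!
The structure `FourData` of the centraliser of the second involution, from `LocData`.
-/

set_option autoImplicit false
set_option linter.unusedSectionVars false
set_option linter.style.haveILetI false

namespace CfsgLib.Small.SuzOrder

open Subgroup

universe u

namespace Frame

variable {G : Type*} [Group G] [Finite G] {z t : G} {L : LocData z t} (F : Frame L)
include F

theorem conj_M {g x : G} (hg : g ∈ Hc t) (hx : x ∈ F.M) : g * x * g⁻¹ ∈ F.M := by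
  refine F.mem_M.2 fun v hv => ?_
  have hv' : g⁻¹ * v * g ∈ F.V := by
    have h := conj_mem_of_normalizer (inv_mem (F.V_normal g hg)) hv
    rwa [inv_inv] at h
  calc g * x * g⁻¹ * v = g * (x * (g⁻¹ * v * g)) * g⁻¹ := by group
    _ = g * (g⁻¹ * v * g * x) * g⁻¹ := by rw [F.mem_M.1 hx _ hv']
    _ = v * (g * x * g⁻¹) := by group

theorem card_H : Nat.card (Hc t) = 2 * Nat.card F.M := by
  obtain ⟨v, hv, hv1, hvt⟩ := F.exists_v
  have hinf : (Hc t ⊓ Hc v : Subgroup G) = F.M := by
    refine le_antisymm (fun g hg => F.mem_M.2 fun u hu => ?_)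
      fun g hg => ⟨F.M_le_H hg, mem_Hc.2 (F.mem_M.1 hg v hv)⟩
    have h1 := mem_Hc.1 hg.1
    have h2 := mem_Hc.1 hg.2
    rcases F.V_cases hv hv1 hvt hu with e | e | e | e <;> rw [e]
    · simp
    · exact h1
    · exact h2
    · rw [← mul_assoc, h1, mul_assoc, h2, ← mul_assoc]
  obtain ⟨y, hy, hy0⟩ := L.exists_outer
  have hyH : y ∈ Hc t := LocData.T_le_H hy
  have hyv : y * v * y⁻¹ = t * v := by
    rcases F.V_cases hv hv1 hvt (conj_mem_of_normalizer (F.V_normal y hyH) hv) with e | e | e | e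
    · exact absurd (conj_eq_one_iff.1 e) hv1
    · refine absurd ?_ hvt
      have e2 : y * v * y⁻¹ = y * t * y⁻¹ := by rw [e, conj_eq_iff.2 (mem_Hc.1 hyH)]
      exact mul_left_cancel (mul_right_cancel e2)
    · refine absurd (F.mem_T0_of_M hy (?_ : y ∈ F.M)) hy0
      rw [← hinf]
      exact ⟨hyH, mem_Hc.2 (conj_eq_iff.1 e)⟩
    · exact e
  have horb : Nat.card {u : G // ∃ g ∈ Hc t, g * v * g⁻¹ = u} = 2 := by
    rw [← Set.ncard_pair (show v ≠ t * v from fun e => L.t_ne (mul_eq_right.1 e.symm))]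
    change Nat.card ({u : G | ∃ g ∈ Hc t, g * v * g⁻¹ = u} : Set G) = _
    rw [Nat.card_coe_set_eq]
    congr 1
    refine Set.ext fun u => ⟨?_, ?_⟩
    · rintro ⟨g, hg, rfl⟩
      rcases F.V_cases hv hv1 hvt (conj_mem_of_normalizer (F.V_normal g hg) hv) with e | e | e | e
      · exact absurd (conj_eq_one_iff.1 e) hv1
      · refine absurd ?_ hvt
        have e2 : g * v * g⁻¹ = g * t * g⁻¹ := by rw [e, conj_eq_iff.2 (mem_Hc.1 hg)]
        exact mul_left_cancel (mul_right_cancel e2)
      · exact Or.inl e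
      · exact Or.inr e
    · rintro (rfl | rfl)
      · exact ⟨1, one_mem _, by group⟩
      · exact ⟨y, hyH, hyv⟩
  rw [← orbit_card (Hc t) v, horb, hinf]

end Frame

/-- The centraliser of the second involution. -/
theorem fourData {G : Type u} [Group G] [Finite G] {z t : G} (L : LocData z t) :
    Nonempty (FourData L) := by
  obtain ⟨F⟩ := L.exists_frame
  have hM : Nat.card F.M = 80640 := by rw [F.card_M_quot, F.card_quot]
  obtain ⟨x, g, -, -, -, -, hne⟩ := F.exists_noncentral
  exact ⟨{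
    V := F.V
    M := F.M
    t_mem := F.t_mem_V
    card_V := F.card_V
    V_sq := fun v hv => F.V_sq hv
    V_conj := fun v hv h1 => F.V_type hv h1
    V_le := F.V_le_Z0
    V_inf := (eq_bot_iff_forall _).2 fun v hv => F.V_inf_S hv.1 hv.2
    M_eq := fun _ => F.mem_M
    V_norm := fun g hg v hv => conj_mem_of_normalizer (F.V_normal g (mem_Hc.2 hg)) hv
    T0_le := F.T0_le_M
    card_M := hM
    card_H := by
      show Nat.card (Hc t) = _
      rw [F.card_H, hM]
    z_conj := fun x hx hxt => by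
      obtain ⟨h, hht, rfl⟩ := L.pair_conj x hx hxt
      have hmem := F.conj_M (mem_Hc.2 hht) F.z_mem_M
      exact ⟨hmem, F.M_trans hmem hx⟩
    quot := ⟨F.M ⧸ F.VM, inferInstance, inferInstance, F.π, QuotientGroup.mk'_surjective _,
      fun _ => F.π_eq_one, F.simple, ⟨_, _, hne⟩, F.cit, F.card_quot⟩ }⟩

end CfsgLib.Small.SuzOrder
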