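import Cfsg.Agent.Lib.Small.SuzOrder.OddLocal

/-!
# The pairs at the second class of involutions

The pairs at `t` correspond to the pairs of conjugates of `z` in `C(t)` with product of odd order;
the others have product of order `2` or `4`.  This gives `Second`.
-/

set_option autoImplicit false
set_option linter.unusedSectionVars false
set_option linter.style.haveILetI false

namespace CfsgLib.Small.SuzOrder

open Subgroup CfsgLib.Involutions

universe u

namespace Odd

variable {G : Type u} [Group G] [Finite G] {z t : G} {L : LocData z t} (D : FourData L)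

include L in
theorem invol_mul_self {x : G} (h : IsConj z x) : x * x = 1 := by
  have := pow_orderOf_eq_one x
  rwa [isConj_invol h L.ord_z, pow_two] at this

include L in
theorem t_mul_self : t * t = 1 := by
  have := pow_orderOf_eq_one t
  rwa [L.ord_t, pow_two] at this

include L in
theorem z_ne_one {x : G} (h : IsConj z x) : x ≠ 1 := fun e => by
  have := isConj_invol h L.ord_z
  rw [e, orderOf_one] at this
  omega

/-- For involutions, commuting is squaring to one. -/
theorem sq_eq_one_iff {x s : G} (hx : x * x = 1) (hs : s * s = 1) :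
    (x * s) ^ 2 = 1 ↔ x * s = s * x := by
  have hxi := inv_eq_of_mul_eq_one_right hx
  have hsi := inv_eq_of_mul_eq_one_right hs
  rw [pow_two, mul_eq_one_iff_eq_inv, mul_inv_rev, hxi, hsi]

include D in
/-- The conjugates of `z` commuting with `t`. -/
theorem card_X : Nat.card {x : G // IsConj z x ∧ x * t = t * x} = 315 := by
  have hzM : z ∈ D.M := S_le_M D (z_mem_S (L := L))
  let zM : D.M := ⟨z, hzM⟩
  have hc : Nat.card (centralizer ({zM} : Set D.M)) = 256 := by
    have e : centralizer ({zM} : Set D.M) = L.T0.subgroupOf D.M := by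
      obtain ⟨K, i1, i2, π, hs, hk, -, -, hC, hcard⟩ := D.quot
      ext m
      rw [mem_centralizer_singleton_iff, Subgroup.mem_subgroupOf]
      exact ⟨fun h => mem_T0 D ⟨π, hs, hk, hC, hcard⟩ ((show Commute m zM from h).map π),
        fun h => Subtype.ext (tz_mem (T0_le_T h)).1⟩
    rw [e, Nat.card_congr (subgroupOfEquivOfLe D.T0_le).toEquiv, L.card_T0]
  have h := Chars.card_isConj_mul_card_centralizer zM
  rw [hc, D.card_M] at h
  have he : Nat.card {x : D.M // IsConj zM x} = Nat.card {x : G // IsConj z x ∧ x * t = t * x} := by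
    refine Nat.card_congr (Equiv.ofBijective
      (fun x => ⟨(x.1 : G), D.M.subtype.map_isConj x.2, M_comm_t D x.1.2⟩)
      ⟨fun a b hab => Subtype.ext (Subtype.ext (congrArg (fun q => q.1) hab)), ?_⟩)
    rintro ⟨x, hx, hxt⟩
    obtain ⟨hxM, a, ha, hax⟩ := D.z_conj x hx hxt
    exact ⟨⟨⟨x, hxM⟩, isConj_iff.2 ⟨⟨a, ha⟩, Subtype.ext hax⟩⟩, rfl⟩
  rw [he] at h
  omega

variable {K : Type u} [Group K] [Finite K] (Q : Quo D K) [IsSimpleGroup K]

include Q in
/-- An involution of `M` outside `V` has the centraliser of a conjugate of `z`. -/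
theorem exists_same_centralizer {u : G} (huM : u ∈ D.M) (hu : u * u = 1) (huV : u ∉ D.V) :
    ∃ a ∈ D.M, ∀ g ∈ D.M, g * u = u * g → g * (a * z * a⁻¹) = a * z * a⁻¹ * g := by
  haveI := Fact.mk Nat.prime_two
  have ho : orderOf (Q.π ⟨u, huM⟩) = 2 ^ 1 := by
    rw [pow_one]
    refine orderOf_eq_prime ?_ (fun h => huV ((Q.ker ⟨u, huM⟩).1 h))
    rw [← map_pow, show (⟨u, huM⟩ : D.M) ^ 2 = 1 from Subtype.ext (by
      show u ^ 2 = 1; rw [pow_two, hu]), map_one]
  obtain ⟨h, s, hs⟩ := conj_into_pow Nat.prime_two (piS D Q).range (by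
    rw [card_piS, Q.card, show (20160 : ℕ) = 2 ^ 6 * 315 by norm_num,
      Nat.factorization_mul (by norm_num) (by norm_num), Finsupp.add_apply,
      Nat.Prime.factorization_pow Nat.prime_two, Finsupp.single_eq_same,
      Nat.factorization_eq_zero_of_not_dvd (show ¬ 2 ∣ 315 by norm_num)]; norm_num) ho
  have hs2 : (s : G) * s = 1 := by
    have e : piS D Q (s * s) = piS D Q 1 := by
      rw [map_mul, hs, map_one, show h * Q.π ⟨u, huM⟩ * h⁻¹ * (h * Q.π ⟨u, huM⟩ * h⁻¹)
        = h * (Q.π ⟨u, huM⟩ * Q.π ⟨u, huM⟩) * h⁻¹ by group, ← pow_two,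
        orderOf_dvd_iff_pow_eq_one.1 (show orderOf (Q.π ⟨u, huM⟩) ∣ 2 by rw [ho, pow_one]),
        mul_one, mul_inv_cancel]
    exact congrArg Subtype.val (piS_injective D Q e)
  have hs1 : (s : G) ≠ 1 := by
    intro e
    rw [show s = 1 from Subtype.ext e, map_one, eq_comm, conj_eq_one_iff] at hs
    rw [hs, orderOf_one] at ho
    omega
  have hsc := (L.invol_S s s.2 hs2).resolve_left hs1
  obtain ⟨-, a, ha, has⟩ := D.z_conj s hsc (tz_mem (T0_le_T (L.S_le s.2))).2
  obtain ⟨q, rfl⟩ := Q.surj h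
  refine ⟨(q : G)⁻¹ * a, mul_mem (inv_mem q.2) ha, fun g hg hgu => ?_⟩
  -- `u` and the conjugate of `z` differ by an element of `V`
  have hv : (q * ⟨u, huM⟩ * q⁻¹ : D.M)⁻¹ * ⟨s, S_le_M D s.2⟩ ∈ D.V.subgroupOf D.M := by
    refine (pi_eq D Q).1 ?_
    rw [map_mul, map_mul, map_inv]
    exact hs
  have hv' : ((q : G) * u * (q : G)⁻¹)⁻¹ * (s : G) ∈ D.V := hv
  set w := ((q : G) * u * (q : G)⁻¹)⁻¹ * (s : G)
  have e : (q : G)⁻¹ * a * z * ((q : G)⁻¹ * a)⁻¹ = u * ((q : G)⁻¹ * w * q) := by
    calc (q : G)⁻¹ * a * z * ((q : G)⁻¹ * a)⁻¹ = (q : G)⁻¹ * (a * z * a⁻¹) * q := by group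
      _ = (q : G)⁻¹ * ((q : G) * u * (q : G)⁻¹ * w) * q := by rw [has, mul_inv_cancel_left]
      _ = _ := by group
  have e2 : (q : G)⁻¹ * w * q = w := by
    rw [(D.M_eq _).1 (inv_mem q.2) w hv', inv_mul_cancel_right]
  rw [e, e2]
  exact (Commute.mul_right hgu ((D.M_eq g).1 hg w hv')).eq

include Q in
/-- Two conjugates of `z` in `C(t)` with product of even order generate a conjugate of a subgroup
of `S`. -/
theorem even_pair {x s : G} (hx : IsConj z x) (hxt : x * t = t * x) (hs : IsConj z s)
    (hst : s * t = t * s) (he : Even (orderOf (x * s))) :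
    (x * s) ^ 4 = 1 ∧ ((x * s) ^ 2 ≠ 1 → IsConj z ((x * s) ^ 2)) := by
  have hxM := (D.z_conj x hx hxt).1
  have hsM := (D.z_conj s hs hst).1
  have hxx := invol_mul_self (L := L) hx
  have hss := invol_mul_self (L := L) hs
  have hxi := inv_eq_of_mul_eq_one_right hxx
  have hsi := inv_eq_of_mul_eq_one_right hss
  obtain ⟨k, hk⟩ := he
  have hinvx : ∀ n : ℕ, x * (x * s) ^ n * x = ((x * s) ^ n)⁻¹ := by
    intro n
    have e1 : x * (x * s) * x = (x * s)⁻¹ := by
      rw [mul_inv_rev, hxi, hsi, ← mul_assoc, hxx, one_mul]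
    calc x * (x * s) ^ n * x = (x * (x * s) * x⁻¹) ^ n := by rw [conj_pow, hxi]
      _ = _ := by rw [hxi, e1, inv_pow]
  set u := (x * s) ^ k with hudef
  have hk0 : 0 < k := by have := orderOf_pos (x * s); omega
  have huu : u * u = 1 := by rw [hudef, ← pow_add, ← hk, pow_orderOf_eq_one]
  have hu1 : u ≠ 1 := fun h => by
    have := Nat.le_of_dvd hk0 (orderOf_dvd_of_pow_eq_one h)
    omega
  have hui := inv_eq_of_mul_eq_one_right huu
  have hxu : x * u = u * x := by
    have e1 := hinvx k
    rw [hui] at e1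
    calc x * u = x * u * (x * x) := by rw [hxx, mul_one]
      _ = (x * u * x) * x := by group
      _ = u * x := by rw [← hudef] at e1; rw [e1]
  have hsu : s * u = u * s := by
    have hc : Commute (x * s) u := (Commute.refl (x * s)).pow_right k
    calc s * u = x * (x * s * u) := by rw [← mul_assoc, ← mul_assoc, hxx, one_mul]
      _ = x * (u * (x * s)) := by rw [hc.eq]
      _ = u * s := by rw [← mul_assoc, hxu, mul_assoc, ← mul_assoc x x, hxx, one_mul]
  have huV : u ∉ D.V := by
    intro hu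
    rcases Nat.even_or_odd k with ⟨j, hj⟩ | hodd
    · refine hu1 (uniq D Q hx hxt hu ?_)
      set w := (x * s) ^ j
      have e1 : x * w * x = w⁻¹ := hinvx j
      have e2 : u = w * w := by rw [hudef, hj, pow_add]
      have e3 : w⁻¹ * x * w = x * u := by
        rw [e2, ← e1]
        calc x * w * x * x * w = x * w * (x * x) * w := by group
          _ = x * (w * w) := by rw [hxx, mul_one, mul_assoc]
      rw [← e3]
      exact hx.trans (isConj_iff.2 ⟨w⁻¹, by rw [inv_inv]⟩)
    · refine hu1 (uniq D Q hs hst hu (hx.trans (isConj_of_odd_prod (isConj_invol hx L.ord_z) ?_ ?_)))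
      · refine orderOf_eq_prime ?_ ?_
        · rw [pow_two, show s * u * (s * u) = s * (u * s) * u by group, ← hsu,
            show s * (s * u) * u = (s * s) * (u * u) by group, hss, huu, one_mul]
        · intro h
          rw [mul_eq_one_iff_eq_inv, hui] at h
          exact L.not_conj (hs.trans (h ▸ D.V_conj u hu hu1).symm)
      · have hc : Commute (x * s) u := (Commute.refl (x * s)).pow_right k
        have : (x * (s * u)) ^ k = 1 := by
          rw [← mul_assoc, hc.mul_pow, ← hudef]
          obtain ⟨j, hj⟩ := hodd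
          rw [hj, pow_succ, pow_mul, pow_two, huu, one_pow, one_mul, huu]
        exact hodd.of_dvd_nat (orderOf_dvd_of_pow_eq_one this)
  obtain ⟨a, ha, hcent⟩ := exists_same_centralizer D Q (pow_mem (mul_mem hxM hsM) k) huu huV
  have hat : a * t = t * a := M_comm_t D ha
  have mem : ∀ g : G, IsConj z g → g * t = t * g → g ∈ D.M → g * u = u * g →
      a⁻¹ * g * a ∈ L.S := by
    intro g hg hgt hgM hgu
    refine mem_S_of_conj (hg.trans (isConj_iff.2 ⟨a⁻¹, by rw [inv_inv]⟩)) ?_ ?_
    · calc a⁻¹ * g * a * z = a⁻¹ * (g * (a * z * a⁻¹)) * a := by group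
        _ = a⁻¹ * ((a * z * a⁻¹) * g) * a := by rw [hcent g hgM hgu]
        _ = z * (a⁻¹ * g * a) := by group
    · exact (((Commute.inv_left hat).mul_left hgt).mul_left hat).eq
  set p := a⁻¹ * x * a * (a⁻¹ * s * a)
  have hp : p ∈ L.S := mul_mem (mem x hx hxt hxM hxu) (mem s hs hst hsM hsu)
  have hpx : ∀ n : ℕ, (x * s) ^ n = a * p ^ n * a⁻¹ := fun n => by
    rw [← conj_pow]; congr 1; simp only [p]; group
  refine ⟨by rw [hpx, L.exp_S p hp, mul_one, mul_inv_cancel], fun h2 => ?_⟩
  have hp2 : p ^ 2 * p ^ 2 = 1 := by rw [← pow_add]; exact L.exp_S p hp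
  refine ((L.invol_S _ (pow_mem hp 2) hp2).resolve_left fun e => h2 ?_).trans
    (isConj_iff.2 ⟨a, (hpx 2).symm⟩)
  rw [hpx, e, mul_one, mul_inv_cancel]

include Q in
/-- The pairs of conjugates of `z` in `C(t)` with product of odd order. -/
theorem card_odd : Nat.card {p : G × G // (IsConj z p.1 ∧ p.1 * t = t * p.1) ∧
    (IsConj z p.2 ∧ p.2 * t = t * p.2) ∧ Odd (orderOf (p.1 * p.2))} = 60795 := by
  classical
  haveI := Fintype.ofFinite G
  let X : Finset G := Finset.univ.filter fun x => IsConj z x ∧ x * t = t * x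
  have hX : X.card = 315 := by
    rw [← card_X D, Nat.card_eq_fintype_card, Fintype.card_subtype]
  have memX : ∀ x, x ∈ X ↔ IsConj z x ∧ x * t = t * x := fun x => by simp [X]
  have hmove : ∀ a ∈ D.M, ∀ x, (MulAut.conj a) x ∈ X ↔ x ∈ X := by
    intro a ha x
    rw [memX, memX, MulAut.conj_apply]
    have hat : Commute a t := M_comm_t D ha
    refine and_congr ⟨fun h => h.trans (isConj_iff.2 ⟨a, rfl⟩).symm,
      fun h => h.trans (isConj_iff.2 ⟨a, rfl⟩)⟩ ⟨fun h => ?_, fun h => ?_⟩
    · have := ((hat.inv_left.mul_left h).mul_left hat).eq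
      rwa [show a⁻¹ * (a * x * a⁻¹) * a = x by group] at this
    · exact ((hat.mul_left h).mul_left hat.inv_left).eq
  -- commuting pairs
  let A : Finset (G × G) := (X ×ˢ X).filter fun p => p.1 * p.2 = p.2 * p.1 ∧ p.1 ≠ p.2
  have hA : A.card = 315 * 26 := by
    have h26 : ∀ x ∈ X, (X.filter fun s => x * s = s * x ∧ x ≠ s).card = 26 := by
      intro x hx
      obtain ⟨-, a, ha, rfl⟩ := D.z_conj x ((memX x).1 hx).1 ((memX x).1 hx).2
      rw [← Finset.card_equiv (MulAut.conj a).toEquiv
        (s := X.filter fun s => z * s = s * z ∧ z ≠ s) (fun s => ?_)]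
      · have e : (X.filter fun s => z * s = s * z ∧ z ≠ s) =
            (Finset.univ.filter fun s : G => s ∈ L.S ∧ s * s = 1 ∧ s ≠ 1).erase z := by
          ext s
          simp only [Finset.mem_filter, Finset.mem_erase, Finset.mem_univ, true_and, memX]
          constructor
          · rintro ⟨⟨h1, h2⟩, h3, h4⟩
            exact ⟨fun e => h4 e.symm, mem_S_of_conj h1 h3.symm h2, invol_mul_self (L := L) h1,
              z_ne_one (L := L) h1⟩
          · rintro ⟨h0, h1, h2, h3⟩
            have hT := tz_mem (T0_le_T (L.S_le h1))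
            exact ⟨⟨(L.invol_S s h1 h2).resolve_left h3, hT.2⟩, hT.1.symm, fun e => h0 e.symm⟩
        rw [e, Finset.card_erase_of_mem (Finset.mem_filter.2 ⟨Finset.mem_univ _, z_mem_S,
          invol_mul_self (L := L) (IsConj.refl z), z_ne_one (L := L) (IsConj.refl z)⟩),
          ← Fintype.card_subtype, ← Nat.card_eq_fintype_card, L.card_zt]
      · simp only [Finset.mem_filter]
        rw [← hmove a ha s]
        refine and_congr Iff.rfl (and_congr ?_ ?_)
        · show _ ↔ MulAut.conj a z * MulAut.conj a s = MulAut.conj a s * MulAut.conj a z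
          rw [← map_mul, ← map_mul, (MulAut.conj a).injective.eq_iff]
        · show _ ↔ MulAut.conj a z ≠ MulAut.conj a s
          rw [(MulAut.conj a).injective.ne_iff]
    rw [Finset.card_eq_sum_card_fiberwise (f := Prod.fst) (t := X)
      (fun p hp => (Finset.mem_product.1 (Finset.mem_filter.1 hp).1).1),
      Finset.sum_congr rfl (g := fun _ => 26) fun x hx => ?_, Finset.sum_const, hX, smul_eq_mul]
    refine (congrArg Finset.card ?_).trans ((Finset.card_map
      (⟨fun s => (x, s), fun _ _ h => (Prod.ext_iff.1 h).2⟩ : G ↪ G × G)).trans (h26 x hx))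
    ext ⟨p, q⟩
    simp only [Finset.mem_filter, Finset.mem_product, Finset.mem_map]
    constructor
    · rintro ⟨⟨⟨-, h2⟩, h3⟩, rfl⟩
      exact ⟨q, ⟨h2, h3⟩, rfl⟩
    · rintro ⟨s, ⟨h2, h3⟩, he⟩
      obtain ⟨rfl, rfl⟩ := Prod.ext_iff.1 he
      exact ⟨⟨⟨hx, h2⟩, h3⟩, rfl⟩
  -- pairs with product of order four
  let B : Finset (G × G) := (X ×ˢ X).filter fun p =>
    (p.1 * p.2) ^ 4 = 1 ∧ (p.1 * p.2) ^ 2 ≠ 1
  have hne : ∀ p q : G, (p * q) ^ 4 = 1 → (p * q) ^ 2 ≠ 1 → ¬ Odd (orderOf (p * q)) := by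
    intro p q h4 h2 hodd
    exact h2 (orderOf_dvd_iff_pow_eq_one.1 (((Nat.Coprime.pow_right 2
      (Nat.coprime_two_right.2 hodd)).dvd_of_dvd_mul_left
      (show orderOf (p * q) ∣ 2 ^ 2 * 1 by
        rw [mul_one]; exact orderOf_dvd_of_pow_eq_one h4)).trans (one_dvd 2)))
  have hB : B.card = 315 * 96 := by
    have hmaps : ∀ p ∈ B, (p.1 * p.2) ^ 2 ∈ X := by
      intro p hp
      simp only [B, Finset.mem_filter, Finset.mem_product, memX] at hp
      obtain ⟨⟨⟨h1, h1'⟩, h2, h2'⟩, h4, hsq⟩ := hp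
      exact (memX _).2 ⟨(even_pair D Q h1 h1' h2 h2' (Nat.not_odd_iff_even.1
        (hne _ _ h4 hsq))).2 hsq, ((Commute.mul_left h1' h2').pow_left 2).eq⟩
    rw [Finset.card_eq_sum_card_fiberwise (t := X) hmaps,
      Finset.sum_congr rfl (g := fun _ => 96) fun u hu => ?_, Finset.sum_const, hX, smul_eq_mul]
    obtain ⟨-, a, ha, rfl⟩ := D.z_conj u ((memX u).1 hu).1 ((memX u).1 hu).2
    rw [← Finset.card_equiv ((MulAut.conj a).toEquiv.prodCongr (MulAut.conj a).toEquiv)
      (s := B.filter fun p => (p.1 * p.2) ^ 2 = z) (fun p => ?_)]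
    · rw [← L.card_sq, Nat.card_eq_fintype_card, Fintype.card_subtype]
      congr 1
      ext ⟨p, q⟩
      simp only [B, Finset.mem_filter, Finset.mem_product, Finset.mem_univ, true_and, memX]
      constructor
      · rintro ⟨⟨⟨⟨h1, h1'⟩, h2, h2'⟩, -⟩, hz⟩
        have hp := invol_mul_self (L := L) h1
        have hq := invol_mul_self (L := L) h2
        have hzpq : z * (p * q) = p * q * z := by rw [← hz, ← pow_succ, ← pow_succ']
        have hzp : p * z = z * p := by
          have e : p * (p * q) ^ 2 * p⁻¹ = ((p * q) ^ 2)⁻¹ := by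
            rw [← conj_pow, ← inv_pow, mul_inv_rev, inv_eq_of_mul_eq_one_right hp,
              inv_eq_of_mul_eq_one_right hq, ← mul_assoc, hp, one_mul]
          rw [hz, inv_eq_of_mul_eq_one_right (invol_mul_self (L := L) (IsConj.refl z))] at e
          calc p * z = p * z * p⁻¹ * p := by group
            _ = z * p := by rw [e]
        have hzq : q * z = z * q := by
          calc q * z = p⁻¹ * (p * q * z) := by group
            _ = p⁻¹ * (z * p) * q := by rw [← hzpq]; group
            _ = z * q := by rw [← hzp, inv_mul_cancel_left]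
        exact ⟨mem_S_of_conj h1 hzp h1', mem_S_of_conj h2 hzq h2', hp, hq,
          by rw [← hz, pow_two]⟩
      · rintro ⟨hp, hq, hp2, hq2, hz⟩
        rw [← pow_two] at hz
        have hz1 := z_ne_one (L := L) (IsConj.refl z)
        refine ⟨⟨⟨⟨(L.invol_S p hp hp2).resolve_left ?_, (tz_mem (T0_le_T (L.S_le hp))).2⟩,
          (L.invol_S q hq hq2).resolve_left ?_, (tz_mem (T0_le_T (L.S_le hq))).2⟩, ?_, ?_⟩, hz⟩
        · rintro rfl; rw [one_mul, pow_two, hq2] at hz; exact hz1 hz.symm
        · rintro rfl; rw [mul_one, pow_two, hp2] at hz; exact hz1 hz.symm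
        · rw [show 4 = 2 * 2 from rfl, pow_mul, hz, pow_two]
          exact invol_mul_self (L := L) (IsConj.refl z)
        · rw [hz]; exact hz1
    · obtain ⟨p, q⟩ := p
      show (p, q) ∈ _ ↔ (MulAut.conj a p, MulAut.conj a q) ∈ _
      simp only [B, Finset.mem_filter, Finset.mem_product, hmove a ha, ← map_mul, ← map_pow,
        ne_eq, EmbeddingLike.map_eq_one_iff]
      exact and_congr Iff.rfl ((MulAut.conj a).injective.eq_iff' (MulAut.conj_apply a z)).symm
  -- the partition
  let P : Finset (G × G) := X ×ˢ X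
  have hrest : P.filter (fun p => ¬ Odd (orderOf (p.1 * p.2))) = A ∪ B := by
    ext ⟨p, q⟩
    simp only [P, A, B, Finset.mem_union, Finset.mem_filter, Finset.mem_product, memX]
    constructor
    · rintro ⟨⟨⟨h1, h1'⟩, h2, h2'⟩, ho⟩
      by_cases hc : p * q = q * p
      · refine Or.inl ⟨⟨⟨h1, h1'⟩, h2, h2'⟩, hc, fun e => ho ?_⟩
        rw [e, invol_mul_self (L := L) h2, orderOf_one]
        exact odd_one
      · exact Or.inr ⟨⟨⟨h1, h1'⟩, h2, h2'⟩,
          (even_pair D Q h1 h1' h2 h2' (Nat.not_odd_iff_even.1 ho)).1,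
          fun e => hc ((sq_eq_one_iff (invol_mul_self (L := L) h1)
            (invol_mul_self (L := L) h2)).1 e)⟩
    · rintro (⟨hX', hc, hne'⟩ | ⟨hX', h4, h2⟩)
      · refine ⟨hX', ?_⟩
        obtain ⟨⟨h1, -⟩, h2, -⟩ := hX'
        haveI := Fact.mk Nat.prime_two
        rw [orderOf_eq_prime ((sq_eq_one_iff (invol_mul_self (L := L) h1)
          (invol_mul_self (L := L) h2)).2 hc) (fun e => hne' ?_)]
        · norm_num
        · rw [mul_eq_one_iff_eq_inv, inv_eq_of_mul_eq_one_right (invol_mul_self (L := L) h2)] at e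
          exact e
      · exact ⟨hX', hne _ _ h4 h2⟩
  have hdisj : Disjoint A B := by
    rw [Finset.disjoint_left]
    rintro ⟨p, q⟩ hp hq
    simp only [A, B, Finset.mem_filter, Finset.mem_product, memX] at hp hq
    exact hq.2.2 ((sq_eq_one_iff (invol_mul_self (L := L) hp.1.1.1)
      (invol_mul_self (L := L) hp.1.2.1)).2 hp.2.1)
  have htot := Finset.card_filter_add_card_filter_not (s := P)
    (fun p : G × G => Odd (orderOf (p.1 * p.2)))
  rw [hrest, Finset.card_union_of_disjoint hdisj, hA, hB, Finset.card_product, hX] at htot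
  rw [Nat.card_eq_fintype_card, Fintype.card_subtype]
  have e : (Finset.univ.filter fun p : G × G => (IsConj z p.1 ∧ p.1 * t = t * p.1) ∧
      (IsConj z p.2 ∧ p.2 * t = t * p.2) ∧ Odd (orderOf (p.1 * p.2))) =
      P.filter (fun p => Odd (orderOf (p.1 * p.2))) := by
    ext ⟨p, q⟩
    simp [P, memX, and_assoc]
  rw [e]
  omega

include Q in
/-- The pairs at `t`. -/
theorem pairs_t : Nat.card (DGroup.Pairs z t t) = 60795 := by
  rw [← card_odd D Q, DGroup.Pairs]
  have htt := t_mul_self (L := L)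
  have ht1 : t ≠ 1 := fun e => by have := L.ord_t; rw [e, orderOf_one] at this; omega
  refine Nat.card_congr (Equiv.subtypeEquiv
    ⟨fun p => (p.1, p.2 * t), fun p => (p.1, p.2 * t), fun p => by simp [mul_assoc, htt],
      fun p => by simp [mul_assoc, htt]⟩ ?_)
  rintro ⟨x, y⟩
  simp only [Equiv.coe_fn_mk]
  constructor
  · rintro ⟨hx, hy, hh⟩
    have hox := isConj_invol hx L.ord_z
    have hoy := isConj_invol hy L.ord_t
    have hxx := invol_mul_self (L := L) hx
    have hxi := inv_eq_of_mul_eq_one_right hxx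
    have hyy : y * y = 1 := by
      have := pow_orderOf_eq_one y; rwa [hoy, pow_two] at this
    have hyi := inv_eq_of_mul_eq_one_right hyy
    have hinv : ∀ n : ℕ, x * (x * y) ^ n * x = ((x * y) ^ n)⁻¹ := by
      intro n
      have e1 : x * (x * y) * x = (x * y)⁻¹ := by
        rw [mul_inv_rev, hxi, hyi, ← mul_assoc, hxx, one_mul]
      calc x * (x * y) ^ n * x = (x * (x * y) * x⁻¹) ^ n := by rw [conj_pow, hxi]
        _ = _ := by rw [hxi, e1, inv_pow]
    set k := orderOf (x * y) / 2
    have hh' : (x * y) ^ k = t := hh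
    have hxt : x * t = t * x := by
      have e1 := hinv k
      rw [hh', inv_eq_of_mul_eq_one_right htt] at e1
      calc x * t = x * t * (x * x) := by rw [hxx, mul_one]
        _ = (x * t * x) * x := by group
        _ = t * x := by rw [e1]
    have hct : Commute (x * y) t := hh' ▸ (Commute.refl (x * y)).pow_right k
    have hodd : Odd k := by
      by_contra hev
      obtain ⟨j, hj⟩ := Nat.not_odd_iff_even.1 hev
      refine ht1 (uniq D Q hx hxt D.t_mem ?_)
      set w := (x * y) ^ j
      have e1 : x * w * x = w⁻¹ := hinv j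
      have e2 : t = w * w := by rw [← hh', hj, pow_add]
      have e3 : w⁻¹ * x * w = x * t := by
        rw [e2, ← e1]
        calc x * w * x * x * w = x * w * (x * x) * w := by group
          _ = x * (w * w) := by rw [hxx, mul_one, mul_assoc]
      rw [← e3]
      exact hx.trans (isConj_iff.2 ⟨w⁻¹, by rw [inv_inv]⟩)
    have hxy : x * (y * t) = x * y * t := (mul_assoc _ _ _).symm
    have hpow : (x * (y * t)) ^ k = 1 := by
      rw [hxy, hct.mul_pow, hh']
      obtain ⟨j, hj⟩ := hodd
      rw [hj, pow_succ, pow_mul, pow_two, htt, one_pow, one_mul, htt]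
    have ho : Odd (orderOf (x * (y * t))) := hodd.of_dvd_nat (orderOf_dvd_of_pow_eq_one hpow)
    have hyt : y * t = t * y := by
      calc y * t = x * (x * y * t) := by rw [← mul_assoc, ← mul_assoc, hxx, one_mul]
        _ = x * (t * (x * y)) := by rw [hct.eq]
        _ = t * y := by rw [← mul_assoc, hxt, mul_assoc, ← mul_assoc x x, hxx, one_mul]
    have hos : orderOf (y * t) = 2 := by
      haveI := Fact.mk Nat.prime_two
      refine orderOf_eq_prime ?_ (fun e => ?_)
      · rw [pow_two, show y * t * (y * t) = y * (t * y) * t by group, ← hyt,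
          show y * (y * t) * t = (y * y) * (t * t) by group, hyy, htt, one_mul]
      · rw [e, mul_one, hox] at ho
        exact absurd ho (by decide)
    exact ⟨⟨hx, hxt⟩, ⟨hx.trans (isConj_of_odd_prod hox hos ho),
      by rw [mul_assoc y t t, htt, mul_one, ← mul_assoc t y t, ← hyt, mul_assoc, htt, mul_one]⟩, ho⟩
  · rintro ⟨⟨hx, hxt⟩, ⟨hs, hst⟩, ho⟩
    set s := y * t with hsdef
    have hy : y = s * t := by rw [hsdef, mul_assoc, htt, mul_one]
    have hst' : Commute s t := hst
    have hoy : orderOf (s * t) = 2 := by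
      haveI := Fact.mk Nat.prime_two
      refine orderOf_eq_prime ?_ (fun e => ?_)
      · rw [hst'.mul_pow, pow_two, pow_two, invol_mul_self (L := L) hs, htt, one_mul]
      · rw [mul_eq_one_iff_eq_inv, inv_eq_of_mul_eq_one_right htt] at e
        exact L.not_conj (e ▸ hs)
    refine ⟨hx, hy ▸ (L.two _ hoy).resolve_left (fun h => ht1 (uniq D Q hs hst D.t_mem h)), ?_⟩
    have hc : Commute (x * s) t := Commute.mul_left hxt hst'
    have hord : orderOf (x * y) = orderOf (x * s) * 2 := by
      rw [hy, ← mul_assoc, hc.orderOf_mul_eq_mul_orderOf_of_coprime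
        (by rw [L.ord_t]; exact Nat.coprime_two_right.2 ho), L.ord_t]
    rw [DGroup.half, hord, Nat.mul_div_cancel _ (by norm_num : 0 < 2), hy, ← mul_assoc, hc.mul_pow,
      pow_orderOf_eq_one, one_mul]
    obtain ⟨j, hj⟩ := ho
    rw [hj, pow_succ, pow_mul, pow_two, htt, one_pow, one_mul]

end Odd

variable {G : Type u} [Group G] [Finite G] {z t : G}

/-- The structure at the second class of involutions. -/
theorem second (L : LocData z t) (D : FourData L) : Nonempty (Second z t) := by
  obtain ⟨K, i1, i2, π, hsurj, hker, hsimple, -, hC, hcard⟩ := D.quot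
  let Q : Quo D K := ⟨π, hsurj, hker, hC, hcard⟩
  have exq : ∀ p : ℕ, p.Prime → p ∣ 80640 → ∃ f : G, orderOf f = p ∧ f ∈ D.M := by
    intro p hp hd
    haveI := Fact.mk hp
    obtain ⟨⟨f, hfM⟩, hf⟩ := exists_prime_orderOf_dvd_card' (G := D.M) p (by rw [D.card_M]; exact hd)
    exact ⟨f, by rw [← hf, ← Subgroup.orderOf_coe], hfM⟩
  exact ⟨{ V := D.V
           M := D.M
           t_mem := D.t_mem
           card_V := D.card_V
           V_sq := D.V_sq
           V_conj := D.V_conj
           card_H := D.card_H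
           card_M := D.card_M
           M_eq := D.M_eq
           five := exq 5 (by norm_num) (by norm_num)
           seven := exq 7 (by norm_num) (by norm_num)
           cent_five := fun _ hf _ hv hv1 hfM _ h1 h2 =>
             Odd.cent D Q (Or.inl rfl) hf hfM hv hv1 h1 h2
           aut_five := fun _ hf hfM => Odd.aut_five D Q hf hfM
           cent_seven := fun _ hf _ hv hv1 hfM _ h1 h2 =>
             Odd.cent D Q (Or.inr rfl) hf hfM hv hv1 h1 h2
           aut_seven := fun _ hf hfM => Odd.aut_seven D Q hf hfM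
           pairs_t := Odd.pairs_t D Q }⟩

end CfsgLib.Small.SuzOrder
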