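import Cfsg.Agent.Lib.Small.SuzOrder.SylowFive

/-!
The normaliser of a Sylow 5-subgroup and the two classes of subgroups of order five.
-/

set_option autoImplicit false
set_option linter.style.haveILetI false
set_option linter.unusedSectionVars false

namespace CfsgLib.Small.SuzOrder

open Subgroup
open scoped Pointwise

universe u

variable {G : Type u} [Group G] {z t : G}

theorem card_sylow_five [Finite G] (hG : Nat.card G = 448345497600) (P : Sylow 5 G) :
    Nat.card (P : Subgroup G) = 25 := by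
  haveI : Fact (Nat.Prime 5) := ⟨by norm_num⟩
  rw [P.card_eq_multiplicity, hG,
    show (448345497600 : ℕ) = 5 ^ 2 * 17933819904 by norm_num,
    Nat.factorization_mul (by norm_num) (by norm_num), Finsupp.add_apply,
    Nat.Prime.factorization_pow (by norm_num), Finsupp.single_eq_same,
    Nat.factorization_eq_zero_of_not_dvd (n := 17933819904) (p := 5) (by norm_num)]
  norm_num

/-- What the endgame needs about an element `f` of order five of `P`. -/
structure FiveFacts (P : Subgroup G) (f : G) : Prop where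
  mem : f ∈ P
  ord : orderOf f = 5
  card_nc : Nat.card ↥(normalizer (P : Set G) ⊓ centralizer ({f} : Set G)) = 50
  self_cent : ∀ g : G, (∀ x ∈ P, g * x = x * g) → g ∈ P
  square : ∃ n ∈ normalizer (P : Set G), n * f * n⁻¹ = f ^ 2

theorem FiveFacts.conj [Finite G] {P : Subgroup G} {f : G} (h : FiveFacts P f) (g : G) :
    FiveFacts (P.map (MulAut.conj g).toMonoidHom) (g * f * g⁻¹) := by
  have hn := Subgroup.map_equiv_normalizer_eq P (MulAut.conj g)
  refine ⟨⟨f, h.mem, rfl⟩, ?_, ?_, ?_, ?_⟩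
  · rw [← MulAut.conj_apply, MulEquiv.orderOf_eq, h.ord]
  · have e : normalizer ((P.map (MulAut.conj g).toMonoidHom : Subgroup G) : Set G) ⊓
        centralizer ({g * f * g⁻¹} : Set G) =
        (normalizer (P : Set G) ⊓ centralizer ({f} : Set G)).map (MulAut.conj g).toMonoidHom := by
      rw [Subgroup.map_inf _ _ _ (MulAut.conj g).injective, hn]
      congr 1
      rw [← centralizer_closure {g * f * g⁻¹}, ← centralizer_closure {f}, map_centralizer_conj,
        MonoidHom.map_closure, Set.image_singleton]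
      rfl
    rw [e, Nat.card_congr (equivMapOfInjective _ _ (MulAut.conj g).injective).toEquiv.symm,
      h.card_nc]
  · intro y hy
    refine ⟨g⁻¹ * y * g, h.self_cent _ fun x hx => ?_, by simp [MulAut.conj_apply, mul_assoc]⟩
    have := hy _ ⟨x, hx, rfl⟩
    simp only [MulEquiv.toMonoidHom_eq_coe, MonoidHom.coe_coe, MulAut.conj_apply] at this
    calc g⁻¹ * y * g * x = g⁻¹ * (y * (g * x * g⁻¹)) * g := by group
      _ = g⁻¹ * (g * x * g⁻¹ * y) * g := by rw [this]
      _ = x * (g⁻¹ * y * g) := by group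
  · obtain ⟨n, hn', hnf⟩ := h.square
    refine ⟨g * n * g⁻¹, hn ▸ ⟨n, hn', rfl⟩, ?_⟩
    rw [conj_pow, ← hnf]; group

theorem fiveFacts [Finite G] (L : Loc z t) (S : Second z t) (P : Sylow 5 G) :
    ∃ f, FiveFacts (P : Subgroup G) f := by
  haveI : Fact (Nat.Prime 5) := ⟨by norm_num⟩
  have hG := card_eq L S
  obtain ⟨f, hf, hfM⟩ := S.five
  obtain ⟨Q, hQ⟩ := (IsPGroup.of_card (p := 5) (n := 1) (G := zpowers f)
    (by rw [Nat.card_zpowers, hf, pow_one])).exists_le_sylow
  suffices hmain : FiveFacts (Q : Subgroup G) f by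
    obtain ⟨g, hg⟩ := MulAction.exists_smul_eq G Q P
    refine ⟨g * f * g⁻¹, ?_⟩
    have h : (P : Subgroup G) = (Q : Subgroup G).map (MulAut.conj g).toMonoidHom := by
      rw [← hg, Sylow.coe_subgroup_smul]; rfl
    rw [h]
    exact hmain.conj g
  have hQc := card_sylow_five hG Q
  have hcomm : ∀ R : Sylow 5 G, ∀ a ∈ (R : Subgroup G), ∀ b ∈ (R : Subgroup G), a * b = b * a :=
    fun R a ha b hb => congrArg Subtype.val ((IsPGroup.isMulCommutative_of_card_eq_prime_sq (p := 5)
      (G := (R : Subgroup G)) (card_sylow_five hG R)).is_comm.comm ⟨a, ha⟩ ⟨b, hb⟩)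
  have hfQ : f ∈ (Q : Subgroup G) := hQ (mem_zpowers f)
  obtain ⟨hZn, hodd, hZ, hK, hcZ, hC⟩ := S.cent_setup hfM (Or.inl hf)
  set X := centralizer ((zpowers f : Subgroup G) : Set G) with hX
  have hXf : X = centralizer ({f} : Set G) := by
    rw [hX, zpowers_eq_closure, centralizer_closure]
  set Z := (zpowers f).subgroupOf X
  set V := S.V.subgroupOf X
  have hQX : (Q : Subgroup G) ≤ X := fun a ha => hXf ▸ mem_centralizer_singleton_iff.2
    (hcomm Q a ha f hfQ)
  set QX := (Q : Subgroup G).subgroupOf X with hQXdef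
  have hQXc : Nat.card QX = 25 := by
    rw [Nat.card_congr (subgroupOfEquivOfLe hQX).toEquiv, hQc]
  have h25 : 25 ∣ Nat.card X := hQc ▸ card_dvd_of_le hQX
  obtain ⟨hcX, hsimple⟩ : Nat.card X = 300 ∧ IsSimpleGroup (X ⧸ Z) := by
    rcases card_cases_quot Z hodd hZ V hC with e | ⟨e, -⟩ | ⟨e, hs⟩ <;> rw [hcZ, hf] at e
    · rw [e] at h25; norm_num at h25
    · rw [e] at h25; norm_num at h25
    · exact ⟨e, hs⟩
  have hidx : Z.index = 60 := by
    have h := Z.card_mul_index
    rw [hcZ, hf, hcX] at h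
    omega
  set π := QuotientGroup.mk' Z with hπ
  have hπs : Function.Surjective π := QuotientGroup.mk'_surjective Z
  set Qb := QX.map π with hQb
  have hcomap : Qb.comap π = QX := by
    rw [hQb, comap_map_eq_self]
    rw [hπ, QuotientGroup.ker_mk']
    intro a ha
    exact hQ ha
  have hQbc : Nat.card Qb = 5 := by
    have h1 := QX.card_mul_index
    have h2 := Qb.card_mul_index
    rw [← index_comap_of_surjective Qb hπs, hcomap, show Nat.card (X ⧸ Z) = 60 from hidx] at h2
    rw [hQXc, hcX] at h1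
    rw [show QX.index = 12 by omega] at h2
    omega
  obtain ⟨hNb, hCb⟩ := sixty hidx hsimple Qb hQbc
  refine ⟨hfQ, hf, ?_, ?_, ?_⟩
  · have h3 : normalizer (QX : Set X) = (normalizer (Qb : Set (X ⧸ Z))).comap π := by
      rw [comap_normalizer_eq_of_surjective Qb hπs, hcomap]
    have h4 : Nat.card ↥(normalizer (QX : Set X)) = 50 := by
      have h1 := (normalizer (QX : Set X)).card_mul_index
      have h2 := (normalizer (Qb : Set (X ⧸ Z))).card_mul_index
      rw [hNb, show Nat.card (X ⧸ Z) = 60 from hidx] at h2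
      rw [h3, index_comap_of_surjective _ hπs, hcX,
        show (normalizer (Qb : Set (X ⧸ Z))).index = 6 by omega, ← h3] at h1
      omega
    rw [← h4, hQXdef, ← subgroupOf_normalizer_eq hQX, ← inf_subgroupOf_right, ← hXf]
    exact Nat.card_congr (subgroupOfEquivOfLe inf_le_right).toEquiv.symm
  · intro g hg
    have hgX : g ∈ X := hXf ▸ mem_centralizer_singleton_iff.2 (hg f hfQ)
    have h1 : π ⟨g, hgX⟩ ∈ centralizer (Qb : Set (X ⧸ Z)) := by
      refine mem_centralizer_iff.2 ?_
      rintro _ ⟨x, hx, rfl⟩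
      rw [← map_mul, ← map_mul]
      exact congrArg π (Subtype.ext (hg _ hx).symm)
    have hle : Qb ≤ centralizer (Qb : Set (X ⧸ Z)) := by
      rintro _ ⟨x, hx, rfl⟩
      refine mem_centralizer_iff.2 ?_
      rintro _ ⟨y, hy, rfl⟩
      rw [← map_mul, ← map_mul]
      exact congrArg π (Subtype.ext (hcomm Q _ hy _ hx))
    rw [← eq_of_le_of_card_ge hle (by rw [hCb, hQbc]), ← mem_comap, hcomap] at h1
    exact h1
  · obtain ⟨g, -, hgf⟩ := S.aut_five f hf hfM
    have hf2 : f ^ 2 ∈ ((g • Q : Sylow 5 G) : Subgroup G) := by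
      rw [← hgf, Sylow.coe_subgroup_smul]
      exact ⟨f, hfQ, rfl⟩
    have hgQX : ((g • Q : Sylow 5 G) : Subgroup G) ≤ X := fun a ha => by
      rw [hXf]
      refine mem_centralizer_singleton_iff.2 ?_
      have h := hcomm _ a ha _ hf2
      have h5 : (f ^ 2) ^ 3 = f := by
        rw [← pow_mul, pow_succ f 5, ← hf, pow_orderOf_eq_one, one_mul]
      rw [← h5]
      exact ((show Commute a (f ^ 2) from h).pow_right 3).eq
    obtain ⟨c, hc⟩ := MulAction.exists_smul_eq X ((g • Q).subtype hgQX) (Q.subtype hQX)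
    have hcn : (c : G) • (g • Q) = Q := by
      apply Sylow.subtype_injective (N := X) (hP := ?_) (hQ := hQX)
      · rw [Sylow.smul_subtype] at hc; exact hc
    refine ⟨c * g, ?_, ?_⟩
    · rw [← mul_smul] at hcn
      exact Sylow.smul_eq_iff_mem_normalizer.1 hcn
    · have h2 : (c : G) * f = f * c := mem_centralizer_singleton_iff.1 (hXf ▸ c.2)
      calc (c : G) * g * f * (c * g)⁻¹ = c * (g * f * g⁻¹) * (c : G)⁻¹ := by group
        _ = c * f ^ 2 * (c : G)⁻¹ := by rw [hgf]
        _ = f ^ 2 := by rw [((show Commute (c : G) f from h2).pow_right 2).eq, mul_inv_cancel_right]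

/-! ### A group of order 24 with a central cyclic subgroup of order four -/

theorem orderOf_dvd_card_of_mem {Q : Type u} [Group Q] {H : Subgroup Q} {x : Q} (hx : x ∈ H) :
    orderOf x ∣ Nat.card H := by
  rw [← Subgroup.orderOf_mk x hx]; exact orderOf_dvd_natCard _

theorem perm_inv_of_orders : ∀ σ τ : Equiv.Perm (Fin 3), σ * σ = 1 → σ ≠ 1 →
    τ * τ * τ = 1 → τ ≠ 1 → σ * τ * σ⁻¹ = τ⁻¹ := by decide

theorem four_times_sym {Q : Type u} [Group Q] [Finite Q] {O : Type u}
    (hO : Nat.card O = 3) (ε : Q →* Equiv.Perm O) (hε : Function.Surjective ε) {k : Q}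
    (hk : orderOf k = 4) (hker : ε.ker = zpowers k) (hcen : ∀ q, q * k = k * q) {u : Q}
    (hu : u * u = 1) (huε : ε u ≠ 1) :
    Nonempty (Q ≃* Multiplicative (ZMod 4) × Equiv.Perm (Fin 3)) := by
  classical
  haveI : Finite O := Nat.finite_of_card_ne_zero (by omega)
  let e3 : Equiv.Perm O ≃* Equiv.Perm (Fin 3) :=
    ((Finite.equivFin O).trans (finCongr hO)).permCongrHom
  have hperm : Nat.card (Equiv.Perm O) = 6 := by
    rw [Nat.card_congr e3.toEquiv, Nat.card_perm, Nat.card_fin]; rfl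
  have hQ : Nat.card Q = 24 := by
    have h := ε.ker.card_mul_index
    rw [index_ker, MonoidHom.range_eq_top.2 hε, card_top, hperm, hker, Nat.card_zpowers, hk] at h
    omega
  haveI : Fact (Nat.Prime 3) := ⟨Nat.prime_three⟩
  obtain ⟨c, hc⟩ := exists_prime_orderOf_dvd_card' (G := Q) 3 (by rw [hQ]; norm_num)
  have hc3 : c * c * c = 1 := by rw [← pow_three', ← hc, pow_orderOf_eq_one]
  have hkn : ∀ x : Q, x ∈ zpowers k → x ^ 4 = 1 := fun x hx => by
    have h : orderOf x ∣ 4 := by
      rw [← hk, ← Nat.card_zpowers k, ← Subgroup.orderOf_mk x hx]; exact orderOf_dvd_natCard _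
    exact orderOf_dvd_iff_pow_eq_one.1 h
  have hcε : ε c ≠ 1 := fun h => by
    have h4 := orderOf_dvd_of_pow_eq_one (hkn c (hker ▸ h))
    rw [hc] at h4
    norm_num at h4
  have hconj : u * c * u⁻¹ = c⁻¹ := by
    have hm : u * c * u⁻¹ * c ∈ zpowers k := by
      rw [← hker, MonoidHom.mem_ker]
      apply e3.injective
      have h := perm_inv_of_orders (e3 (ε u)) (e3 (ε c)) (by rw [← map_mul, ← map_mul, hu, map_one, map_one])
        (fun h => huε (e3.injective (h.trans (map_one e3).symm)))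
        (by rw [← map_mul, ← map_mul, ← map_mul, ← map_mul, hc3, map_one, map_one])
        (fun h => hcε (e3.injective (h.trans (map_one e3).symm)))
      simp only [map_mul, map_inv, h, inv_mul_cancel, map_one]
    set m := u * c * u⁻¹ * c with hmdef
    have hmc : Commute c m := by
      obtain ⟨j, hj⟩ := mem_zpowers_iff.1 hm
      rw [← hj]
      exact Commute.zpow_right (hcen c) j
    have h1 : m * c⁻¹ = u * c * u⁻¹ := by rw [hmdef]; group
    have h3 : m ^ 3 = 1 := by
      have e : (m * c⁻¹) ^ 3 = 1 := by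
        rw [h1, conj_pow, pow_three', hc3]; group
      rw [hmc.symm.inv_right.mul_pow, inv_pow, pow_three' c, hc3, inv_one, mul_one] at e
      exact e
    have hm1 : m = 1 := orderOf_eq_one_iff.1 (Nat.eq_one_of_dvd_coprimes (by norm_num : Nat.Coprime 3 4)
      (orderOf_dvd_of_pow_eq_one h3) (orderOf_dvd_of_pow_eq_one (hkn m hm)))
    rw [← h1, hm1, one_mul]
  have hle : zpowers u ≤ normalizer ((zpowers c : Subgroup Q) : Set Q) := by
    refine zpowers_le.2 (mem_normalizer_iff_map_conj_eq.2 ?_)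
    rw [MonoidHom.map_zpowers]
    show zpowers (u * c * u⁻¹) = _
    rw [hconj, zpowers_inv]
  set R := zpowers u ⊔ zpowers c with hR
  set ρ := ε.comp R.subtype
  have hinj : Function.Injective ρ := by
    rw [injective_iff_map_eq_one]
    rintro ⟨r, hr⟩ h
    change ε r = 1 at h
    have hr' : r ∈ (zpowers u : Set Q) * (zpowers c : Set Q) := by
      rw [← coe_mul_of_left_le_normalizer_right _ _ hle]; exact hr
    obtain ⟨a, ha, b, hb, rfl⟩ := Set.mem_mul.1 hr'
    have hdvd : ∀ {x : Q} {n : ℕ}, x ^ n = 1 → ∀ y ∈ zpowers x, orderOf (ε y) ∣ n := by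
      intro x n hx y hy
      obtain ⟨j, rfl⟩ := mem_zpowers_iff.1 hy
      refine orderOf_dvd_of_pow_eq_one ?_
      rw [← map_pow, ← zpow_natCast, ← zpow_mul, mul_comm, zpow_mul, zpow_natCast, hx, one_zpow,
        map_one]
    have h2 : orderOf (ε a) ∣ 2 := hdvd (by rw [sq, hu]) a ha
    have h3 : orderOf (ε b) ∣ 3 := hdvd (by rw [pow_three', hc3]) b hb
    rw [map_mul] at h
    rw [eq_inv_of_mul_eq_one_left h, orderOf_inv] at h2
    have hb1 : ε b = 1 := orderOf_eq_one_iff.1 (Nat.eq_one_of_dvd_coprimes (by norm_num) h2 h3)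
    rw [hb1, mul_one] at h
    have hker' : ∀ {x : Q} {n : ℕ}, x ^ n = 1 → ∀ y ∈ zpowers x, ε y = 1 → orderOf y ∣ n := by
      intro x n hx y hy _
      obtain ⟨j, rfl⟩ := mem_zpowers_iff.1 hy
      refine orderOf_dvd_of_pow_eq_one ?_
      rw [← zpow_natCast, ← zpow_mul, mul_comm, zpow_mul, zpow_natCast, hx, one_zpow]
    have a1 : a = 1 := by
      have hd := hker' (by rw [sq, hu] : u ^ 2 = 1) a ha h
      rcases (Nat.dvd_prime Nat.prime_two).1 hd with e | e
      · exact orderOf_eq_one_iff.1 e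
      · exfalso
        have hz : zpowers a = zpowers u := eq_of_le_of_card_ge (zpowers_le.2 ha) (by
          rw [Nat.card_zpowers, Nat.card_zpowers, e]
          exact Nat.le_of_dvd (by norm_num) (orderOf_dvd_of_pow_eq_one (by rw [sq, hu])))
        have hu' : u ∈ zpowers a := hz ▸ mem_zpowers u
        obtain ⟨j, hj⟩ := mem_zpowers_iff.1 hu'
        exact huε (by rw [← hj, map_zpow, h, one_zpow])
    have b1 : b = 1 := orderOf_eq_one_iff.1 (Nat.eq_one_of_dvd_coprimes (by norm_num : Nat.Coprime 4 3)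
      (orderOf_dvd_of_pow_eq_one (hkn b (hker ▸ hb1)))
      (hker' (by rw [pow_three', hc3] : c ^ 3 = 1) b hb hb1))
    exact Subtype.ext (by simp [a1, b1])
  have huR : u ∈ R := mem_sup_left (mem_zpowers u)
  have hcR : c ∈ R := mem_sup_right (mem_zpowers c)
  have hρs : Function.Surjective ρ := by
    rw [← MonoidHom.range_eq_top]
    refine eq_top_of_le_card _ ?_
    have h2 : orderOf (ε u) = 2 := orderOf_eq_prime (by rw [← map_pow, sq, hu, map_one]) huε
    have h3 : orderOf (ε c) = 3 := orderOf_eq_prime (by rw [← map_pow, pow_three', hc3, map_one]) hcε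
    have d2 : 2 ∣ Nat.card ρ.range := by
      rw [← h2]
      exact orderOf_dvd_card_of_mem (MonoidHom.mem_range.2 ⟨⟨u, huR⟩, rfl⟩)
    have d3 : 3 ∣ Nat.card ρ.range := by
      rw [← h3]
      exact orderOf_dvd_card_of_mem (MonoidHom.mem_range.2 ⟨⟨c, hcR⟩, rfl⟩)
    rw [hperm]
    exact Nat.le_of_dvd Nat.card_pos (Nat.Coprime.mul_dvd_of_dvd_of_dvd (by norm_num) d2 d3)
  let eR : ↥R ≃* Equiv.Perm O := MulEquiv.ofBijective ρ ⟨hinj, hρs⟩
  let φ : ↥(zpowers k) × ↥R →* Q := MonoidHom.noncommCoprod (zpowers k).subtype R.subtype (by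
    rintro ⟨a, ha⟩ ⟨b, -⟩
    obtain ⟨j, rfl⟩ := mem_zpowers_iff.1 ha
    exact (Commute.zpow_right (hcen b) j).symm)
  have hφ : Function.Bijective φ := by
    rw [Nat.bijective_iff_injective_and_card]
    refine ⟨?_, by rw [Nat.card_prod, Nat.card_zpowers, hk, Nat.card_congr eR.toEquiv, hperm, hQ]⟩
    rw [injective_iff_map_eq_one]
    rintro ⟨⟨a, ha⟩, ⟨b, hb⟩⟩ h
    change a * b = 1 at h
    have hb' : ε b = 1 := by
      have ha' : ε a = 1 := MonoidHom.mem_ker.1 (hker ▸ ha)
      have := congrArg ε h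
      rwa [map_mul, ha', one_mul, map_one] at this
    have hb1 : (⟨b, hb⟩ : R) = 1 := hinj (by rw [map_one]; exact hb')
    have hb2 : b = 1 := congrArg Subtype.val hb1
    rw [hb2, mul_one] at h
    exact Prod.ext (Subtype.ext h) (Subtype.ext hb2)
  let ek : ↥(zpowers k) ≃* Multiplicative (ZMod 4) :=
    haveI := isCyclic_zpowers k
    mulEquivOfCyclicCardEq (by rw [Nat.card_zpowers, hk]; simp)
  exact ⟨(MulEquiv.ofBijective φ hφ).symm.trans (MulEquiv.prodCongr ek (eR.trans e3))⟩

/-! ### The Sylow 5-subgroups -/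

theorem sylow_five [Finite G] (L : Loc z t) (S : Second z t) (P : Sylow 5 G) :
    (∃ A B : Subgroup G, Nat.card A = 5 ∧ Nat.card B = 5 ∧
        (∀ g : G, A.map (MulAut.conj g).toMonoidHom ≠ B) ∧
        ∀ C : Subgroup G, Nat.card C = 5 → ∃ g : G,
          C.map (MulAut.conj g).toMonoidHom = A ∨ C.map (MulAut.conj g).toMonoidHom = B) ∧
      Nat.card (P : Subgroup G) = 25 ∧
      Nat.card ↥(normalizer ((P : Subgroup G) : Set G)) = 600 ∧
      Nonempty (↥(normalizer ((P : Subgroup G) : Set G)) ⧸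
          (P : Subgroup G).subgroupOf (normalizer ((P : Subgroup G) : Set G)) ≃*
        Multiplicative (ZMod 4) × Equiv.Perm (Fin 3)) := by
  classical
  haveI : Fact (Nat.Prime 5) := ⟨by norm_num⟩
  have hG := card_eq L S
  have hP := card_sylow_five hG P
  obtain ⟨f, hfP, hf, hnc, hself, n, hn, hnf⟩ := fiveFacts L S P
  have hcomm : ∀ R : Sylow 5 G, ∀ a ∈ (R : Subgroup G), ∀ b ∈ (R : Subgroup G), a * b = b * a :=
    fun R a ha b hb => congrArg Subtype.val ((IsPGroup.isMulCommutative_of_card_eq_prime_sq (p := 5)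
      (G := (R : Subgroup G)) (card_sylow_five hG R)).is_comm.comm ⟨a, ha⟩ ⟨b, hb⟩)
  set N := normalizer ((P : Subgroup G) : Set G) with hN
  have hPN : (P : Subgroup G) ≤ N := le_normalizer
  set W := N ⊓ centralizer ({f} : Set G) with hW
  have hPW : (P : Subgroup G) ≤ W := le_inf hPN fun a ha =>
    mem_centralizer_singleton_iff.2 (hcomm P a ha f hfP)
  set L0s := zpowers f with hL0s
  have hL0c : Nat.card L0s = 5 := by rw [hL0s, Nat.card_zpowers, hf]
  haveI : IsCyclic L0s := isCyclic_zpowers f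
  have hautc : Nat.card (MulAut L0s) = 4 := by
    rw [IsCyclic.card_mulAut, hL0c, Nat.totient_prime (by norm_num)]
  let L0 : Line (P : Subgroup G) := ⟨L0s, zpowers_le.2 hfP, hL0c⟩
  -- the stabiliser of the line of `f`
  set T := N ⊓ normalizer (L0s : Set G) with hT
  let ψ : ↥T →* MulAut L0s := (normalizerMonoidHom L0s).comp (inclusion inf_le_right)
  have hn' : n ∈ normalizer (L0s : Set G) := by
    refine mem_normalizer_iff_map_conj_eq.2 (eq_of_le_of_card_ge ?_
      (card_map_of_injective (MulAut.conj n).injective).ge)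
    rw [hL0s, MonoidHom.map_zpowers]
    show zpowers (n * f * n⁻¹) ≤ _
    rw [hnf]
    exact zpowers_le.2 (pow_mem (mem_zpowers f) 2)
  have hψval : ∀ x : T, ((ψ x) ⟨f, mem_zpowers f⟩ : G) = (x : G) * f * (x : G)⁻¹ := fun x => rfl
  set nT : T := ⟨n, hn, hn'⟩ with hnT
  have hf4 : f ^ 4 ≠ f := fun h => by
    have h3 : f ^ 3 = 1 := by
      rw [pow_succ] at h
      exact mul_eq_right.1 h
    have := orderOf_dvd_of_pow_eq_one h3
    rw [hf] at this
    norm_num at this
  have hn2 : n ^ 2 * f * (n ^ 2)⁻¹ = f ^ 4 := by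
    rw [show n ^ 2 * f * (n ^ 2)⁻¹ = n * (n * f * n⁻¹) * n⁻¹ by rw [sq]; group, hnf, ← conj_pow, hnf,
      ← pow_mul]
  have hψn : orderOf (ψ nT) = 4 := by
    refine orderOf_eq_prime_pow (p := 2) (n := 1) ?_ ?_
    · intro h
      have h' := congrArg (fun α : MulAut L0s => (α ⟨f, mem_zpowers f⟩ : G)) h
      simp only [pow_one, ← map_pow, hψval, MulAut.one_apply] at h'
      exact hf4 (hn2.symm.trans h')
    · refine orderOf_dvd_iff_pow_eq_one.1 ?_
      rw [show (2 : ℕ) ^ (1 + 1) = Nat.card (MulAut L0s) by rw [hautc]; rfl]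
      exact orderOf_dvd_natCard _
  have hψs : Function.Surjective ψ := by
    rw [← MonoidHom.range_eq_top]
    refine eq_top_of_le_card _ ?_
    rw [hautc]
    refine Nat.le_of_dvd Nat.card_pos ?_
    rw [← hψn]
    exact orderOf_dvd_card_of_mem (MonoidHom.mem_range.2 ⟨nT, rfl⟩)
  have hkerψ : ∀ x : T, x ∈ ψ.ker ↔ (x : G) * f = f * (x : G) := by
    intro x
    rw [MonoidHom.mem_ker]
    constructor
    · intro h
      have h' := congrArg (fun α : MulAut L0s => (α ⟨f, mem_zpowers f⟩ : G)) h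
      simp only [hψval, MulAut.one_apply] at h'
      exact mul_inv_eq_iff_eq_mul.1 h'
    · intro h
      refine MulEquiv.ext fun a => Subtype.ext ?_
      obtain ⟨j, hj⟩ := mem_zpowers_iff.1 a.2
      show (x : G) * a * (x : G)⁻¹ = a
      rw [← hj, ((show Commute (x : G) f from h).zpow_right j).eq, mul_inv_cancel_right]
  have hTc : Nat.card T = 200 := by
    have h1 := ψ.ker.card_mul_index
    rw [index_ker, MonoidHom.range_eq_top.2 hψs, card_top, hautc] at h1
    have e : Nat.card ψ.ker = 50 := by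
      rw [← hnc]
      refine Nat.card_congr
        { toFun := fun x => ⟨x.1.1, x.1.2.1, mem_centralizer_singleton_iff.2 ((hkerψ _).1 x.2)⟩
          invFun := fun y => ⟨⟨y.1, y.2.1, ?_⟩, (hkerψ _).2 (mem_centralizer_singleton_iff.1 y.2.2)⟩
          left_inv := fun x => rfl
          right_inv := fun y => rfl }
      refine centralizer_le_normalizer _ ?_
      rw [hL0s, zpowers_eq_closure, centralizer_closure]
      exact y.2.2
    omega
  -- orbits on the lines
  have h5 : ∀ a ∈ (P : Subgroup G), a ^ 5 = 1 := by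
    intro a ha
    have hd : orderOf a ∣ 5 ^ 2 := by
      rw [show 5 ^ 2 = Nat.card (P : Subgroup G) from hP.symm, ← Subgroup.orderOf_mk a ha]
      exact orderOf_dvd_natCard _
    obtain ⟨i, hi, hia⟩ := (Nat.dvd_prime_pow (by norm_num)).1 hd
    by_contra hne
    have hi2 : i = 2 := by
      by_contra h
      refine hne (orderOf_dvd_iff_pow_eq_one.1 ?_)
      rw [hia]
      exact (pow_dvd_pow 5 (show i ≤ 1 by omega)).trans (by rw [pow_one])
    rw [hi2] at hia
    norm_num at hia
    -- a cyclic group would leave no room for an element of order four on `f`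
    have hgen : ∀ x ∈ (P : Subgroup G), x ∈ zpowers a := fun x hx => by
      rwa [eq_of_le_of_card_ge (zpowers_le.2 ha) (by rw [hP, Nat.card_zpowers, hia])]
    haveI : IsCyclic (P : Subgroup G) := ⟨⟨⟨a, ha⟩, fun x => by
      obtain ⟨j, hj⟩ := mem_zpowers_iff.1 (hgen x x.2)
      exact mem_zpowers_iff.2 ⟨j, Subtype.ext (by simpa using hj)⟩⟩⟩
    -- an element of `W` outside `P` would centralise `P`
    have hcyc : Nat.card (MulAut (P : Subgroup G)) = 20 := by
      rw [IsCyclic.card_mulAut, hP]; decide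
    obtain ⟨w, hw, hwP⟩ : ∃ w ∈ W, w ∉ (P : Subgroup G) := by
      refine SetLike.exists_of_lt (lt_of_le_of_ne hPW fun h => ?_)
      have := hnc
      rw [← h, hP] at this
      omega
    have hwconj : w * a * w⁻¹ ∈ zpowers a := hgen _ ((mem_normalizer_iff.1 hw.1 a).1 ha)
    obtain ⟨j, hj⟩ := (isOfFinOrder_of_finite a).mem_powers_iff_mem_zpowers.2 hwconj
    dsimp only at hj
    obtain ⟨i, hi⟩ := (isOfFinOrder_of_finite a).mem_powers_iff_mem_zpowers.2 (hgen f hfP)
    dsimp only at hi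
    have hfix : a ^ (j * i) = a ^ i := by
      rw [pow_mul, hj, conj_pow, hi, mem_centralizer_singleton_iff.1 hw.2, mul_inv_cancel_right]
    rw [pow_eq_pow_iff_modEq, hia] at hfix
    have hi5 : i % 25 = 5 ∨ i % 25 = 10 ∨ i % 25 = 15 ∨ i % 25 = 20 := by
      have h1 : a ^ (i * 5) = 1 := by rw [pow_mul, hi, ← hf, pow_orderOf_eq_one]
      have h2 : ¬ a ^ i = 1 := fun h => by rw [← hi, h, orderOf_one] at hf; omega
      rw [← orderOf_dvd_iff_pow_eq_one, hia] at h1 h2
      omega
    have hj1 : j % 5 = 1 := by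
      rw [Nat.ModEq, Nat.mul_mod] at hfix
      have : j % 25 < 25 := Nat.mod_lt _ (by norm_num)
      have e5 : j % 5 = (j % 25) % 5 := (Nat.mod_mod_of_dvd j (by norm_num)).symm
      rw [e5]
      rcases hi5 with e | e | e | e <;> rw [e] at hfix <;> omega
    -- so a power prime to five of `w` centralises `P`
    have hw50 : orderOf w ∣ 50 := by
      rw [← hnc, ← Subgroup.orderOf_mk w (hw : w ∈ N ⊓ centralizer ({f} : Set G))]
      exact orderOf_dvd_natCard _
    have hw5 : w ^ 5 ∈ (P : Subgroup G) := by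
      refine hself _ fun x hx => ?_
      obtain ⟨m, rfl⟩ := (isOfFinOrder_of_finite a).mem_powers_iff_mem_zpowers.2 (hgen x hx)
      refine ((show Commute (w ^ 5) a from ?_).pow_right m).eq
      have key : ∀ k, w ^ k * a * (w ^ k)⁻¹ = a ^ (j ^ k) := by
        intro k
        induction k with
        | zero => simp
        | succ k ih =>
          rw [pow_succ', show w * w ^ k * a * (w * w ^ k)⁻¹ = w * (w ^ k * a * (w ^ k)⁻¹) * w⁻¹ by
            group, ih, ← conj_pow, ← hj, ← pow_mul, pow_succ']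
      refine mul_inv_eq_iff_eq_mul.1 ((key 5).trans ?_)
      conv_rhs => rw [← pow_one a]
      rw [pow_eq_pow_iff_modEq, hia, Nat.ModEq, Nat.pow_mod]
      have : j % 25 = 1 ∨ j % 25 = 6 ∨ j % 25 = 11 ∨ j % 25 = 16 ∨ j % 25 = 21 := by omega
      rcases this with e | e | e | e | e <;> rw [e] <;> norm_num
    obtain ⟨m, hm⟩ := (isOfFinOrder_of_finite a).mem_powers_iff_mem_zpowers.2 (hgen _ hw5)
    dsimp only at hm
    refine hwP ?_
    have hw2 : w ^ 2 ∈ (P : Subgroup G) := by
      have h2 : ((P : Subgroup G).subgroupOf W).index = 2 := by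
        have h := ((P : Subgroup G).subgroupOf W).card_mul_index
        rw [Nat.card_congr (subgroupOfEquivOfLe hPW).toEquiv, hP, show Nat.card W = 50 from hnc] at h
        omega
      have h := mul_self_mem_of_index_two h2 ⟨w, hw⟩
      rw [mem_subgroupOf] at h
      rwa [sq]
    have : w = w ^ 5 * ((w ^ 2)⁻¹ * (w ^ 2)⁻¹) := by group
    rw [this]
    exact mul_mem hw5 (mul_mem (inv_mem hw2) (inv_mem hw2))
  have hΩ := card_lines hP h5
  have hstab : Nat.card (MulAction.stabilizer N L0) = 200 := by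
    rw [← hTc]
    refine Nat.card_congr
      { toFun := fun x => ⟨x.1.1, x.1.2, mem_normalizer_iff_map_conj_eq.2 (congrArg Subtype.val x.2)⟩
        invFun := fun y => ⟨⟨y.1, y.2.1⟩, Subtype.ext (mem_normalizer_iff_map_conj_eq.1 y.2.2)⟩
        left_inv := fun x => rfl
        right_inv := fun y => rfl }
  have horb : ∀ Ln : Line (P : Subgroup G),
      Nat.card (MulAction.orbit N Ln) * Nat.card (MulAction.stabilizer N Ln) = Nat.card N := by
    intro Ln
    rw [Nat.card_congr (MulAction.orbitEquivQuotientStabilizer N Ln), mul_comm]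
    exact (MulAction.stabilizer N Ln).card_mul_index
  have hle6 : ∀ s : Set (Line (P : Subgroup G)), Nat.card s ≤ 6 := fun s =>
    hΩ ▸ Nat.card_le_card_of_injective _ Subtype.val_injective
  have hO : Nat.card (MulAction.orbit N L0) = 3 := by
    have h1 := horb L0
    rw [hstab] at h1
    have h2 : Nat.card (Sylow 5 G) * Nat.card N = 448345497600 := by
      rw [P.card_eq_index_normalizer, show (normalizer (P : Set G)).index = N.index from rfl,
        mul_comm, N.card_mul_index, hG]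
    have hmod := card_sylow_modEq_one 5 G
    rw [Nat.ModEq] at hmod
    have h6 := hle6 (MulAction.orbit N L0)
    obtain ⟨k, hk⟩ : ∃ k, Nat.card (MulAction.orbit N L0) = k := ⟨_, rfl⟩
    rw [hk] at h1 h6 ⊢
    rw [← h1] at h2
    interval_cases k <;> omega
  have hN600 : Nat.card N = 600 := by rw [← horb L0, hstab, hO]
  -- the second orbit
  obtain ⟨L1, hL1⟩ : ∃ L1 : Line (P : Subgroup G), L1 ∉ MulAction.orbit N L0 := by
    by_contra h
    push Not at h
    have := Nat.card_congr (Equiv.subtypeUnivEquiv h)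
    rw [hΩ, hO] at this
    omega
  have hdisj : Disjoint (MulAction.orbit N L0) (MulAction.orbit N L1) := by
    rw [Set.disjoint_left]
    intro x hx hx'
    exact hL1 (MulAction.orbit_eq_iff.1 ((MulAction.orbit_eq_iff.2 hx').symm.trans
      (MulAction.orbit_eq_iff.2 hx)))
  have hO1 : 3 ∣ Nat.card (MulAction.orbit N L1) := by
    have h := horb L1
    rw [hN600] at h
    have hd : 3 ∣ Nat.card (MulAction.orbit N L1) * Nat.card (MulAction.stabilizer N L1) := by
      rw [h]; norm_num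
    refine (Nat.prime_three.dvd_mul.1 hd).resolve_right fun h3 => ?_
    haveI : Fact (Nat.Prime 3) := ⟨Nat.prime_three⟩
    obtain ⟨r, hr⟩ := exists_prime_orderOf_dvd_card' (G := MulAction.stabilizer N L1) 3 h3
    have hr3 : ((r : N) : G) ^ 3 = 1 := by
      rw [← SubmonoidClass.coe_pow, ← SubmonoidClass.coe_pow, ← hr, pow_orderOf_eq_one]; rfl
    haveI : Nontrivial L1.1 := Finite.one_lt_card_iff_nontrivial.1 (by rw [L1.2.2]; norm_num)
    obtain ⟨⟨x, hx⟩, hx1⟩ := exists_ne (1 : L1.1)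
    have hx1' : x ≠ 1 := fun e => hx1 (Subtype.ext e)
    have hfix := conj_mem_of_fix r.2 hx
    rw [← line_eq L1 hx hx1'] at hfix
    have hall := comm_of_fix_line hP (hcomm P) h5 hr3
      (fun y hy => (mem_normalizer_iff.1 (r : N).2 y).1 hy) (L1.2.1 hx) hx1' hfix
    have hrP : ((r : N) : G) ∈ (P : Subgroup G) :=
      hself _ fun y hy => mul_inv_eq_iff_eq_mul.1 (hall y hy)
    have : orderOf ((r : N) : G) ∣ 5 := orderOf_dvd_of_pow_eq_one (h5 _ hrP)
    rw [Subgroup.orderOf_coe, Subgroup.orderOf_coe, hr] at this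
    norm_num at this
  have hcover : ∀ Ln : Line (P : Subgroup G),
      Ln ∈ MulAction.orbit N L0 ∨ Ln ∈ MulAction.orbit N L1 := by
    have hu : Nat.card ↥(MulAction.orbit N L0 ∪ MulAction.orbit N L1) = 6 := by
      refine le_antisymm (hle6 _) ?_
      rw [Nat.card_coe_set_eq, Set.ncard_union_eq hdisj, ← Nat.card_coe_set_eq,
        ← Nat.card_coe_set_eq, hO]
      have := Nat.le_of_dvd (by
        haveI : Nonempty (MulAction.orbit N L1) := ⟨⟨L1, MulAction.mem_orbit_self _⟩⟩
        exact Nat.card_pos) hO1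
      omega
    intro Ln
    have hall : MulAction.orbit N L0 ∪ MulAction.orbit N L1 = Set.univ := by
      refine Set.eq_of_subset_of_ncard_le (Set.subset_univ _) ?_
      rw [Set.ncard_univ, hΩ, ← Nat.card_coe_set_eq, hu]
    exact (Set.ext_iff.1 hall Ln).2 trivial
  refine ⟨⟨L0.1, L1.1, L0.2.2, L1.2.2, ?_, ?_⟩, hP, hN600, ?_⟩
  · intro g hg
    refine hL1 ?_
    set y := g * f * g⁻¹ with hy
    have hyB : y ∈ L1.1 := hg ▸ ⟨f, mem_zpowers f, rfl⟩
    set Y := centralizer ({y} : Set G)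
    have hPY : (P : Subgroup G) ≤ Y := fun a ha =>
      mem_centralizer_singleton_iff.2 (hcomm P a ha y (L1.2.1 hyB))
    have hgY : ((g • P : Sylow 5 G) : Subgroup G) ≤ Y := fun a ha => by
      refine mem_centralizer_singleton_iff.2 (hcomm (g • P) a ha y ?_)
      rw [Sylow.coe_subgroup_smul]
      exact ⟨f, hfP, rfl⟩
    obtain ⟨c, hc⟩ := MulAction.exists_smul_eq Y ((g • P).subtype hgY) (P.subtype hPY)
    have hcn : (c : G) • (g • P) = P := by
      apply Sylow.subtype_injective (N := Y) (hP := ?_) (hQ := hPY)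
      · rw [Sylow.smul_subtype] at hc; exact hc
    rw [← mul_smul] at hcn
    have hcg : (c : G) * g ∈ N := Sylow.smul_eq_iff_mem_normalizer.1 hcn
    refine ⟨⟨_, hcg⟩, Subtype.ext ?_⟩
    show L0.1.map (MulAut.conj ((c : G) * g)).toMonoidHom = L1.1
    have hy1 : y ≠ 1 := fun e => by
      have : f = 1 := conj_eq_one_iff.1 e
      rw [this, orderOf_one] at hf
      omega
    rw [show L0.1 = zpowers f from rfl, MonoidHom.map_zpowers, ← line_eq L1 hyB hy1]
    congr 1
    show (c : G) * g * f * ((c : G) * g)⁻¹ = y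
    calc (c : G) * g * f * ((c : G) * g)⁻¹ = c * y * (c : G)⁻¹ := by rw [hy]; group
      _ = y := mul_inv_eq_iff_eq_mul.2 (mem_centralizer_singleton_iff.1 c.2)
  · intro C hC
    obtain ⟨Q, hQ⟩ := (IsPGroup.of_card (p := 5) (n := 1) (G := C)
      (by rw [hC, pow_one])).exists_le_sylow
    obtain ⟨g, hg⟩ := MulAction.exists_smul_eq G Q P
    let Lc : Line (P : Subgroup G) := ⟨C.map (MulAut.conj g).toMonoidHom, by
      rw [← hg, Sylow.coe_subgroup_smul]; exact map_mono hQ, by
      rw [Nat.card_congr (C.equivMapOfInjective _ (MulAut.conj g).injective).toEquiv.symm, hC]⟩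
    have key : ∀ L' : Line (P : Subgroup G), Lc ∈ MulAction.orbit N L' →
        ∃ h : G, C.map (MulAut.conj h).toMonoidHom = L'.1 := by
      rintro L' ⟨m, hm⟩
      refine ⟨(m : G)⁻¹ * g, ?_⟩
      have hm' : m⁻¹ • Lc = L' := by rw [← hm]; exact inv_smul_smul m L'
      rw [← hm']
      show _ = (C.map (MulAut.conj g).toMonoidHom).map _
      rw [Subgroup.map_map]
      congr 1
      ext x; simp [mul_assoc]
    rcases hcover Lc with h | h <;> obtain ⟨x, hx⟩ := key _ h
    exacts [⟨x, Or.inl hx⟩, ⟨x, Or.inr hx⟩]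
  · -- the quotient
    set π : N →* Equiv.Perm (MulAction.orbit N L0) := MulAction.toPermHom N _ with hπ
    have hOperm : Nat.card (Equiv.Perm (MulAction.orbit N L0)) = 6 := by
      rw [Nat.card_perm, hO]; rfl
    have hkfix : ∀ x : N, x ∈ π.ker → ∀ Ln ∈ MulAction.orbit N L0, x • Ln = Ln := by
      intro x hx Ln hLn
      exact congrArg Subtype.val (Equiv.congr_fun (MonoidHom.mem_ker.1 hx) ⟨Ln, hLn⟩)
    -- three lines of the orbit
    obtain ⟨eO⟩ : Nonempty (Fin 3 ≃ MulAction.orbit N L0) :=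
      ⟨((Finite.equivFin _).trans (finCongr hO)).symm⟩
    have hgen : ∀ i : Fin 3, ∃ a ∈ (eO i).1.1, a ≠ 1 := fun i => by
      haveI : Nontrivial (eO i).1.1 :=
        Finite.one_lt_card_iff_nontrivial.1 (by rw [(eO i).1.2.2]; norm_num)
      obtain ⟨⟨a, ha⟩, ha1⟩ := exists_ne (1 : (eO i).1.1)
      exact ⟨a, ha, fun e => ha1 (Subtype.ext e)⟩
    choose a ha ha1 using hgen
    have haP : ∀ i, a i ∈ (P : Subgroup G) := fun i => (eO i).1.2.1 (ha i)
    have haz : ∀ i, zpowers (a i) = (eO i).1.1 := fun i => line_eq _ (ha i) (ha1 i)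
    have hne : ∀ i j : Fin 3, i ≠ j → ∀ p q : ℕ, a i ^ p = a j ^ q → a i ^ p = 1 := by
      intro i j hij p q h
      by_contra h1
      have e1 := line_eq _ ((eO i).1.1.pow_mem (ha i) p) h1
      have e2 := line_eq _ (h ▸ (eO j).1.1.pow_mem (ha j) q : a i ^ p ∈ (eO j).1.1) h1
      exact hij (eO.injective (Subtype.ext (Subtype.ext (e1.symm.trans e2))))
    have hord : ∀ i, orderOf (a i) = 5 := fun i => orderOf_eq_prime (h5 _ (haP i)) (ha1 i)
    have hind : ∀ p q : ℕ, a 0 ^ p * a 1 ^ q = 1 → 5 ∣ p ∧ 5 ∣ q := by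
      intro p q h
      have hq : a 1 ^ (4 * q) = (a 1 ^ q)⁻¹ := by
        refine eq_inv_of_mul_eq_one_left ?_
        rw [← pow_add, show 4 * q + q = 5 * q by ring, pow_mul, h5 _ (haP 1), one_pow]
      have h0 : a 0 ^ p = 1 := hne 0 1 (by decide) p (4 * q) (by
        rw [hq]; exact eq_inv_of_mul_eq_one_left h)
      rw [h0, one_mul] at h
      exact ⟨hord 0 ▸ orderOf_dvd_of_pow_eq_one h0, hord 1 ▸ orderOf_dvd_of_pow_eq_one h⟩
    have hab : Commute (a 0) (a 1) := hcomm P _ (haP 0) _ (haP 1)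
    have hspan : ∀ x ∈ (P : Subgroup G), ∃ i j : ℕ, x = a 0 ^ i * a 1 ^ j := by
      let φ : Fin 5 × Fin 5 → (P : Subgroup G) := fun p =>
        ⟨a 0 ^ (p.1 : ℕ) * a 1 ^ (p.2 : ℕ), mul_mem (pow_mem (haP 0) _) (pow_mem (haP 1) _)⟩
      have hinj : Function.Injective φ := by
        rintro ⟨p, q⟩ ⟨p', q'⟩ h
        have h' : a 0 ^ (p : ℕ) * a 1 ^ (q : ℕ) = a 0 ^ (p' : ℕ) * a 1 ^ (q' : ℕ) :=
          congrArg Subtype.val h
        have h'' : a 0 ^ ((p : ℕ) + 4 * p') * a 1 ^ ((q : ℕ) + 4 * q') = 1 := by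
          rw [pow_add, pow_add,
            show a 0 ^ (p : ℕ) * a 0 ^ (4 * (p' : ℕ)) * (a 1 ^ (q : ℕ) * a 1 ^ (4 * (q' : ℕ))) =
              a 0 ^ (p : ℕ) * (a 0 ^ (4 * (p' : ℕ)) * a 1 ^ (q : ℕ)) * a 1 ^ (4 * (q' : ℕ)) by group,
            (hab.pow_pow _ _).eq, ← mul_assoc, h', mul_assoc (a 0 ^ (p' : ℕ)),
            ← (hab.pow_pow (4 * (p' : ℕ)) q').eq, ← mul_assoc, ← pow_add, mul_assoc, ← pow_add,
            show (p' : ℕ) + 4 * p' = 5 * p' by ring, show (q' : ℕ) + 4 * q' = 5 * q' by ring,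
            pow_mul, pow_mul, h5 _ (haP 0), h5 _ (haP 1), one_pow, one_pow, one_mul]
        obtain ⟨d1, d2⟩ := hind _ _ h''
        exact Prod.ext (Fin.ext (show (p : ℕ) = p' by omega)) (Fin.ext (show (q : ℕ) = q' by omega))
      have hbij := (Nat.bijective_iff_injective_and_card φ).2 ⟨hinj, by simp [hP]⟩
      intro x hx
      obtain ⟨⟨p, q⟩, hpq⟩ := hbij.2 ⟨x, hx⟩
      exact ⟨p, q, (congrArg Subtype.val hpq).symm⟩
    obtain ⟨m, l, hml⟩ := hspan _ (haP 2)
    have hm5 : ¬ 5 ∣ m := fun hd => by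
      have e : a 0 ^ m = 1 := orderOf_dvd_iff_pow_eq_one.1 ((hord 0).symm ▸ hd)
      rw [e, one_mul] at hml
      exact ha1 2 (by simpa using hne 2 1 (by decide) 1 l (by rw [pow_one, hml]))
    have hl5 : ¬ 5 ∣ l := fun hd => by
      have e : a 1 ^ l = 1 := orderOf_dvd_iff_pow_eq_one.1 ((hord 1).symm ▸ hd)
      rw [e, mul_one] at hml
      exact ha1 2 (by simpa using hne 2 0 (by decide) 1 m (by rw [pow_one, hml]))
    have hscal : ∀ x : N, x ∈ π.ker →
        ∃ i : ℕ, ∀ y ∈ (P : Subgroup G), (x : G) * y * (x : G)⁻¹ = y ^ i := by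
      intro x hx
      have hf' : ∀ i, (x : G) * a i * (x : G)⁻¹ ∈ zpowers (a i) := fun i => by
        rw [haz i]; exact conj_mem_of_fix (hkfix x hx _ (eO i).2) (ha i)
      refine scalar_of_three (hcomm P) h5 (haP 0) (haP 1) hspan hind hm5 hl5 (hf' 0) (hf' 1) ?_
      rw [← hml]; exact hf' 2
    have hscalf : ∀ x : N, x ∈ π.ker → (x : G) * f * (x : G)⁻¹ = f → (x : G) ∈ (P : Subgroup G) := by
      intro x hx hxf
      obtain ⟨i, hi⟩ := hscal x hx
      have h1 : f ^ i = f := (hi f hfP).symm.trans hxf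
      refine hself _ fun y hy => mul_inv_eq_iff_eq_mul.1 ((hi y hy).trans ?_)
      conv_rhs => rw [← pow_one y]
      conv_rhs at h1 => rw [← pow_one f]
      rw [pow_eq_pow_iff_modEq, hf] at h1
      exact pow_eq_pow_iff_modEq.2 (h1.of_dvd (orderOf_dvd_of_pow_eq_one (h5 y hy)))
    have hPker : (P : Subgroup G).subgroupOf N ≤ π.ker := fun x hx => by
      refine MonoidHom.mem_ker.2 (Equiv.ext fun Ln => Subtype.ext (Subtype.ext ?_))
      show Ln.1.1.map (MulAut.conj ((x : N) : G)).toMonoidHom = Ln.1.1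
      refine eq_of_le_of_card_ge ?_ (card_map_of_injective (MulAut.conj (x : G)).injective).ge
      rintro _ ⟨y, hy, rfl⟩
      show (x : G) * y * (x : G)⁻¹ ∈ Ln.1.1
      have hxP : (x : G) ∈ (P : Subgroup G) := hx
      rw [hcomm P _ hxP y (Ln.1.2.1 hy), mul_inv_cancel_right]
      exact hy
    -- the restriction of the kernel to the line of `f`
    have hkT : ∀ x : π.ker, ((x : N) : G) ∈ T := fun x =>
      ⟨(x : N).2, mem_normalizer_iff_map_conj_eq.2
        (congrArg Subtype.val (hkfix x x.2 L0 (MulAction.mem_orbit_self _)))⟩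
    let κ : ↥π.ker →* ↥T :=
      { toFun := fun x => ⟨((x : N) : G), hkT x⟩
        map_one' := rfl
        map_mul' := fun _ _ => rfl }
    set χ := ψ.comp κ with hχ
    have hχker : Nat.card χ.ker ≤ 25 := by
      rw [← hP]
      refine Nat.card_le_card_of_injective (fun x => (⟨((x.1 : N) : G), hscalf x.1.1 x.1.2
        (mul_inv_eq_iff_eq_mul.2 ((hkerψ (κ x.1)).1 x.2))⟩ : (P : Subgroup G))) ?_
      intro x y h
      exact Subtype.ext (Subtype.ext (Subtype.ext (congrArg Subtype.val h :)))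
    have h600 := π.ker.card_mul_index
    rw [index_ker, hN600] at h600
    have hr6 : Nat.card π.range ≤ 6 := hOperm ▸ Nat.card_le_card_of_injective _ Subtype.val_injective
    have hrχ : Nat.card χ.range ≤ 4 := hautc ▸ Nat.card_le_card_of_injective _ Subtype.val_injective
    have h100 := χ.ker.card_mul_index
    rw [index_ker] at h100
    have hk100 : Nat.card π.ker = 100 ∧ Nat.card χ.range = 4 ∧ Nat.card π.range = 6 := by
      have a1 : Nat.card χ.ker * Nat.card χ.range ≤ 25 * 4 := Nat.mul_le_mul hχker hrχ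
      have a2 : Nat.card π.ker * Nat.card π.range ≤ Nat.card π.ker * 6 := Nat.mul_le_mul_left _ hr6
      have a3 : Nat.card π.ker = 100 := by omega
      refine ⟨a3, ?_, ?_⟩
      · by_contra hne'
        have : Nat.card χ.ker * Nat.card χ.range ≤ 25 * 3 := Nat.mul_le_mul hχker (by omega)
        omega
      · rw [a3] at h600; omega
    obtain ⟨hkc, hχc, hπc⟩ := hk100
    obtain ⟨⟨k0, hk0⟩, hk0f⟩ : ∃ x : π.ker, ((x : N) : G) * f * ((x : N) : G)⁻¹ = f ^ 2 := by
      have htop : χ.range = ⊤ := eq_top_of_card_eq _ (by rw [hχc, hautc])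
      obtain ⟨x, hx⟩ : ψ nT ∈ χ.range := htop ▸ mem_top _
      refine ⟨x, ?_⟩
      have h := congrArg (fun α : MulAut L0s => (α ⟨f, mem_zpowers f⟩ : G)) hx
      exact h.trans hnf
    -- the data of the quotient
    set PN := (P : Subgroup G).subgroupOf N with hPNdef
    let ε : N ⧸ PN →* Equiv.Perm (MulAction.orbit N L0) := QuotientGroup.lift PN π hPker
    have hεs : Function.Surjective ε := by
      have hπs : Function.Surjective π := MonoidHom.range_eq_top.1
        (eq_top_of_card_eq _ (by rw [hπc, hOperm]))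
      intro σ
      obtain ⟨x, hx⟩ := hπs σ
      exact ⟨QuotientGroup.mk x, hx⟩
    have hmk1 : ∀ x : N, (QuotientGroup.mk' PN x) = 1 ↔ (x : G) ∈ (P : Subgroup G) := fun x => by
      rw [QuotientGroup.mk'_apply, QuotientGroup.eq_one_iff]; rfl
    obtain ⟨i0, hi0⟩ := hscal k0 hk0
    have hpow : ∀ (y : G), y ∈ (P : Subgroup G) → (k0 : G) * y * (k0 : G)⁻¹ = y ^ 2 := by
      intro y hy
      have h1 : f ^ i0 = f ^ 2 := (hi0 f hfP).symm.trans hk0f
      rw [pow_eq_pow_iff_modEq, hf] at h1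
      exact (hi0 y hy).trans
        (pow_eq_pow_iff_modEq.2 (h1.of_dvd (orderOf_dvd_of_pow_eq_one (h5 y hy))))
    have hk2 : (k0 : G) ^ 2 * f * ((k0 : G) ^ 2)⁻¹ = f ^ 4 := by
      rw [show (k0 : G) ^ 2 * f * ((k0 : G) ^ 2)⁻¹ = k0 * (k0 * f * (k0 : G)⁻¹) * (k0 : G)⁻¹ by rw [sq]; group,
        hk0f, ← conj_pow, hk0f, ← pow_mul]
    have hkord : orderOf (QuotientGroup.mk' PN k0) = 4 := by
      refine orderOf_eq_prime_pow (p := 2) (n := 1) ?_ ?_
      · rw [pow_one, ← map_pow, hmk1, SubmonoidClass.coe_pow]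
        intro h
        refine hf4 (hk2.symm.trans ?_)
        rw [hcomm P _ h f hfP, mul_inv_cancel_right]
      · rw [← map_pow, hmk1, SubmonoidClass.coe_pow]
        refine hself _ fun y hy => mul_inv_eq_iff_eq_mul.1 ?_
        have e : ∀ j, (k0 : G) ^ j * y * ((k0 : G) ^ j)⁻¹ = y ^ 2 ^ j := by
          intro j
          induction j with
          | zero => simp
          | succ j ih =>
            rw [pow_succ', show (k0 : G) * (k0 : G) ^ j * y * ((k0 : G) * (k0 : G) ^ j)⁻¹ =
              k0 * ((k0 : G) ^ j * y * ((k0 : G) ^ j)⁻¹) * (k0 : G)⁻¹ by group, ih, ← conj_pow,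
              hpow y hy, ← pow_mul, pow_succ']
        rw [show (2 : ℕ) ^ (1 + 1) = 4 from rfl, e 4,
          show (2 : ℕ) ^ 4 = 5 * 3 + 1 from rfl, pow_succ, pow_mul, h5 y hy, one_pow, one_mul]
    have hεker : ε.ker = zpowers (QuotientGroup.mk' PN k0) := by
      refine (eq_of_le_of_card_ge (zpowers_le.2 ?_) ?_).symm
      · exact hk0
      · rw [Nat.card_zpowers, hkord]
        have h := ε.ker.card_mul_index
        rw [index_ker, MonoidHom.range_eq_top.2 hεs, card_top, hOperm] at h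
        have h24 : Nat.card (N ⧸ PN) = 24 := by
          have := Subgroup.card_eq_card_quotient_mul_card_subgroup PN
          rw [hN600, Nat.card_congr (subgroupOfEquivOfLe hPN).toEquiv, hP] at this
          omega
        omega
    have hcen : ∀ q, q * QuotientGroup.mk' PN k0 = QuotientGroup.mk' PN k0 * q := by
      intro q
      obtain ⟨g, rfl⟩ := QuotientGroup.mk'_surjective PN q
      rw [← mul_inv_eq_iff_eq_mul, ← mul_inv_eq_one, ← map_inv, ← map_mul, ← map_mul,
        ← map_inv, ← map_mul, hmk1]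
      refine hself _ fun y hy => mul_inv_eq_iff_eq_mul.1 ?_
      simp only [Subgroup.coe_mul, Subgroup.coe_inv]
      have hy' : ((g : G))⁻¹ * ((k0 : G)⁻¹ * y * k0) * g ∈ (P : Subgroup G) := by
        have h1 : (k0 : G)⁻¹ * y * k0 ∈ (P : Subgroup G) := by
          simpa using (mem_normalizer_iff.1 (inv_mem k0.2) y).1 hy
        simpa using (mem_normalizer_iff.1 (inv_mem g.2) _).1 h1
      calc (g : G) * (k0 : G) * (g : G)⁻¹ * (k0 : G)⁻¹ * y *
            ((g : G) * (k0 : G) * (g : G)⁻¹ * (k0 : G)⁻¹)⁻¹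
          = g * ((k0 : G) * ((g : G)⁻¹ * ((k0 : G)⁻¹ * y * k0) * g) * (k0 : G)⁻¹) * (g : G)⁻¹ := by
            group
        _ = g * ((g : G)⁻¹ * ((k0 : G)⁻¹ * y * k0) * g) ^ 2 * (g : G)⁻¹ := by rw [hpow _ hy']
        _ = ((k0 : G)⁻¹ * y * k0) ^ 2 := by rw [← conj_pow]; group
        _ = (k0 : G)⁻¹ * y ^ 2 * k0 := by rw [sq, sq]; group
        _ = y := by rw [← hpow y hy]; group
    obtain ⟨w, hw, hwP⟩ : ∃ w ∈ W, w ∉ (P : Subgroup G) := by
      refine SetLike.exists_of_lt (lt_of_le_of_ne hPW fun h => ?_)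
      have := hnc
      rw [← h, hP] at this
      omega
    have hww : w * w ∈ (P : Subgroup G) := by
      have h2 : ((P : Subgroup G).subgroupOf W).index = 2 := by
        have h := ((P : Subgroup G).subgroupOf W).card_mul_index
        rw [Nat.card_congr (subgroupOfEquivOfLe hPW).toEquiv, hP, show Nat.card W = 50 from hnc] at h
        omega
      exact mul_self_mem_of_index_two h2 ⟨w, hw⟩
    refine four_times_sym hO ε hεs hkord hεker hcen (u := QuotientGroup.mk' PN ⟨w, hw.1⟩) ?_ ?_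
    · rw [← map_mul, hmk1]; exact hww
    · intro h
      exact hwP (hscalf ⟨w, hw.1⟩ h
        (mul_inv_eq_iff_eq_mul.2 (mem_centralizer_singleton_iff.1 hw.2)))

end CfsgLib.Small.SuzOrder
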