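import Cfsg.Agent.Lib.Small.SuzOrder.Pairs
import Cfsg.Agent.Lib.Small.SuzOrder.Four
import Cfsg.Agent.Lib.Small.SuzOrder.Odd
import Cfsg.Agent.Lib.Small.SuzOrder.Sylow
import Cfsg.Agent.Lib.Small.SuzOrder.Local.Sign

/-!
# The two interfaces hold in a group of Suzuki sporadic type
-/

set_option autoImplicit false

namespace CfsgLib.Small.SuzOrder

open CfsgLib.Small.SuzTwo Equiv

universe u

/-- From the local data at one pair of involutions. -/
theorem exists_data_of_local {G : Type u} [Group G] [Finite G] {z : G} {Q : Subgroup G}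
    {f : G → Fin 64} {ρ : Cz z →* Perm (Fin 64)} (M : Model z Q f ρ) {t : G}
    (ht : Img ρ t (P ixC)) (D : LocData z t) :
    ∃ L : Loc z t, Nonempty (Second z t) := by
  have ht2 : t * t = 1 := by
    rw [← sq, ← D.ord_t, pow_orderOf_eq_one]
  obtain ⟨F⟩ := fourData D
  obtain ⟨S⟩ := second D F
  exact ⟨⟨D, SignModel.pairs_z M ht ht2 (lifts M) D.card_T⟩, ⟨S⟩⟩

end CfsgLib.Small.SuzOrder
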