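import Cfsg.Agent.Lib.Small.SuzOrder.AuHom
import Cfsg.Agent.Lib.Small.SuzTwo.Orth

/-!
# The automorphism attached to an element is multiplicative and determines it up to `z`
-/

set_option autoImplicit false
set_option linter.unusedSectionVars false

namespace CfsgLib.Small.SuzOrder

open CfsgLib.Small.SuzTwo Equiv

theorem part_matOf {π : Perm (Fin 64)} (h : π ∈ O) (v : Fin 64) :
    ∀ k : ℕ, k ≤ 6 → part (matOf π) v k = π (part idMat v k)
  | 0, _ => (O_zero h).symm
  | k + 1, hk => by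
    rw [part, part, part_matOf h v k (by omega), O_add h, O_sel h]
    congr 2
    rcases k with _ | _ | _ | _ | _ | _ | k <;> rfl

theorem col_eq (a : Mat) : ∀ k : Fin 6, col a k = a.ap (col idMat k) := by
  intro k
  obtain ⟨h0, h1, h2, h3, h4, h5⟩ := ap_ev a
  fin_cases k
  exacts [h0.symm, h1.symm, h2.symm, h3.symm, h4.symm, h5.symm]

theorem col_id_ev : ∀ k : Fin 6, col idMat k = ev k := by decide +kernel

namespace SignModel

variable {G : Type*} [Group G] {z : G} {Q : Subgroup G} {f : G → Fin 64}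
  {ρ : Cz z →* Perm (Fin 64)} (M : Model z Q f ρ)

include M

omit M in
theorem lv_zero : lv Q f 0 = 1 := by simp [lv, pr, pw1, bit]

theorem lv_inj {v w : Fin 64} {a b : Bool}
    (h : lv Q f v * zp z a = lv Q f w * zp z b) : v = w ∧ a = b := by
  have h1 := congrArg f h
  have hf : ∀ (u : Fin 64) (c : Bool), f (lv Q f u * zp z c) = u := by
    intro u c
    cases c
    · rw [zp_false, mul_one, f_lv M]
    · rw [zp_true, M.f_mul_z (lv_mem M u), f_lv M]
  rw [hf, hf] at h1
  subst h1
  exact ⟨rfl, M.zp_inj (mul_left_cancel h)⟩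

/-- Every element of `Q` is a signed lift. -/
theorem eq_lv {q : G} (hq : q ∈ Q) : ∃ b, q = lv Q f (f q) * zp z b := by
  rcases M.f_eq (lv_mem M (f q)) hq (f_lv M _) with h | h
  · exact ⟨false, by rw [zp_false, mul_one]; exact h⟩
  · exact ⟨true, h⟩

theorem conj_lv {c : G} {π : Perm (Fin 64)} (hc : Img ρ c π) (v : Fin 64) :
    c * lv Q f v * c⁻¹ = lv Q f (π v) * zp z (sig Q f c v) := by
  classical
  have hf : f (c * lv Q f v * c⁻¹) = π v := by rw [M.img_conj hc (lv_mem M v), f_lv M]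
  obtain ⟨b, hb⟩ := eq_lv M (M.normal c hc.mem _ (lv_mem M v))
  rw [hf] at hb
  have : sig Q f c v = b := by
    rw [sig, hf]
    cases b
    · rw [zp_false, mul_one] at hb
      rw [decide_eq_false_iff_not, not_not]
      exact hb
    · rw [decide_eq_true_iff]
      intro he
      rw [hb] at he
      have := lv_inj M (he.trans (by rw [zp_false, mul_one]))
      exact Bool.noConfusion this.2
  rw [this]
  exact hb

theorem sig_zero {c : G} {π : Perm (Fin 64)} (hc : Img ρ c π) : sig Q f c 0 = false := by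
  have h := conj_lv M hc 0
  rw [O_zero (M.img_O hc), lv_zero, mul_one, mul_inv_cancel, one_mul] at h
  exact M.zp_inj (h.symm.trans (zp_false z).symm)

theorem sig_add {c : G} {π : Perm (Fin 64)} (hc : Img ρ c π) (v w : Fin 64) :
    sig Q f c (vadd v w) =
      ((sig Q f c v ^^ sig Q f c w) ^^ (coc v w ^^ coc (π v) (π w))) := by
  have h1 := lv_mul M v w
  have h2 : c * (lv Q f v * lv Q f w) * c⁻¹ = (c * lv Q f v * c⁻¹) * (c * lv Q f w * c⁻¹) := by
    group
  rw [h1, conj_lv M hc v, conj_lv M hc w] at h2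
  have h3 : c * (lv Q f (vadd v w) * zp z (coc v w)) * c⁻¹ =
      lv Q f (π (vadd v w)) * zp z (sig Q f c (vadd v w) ^^ coc v w) := by
    rw [M.zp_xor, ← mul_assoc (lv Q f (π (vadd v w))), ← conj_lv M hc]
    calc c * (lv Q f (vadd v w) * zp z (coc v w)) * c⁻¹
        = c * lv Q f (vadd v w) * (zp z (coc v w) * c⁻¹) := by group
      _ = c * lv Q f (vadd v w) * (c⁻¹ * zp z (coc v w)) := by
          rw [M.zp_comm _ (inv_mem hc.mem)]
      _ = _ := by group
  have h4 : lv Q f (π v) * zp z (sig Q f c v) * (lv Q f (π w) * zp z (sig Q f c w)) =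
      lv Q f (vadd (π v) (π w)) *
        zp z ((coc (π v) (π w) ^^ sig Q f c v) ^^ sig Q f c w) := by
    rw [M.zp_xor, M.zp_xor]
    calc lv Q f (π v) * zp z (sig Q f c v) * (lv Q f (π w) * zp z (sig Q f c w))
        = lv Q f (π v) * (zp z (sig Q f c v) * lv Q f (π w)) * zp z (sig Q f c w) := by group
      _ = lv Q f (π v) * lv Q f (π w) * zp z (sig Q f c v) * zp z (sig Q f c w) := by
          rw [zp_move M _ (lv_mem M _)]; group
      _ = _ := by rw [lv_mul M]; group
  rw [h3, h4] at h2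
  obtain ⟨-, h5⟩ := lv_inj M h2
  revert h5
  cases sig Q f c (vadd v w) <;> cases coc v w <;> cases sig Q f c v <;>
    cases sig Q f c w <;> cases coc (π v) (π w) <;> decide

theorem au_m {c : G} {π : Perm (Fin 64)} (hc : Img ρ c π) : (au Q f c).m = matOf π := by
  simp only [au, matOf, M.img_conj hc (lv_mem M _), f_lv M]

omit M in
theorem au_bit (c : G) (k : Fin 6) : bit (au Q f c).s k = sig Q f c (ev k) := by
  obtain ⟨h0, h1, h2, h3, h4, h5⟩ := bit_mk6 (sig Q f c 1) (sig Q f c 2) (sig Q f c 4)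
    (sig Q f c 8) (sig Q f c 16) (sig Q f c 32)
  fin_cases k <;> assumption

theorem sgn_au {c : G} {π : Perm (Fin 64)} (hc : Img ρ c π) (v : Fin 64) :
    sgn (au Q f c) v = sig Q f c v := by
  have key : ∀ k : ℕ, k ≤ 6 → sgk (au Q f c) v k = sig Q f c (part idMat v k) := by
    intro k
    induction k with
    | zero => exact fun _ => (sig_zero M hc).symm
    | succ k ih =>
      intro hk
      rw [sgk, ih (by omega), part, sig_add M hc, au_m M hc,
        part_matOf (M.img_O hc) v k (by omega),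
        col_eq _ ⟨k, by omega⟩, au_bit c ⟨k, by omega⟩, ← O_apply (M.img_O hc),
        col_id_ev ⟨k, by omega⟩]
      have h0 := coc_part v ⟨k, by omega⟩
      simp only [col_id_ev ⟨k, by omega⟩] at h0 ⊢
      cases hb : bit v k
      · simp [sel, sig_zero M hc, O_zero (M.img_O hc), coc_zero_right]
      · rw [hb] at h0
        simp only [sel, if_true] at h0 ⊢
        rw [h0]
        cases sig Q f c (part idMat v k) <;> cases sig Q f c (ev ⟨k, by omega⟩) <;>
          cases coc (π (part idMat v k)) (π (ev ⟨k, by omega⟩)) <;> rfl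
  have h := key 6 le_rfl
  rwa [part_id] at h

theorem sig_mul {c d : G} {π σ : Perm (Fin 64)} (hc : Img ρ c π) (hd : Img ρ d σ) (v : Fin 64) :
    sig Q f (c * d) v = (sig Q f d v ^^ sig Q f c (σ v)) := by
  have h := conj_lv M (hc.mul hd) v
  have h2 : c * d * lv Q f v * (c * d)⁻¹ =
      lv Q f (π (σ v)) * zp z (sig Q f c (σ v) ^^ sig Q f d v) := by
    calc c * d * lv Q f v * (c * d)⁻¹ = c * (d * lv Q f v * d⁻¹) * c⁻¹ := by group
      _ = c * lv Q f (σ v) * (zp z (sig Q f d v) * c⁻¹) := by rw [conj_lv M hd]; group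
      _ = c * lv Q f (σ v) * c⁻¹ * zp z (sig Q f d v) := by
          rw [← M.zp_comm _ (inv_mem hc.mem)]; group
      _ = _ := by rw [conj_lv M hc, M.zp_xor]; group
  rw [h2, Perm.mul_apply] at h
  rw [← (lv_inj M h).2, Bool.xor_comm]

/-- The automorphism is multiplicative. -/
theorem au_mul {c d : G} (hc : c ∈ Cz z) (hd : d ∈ Cz z) :
    au Q f (c * d) = (au Q f c).mul (au Q f d) := by
  have Ic : Img ρ c _ := Img.mk' hc
  have Id : Img ρ d _ := Img.mk' hd
  have hO := M.img_O Ic
  have hs : ∀ k : Fin 6, sig Q f (c * d) (ev k) =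
      (bit (au Q f d).s k ^^ sgn (au Q f c) (col (au Q f d).m k)) := by
    intro k
    rw [sig_mul M Ic Id, au_bit, sgn_au M Ic, au_m M Id, col_eq, col_id_ev,
      ← O_apply (M.img_O Id)]
  refine (Au.mk.injEq ..).mpr ⟨?_, ?_⟩
  · rw [au_m M Ic, au_m M Id]
    show (au Q f (c * d)).m = _
    rw [au_m M (Ic.mul Id)]
    refine mat_ext fun j => ?_
    rw [ap_mul, ← O_apply (M.img_O (Ic.mul Id)), ← O_apply hO, ← O_apply (M.img_O Id)]
    rfl
  · show mk6 (sig Q f (c * d) 1) (sig Q f (c * d) 2) (sig Q f (c * d) 4)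
      (sig Q f (c * d) 8) (sig Q f (c * d) 16) (sig Q f (c * d) 32) = _
    exact (congrArg₂ (fun a b => mk6 a b _ _ _ _) (hs 0) (hs 1)).trans (by
      rw [show sig Q f (c * d) 4 = _ from hs 2, show sig Q f (c * d) 8 = _ from hs 3,
        show sig Q f (c * d) 16 = _ from hs 4, show sig Q f (c * d) 32 = _ from hs 5]
      rfl)

/-- Equal automorphisms: equal up to `z`. -/
theorem au_inj {c d : G} (hc : c ∈ Cz z) (hd : d ∈ Cz z) (h : au Q f c = au Q f d) :
    d = c ∨ d = c * z := by
  have Ic : Img ρ c _ := Img.mk' hc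
  have Id : Img ρ d _ := Img.mk' hd
  have hπ : ρ ⟨c, hc⟩ = ρ ⟨d, hd⟩ := Equiv.ext fun v => by
    rw [O_apply (M.img_O Ic), O_apply (M.img_O Id), ← au_m M Ic, ← au_m M Id, h]
  have hq : ∀ q ∈ Q, c⁻¹ * d * q = q * (c⁻¹ * d) := by
    intro q hq
    obtain ⟨b, hb⟩ := eq_lv M hq
    have e1 : c * q * c⁻¹ = d * q * d⁻¹ := by
      rw [hb]
      calc c * (lv Q f (f q) * zp z b) * c⁻¹
          = c * lv Q f (f q) * (zp z b * c⁻¹) := by group
        _ = c * lv Q f (f q) * c⁻¹ * zp z b := by rw [← M.zp_comm _ (inv_mem hc)]; group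
        _ = d * lv Q f (f q) * d⁻¹ * zp z b := by
            rw [conj_lv M Ic, conj_lv M Id, hπ, ← sgn_au M Ic, ← sgn_au M Id, h]
        _ = d * lv Q f (f q) * (zp z b * d⁻¹) := by rw [← M.zp_comm _ (inv_mem hd)]; group
        _ = _ := by group
    calc c⁻¹ * d * q = c⁻¹ * (d * q * d⁻¹) * d := by group
      _ = c⁻¹ * (c * q * c⁻¹) * d := by rw [e1]
      _ = _ := by group
  rcases M.cent_Q (mul_mem (inv_mem hc) hd) hq with h1 | h1
  · exact Or.inl (inv_mul_eq_one.1 h1).symm
  · exact Or.inr (by rw [← h1]; group)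

theorem au_mul_z (c : G) : au Q f (c * z) = au Q f c := by
  have hz : ∀ v, c * z * lv Q f v * (c * z)⁻¹ = c * lv Q f v * c⁻¹ := by
    intro v
    calc c * z * lv Q f v * (c * z)⁻¹ = c * (z * lv Q f v) * z⁻¹ * c⁻¹ := by group
      _ = c * (lv Q f v * z) * z⁻¹ * c⁻¹ := by rw [mem_Cz.1 (M.le (lv_mem M v))]
      _ = _ := by group
  have hs : ∀ v, sig Q f (c * z) v = sig Q f c v := by
    intro v
    unfold sig
    rw [hz v]
  simp only [au, hs, hz]

/-- The automorphism of a lift is inner. -/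
theorem au_q {q : G} (hq : q ∈ Q) : au Q f q = inner (f q) := by
  have hs : ∀ v, sig Q f q v = bl (f q) v := by
    intro v
    have h := conj_lv M (M.img_q hq) v
    have hv := lv_mem M v
    rw [Perm.one_apply, M.comm hv hq, f_lv M,
      show zp z (bl v (f q)) * (lv Q f v * q) * q⁻¹ = zp z (bl v (f q)) * lv Q f v by group,
      zp_move M _ hv, bl_comm_all] at h
    exact ((lv_inj M h).2).symm
  refine (Au.mk.injEq ..).mpr ⟨?_, by simp only [hs]⟩
  show (au Q f q).m = idMat
  rw [au_m M (M.img_q hq)]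
  rfl

theorem au_one : au Q f (1 : G) = inner 0 := by
  rw [au_q M (one_mem Q), M.f_one]

theorem au_id : au Q f (1 : G) = Au.id := (au_one M).trans (by decide +kernel)

theorem au_pow {c : G} (hc : c ∈ Cz z) : ∀ n : ℕ, au Q f (c ^ n) = (au Q f c).pw n
  | 0 => by rw [pow_zero]; exact au_id M
  | n + 1 => by rw [pow_succ, au_mul M (pow_mem hc n) hc, au_pow hc n]; rfl

end SignModel

end CfsgLib.Small.SuzOrder
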