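import Cfsg.Agent.Lib.Small.SuzTwo.Facts

/-!
# Automorphisms of `2^(1+6)` modulo sign: matrix and signs on six lifts
-/

set_option autoImplicit false

namespace CfsgLib.Small.SuzOrder

open CfsgLib.Small.SuzTwo

/-- Bit `j` of a vector. -/
def bit (v : Fin 64) (j : ℕ) : Bool := v.val.testBit j

/-- The sign of the product of two lifts. -/
def coc (v w : Fin 64) : Bool :=
  ((bit v 0 && bit w 0) ^^ ((bit v 3 && bit w 3) ^^ (bit v 3 && bit w 0))) ^^
    ((bit v 4 && bit w 1) ^^ (bit v 5 && bit w 2))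

/-- A matrix with six signs. -/
structure Au where
  m : Mat
  s : Fin 64
deriving DecidableEq

/-- The columns. -/
def col (a : Mat) : ℕ → Fin 64
  | 0 => a.c0
  | 1 => a.c1
  | 2 => a.c2
  | 3 => a.c3
  | 4 => a.c4
  | _ => a.c5

/-- The sum of the first `k` chosen columns. -/
def part (a : Mat) (v : Fin 64) : ℕ → Fin 64
  | 0 => 0
  | k + 1 => vadd (part a v k) (sel (bit v k) (col a k))

/-- The sign of the first `k` chosen lifts. -/
def sgk (a : Au) (v : Fin 64) : ℕ → Bool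
  | 0 => false
  | k + 1 => sgk a v k ^^ (bit v k && (bit a.s k ^^ coc (part a.m v k) (col a.m k)))

/-- The sign at `v`. -/
def sgn (a : Au) (v : Fin 64) : Bool := sgk a v 6

/-- Six bits. -/
def mk6 (b0 b1 b2 b3 b4 b5 : Bool) : Fin 64 :=
  vadd (vadd (vadd (sel b0 1) (sel b1 2)) (vadd (sel b2 4) (sel b3 8)))
    (vadd (sel b4 16) (sel b5 32))

/-- The product. -/
def Au.mul (a b : Au) : Au :=
  ⟨a.m.mul b.m, mk6 (bit b.s 0 ^^ sgn a b.m.c0) (bit b.s 1 ^^ sgn a b.m.c1)
    (bit b.s 2 ^^ sgn a b.m.c2) (bit b.s 3 ^^ sgn a b.m.c3)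
    (bit b.s 4 ^^ sgn a b.m.c4) (bit b.s 5 ^^ sgn a b.m.c5)⟩

/-- The identity. -/
def Au.id : Au := ⟨idMat, 0⟩

/-- Powers. -/
def Au.pw (a : Au) : ℕ → Au
  | 0 => Au.id
  | k + 1 => (Au.pw a k).mul a

/-- Conjugation by a lift of `v`. -/
def inner (v : Fin 64) : Au :=
  ⟨idMat, mk6 (bl v 1) (bl v 2) (bl v 4) (bl v 8) (bl v 16) (bl v 32)⟩

/-- The vector of an inner automorphism with given signs. -/
def dual (s : Fin 64) : Fin 64 :=
  mk6 (bit s 3) (bit s 4) (bit s 5) (bit s 0) (bit s 1) (bit s 2)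

/-- The number of vectors whose lifts are inverted. -/
def cnt (a : Au) : ℕ :=
  ((List.finRange 64).filter fun v => a.m.ap v == v && sgn a v == qb v).length

/-- Whether the commutator space is totally singular. -/
def typeA (a : Mat) : Bool := (List.finRange 64).all fun v => !qb (vadd v (a.ap v))

theorem bit_vadd (v w : Fin 64) (j : ℕ) : bit (vadd v w) j = (bit v j ^^ bit w j) := by
  rw [bit, bit, bit, vadd_val, Nat.testBit_xor]

theorem coc_vadd_left (u v w : Fin 64) : coc (vadd u v) w = (coc u w ^^ coc v w) := by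
  simp only [coc, bit_vadd, Bool.and_xor_distrib_right]
  simp only [Bool.xor_assoc, Bool.xor_comm, Bool.xor_left_comm]

theorem coc_zero_left : ∀ v, coc 0 v = false := by decide +kernel

theorem coc_zero_right : ∀ v, coc v 0 = false := by decide +kernel

theorem part_id : ∀ v, part idMat v 6 = v := by decide +kernel

theorem coc_part : ∀ (v : Fin 64) (k : Fin 6), coc (part idMat v k) (sel (bit v k) (col idMat k)) = false := by
  decide +kernel

theorem dual_inner : ∀ v, dual (inner v).s = v := by decide +kernel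

theorem inner_dual : ∀ s, (inner (dual s)).s = s := by decide +kernel

theorem bit_mk6 (b0 b1 b2 b3 b4 b5 : Bool) :
    bit (mk6 b0 b1 b2 b3 b4 b5) 0 = b0 ∧ bit (mk6 b0 b1 b2 b3 b4 b5) 1 = b1 ∧
    bit (mk6 b0 b1 b2 b3 b4 b5) 2 = b2 ∧ bit (mk6 b0 b1 b2 b3 b4 b5) 3 = b3 ∧
    bit (mk6 b0 b1 b2 b3 b4 b5) 4 = b4 ∧ bit (mk6 b0 b1 b2 b3 b4 b5) 5 = b5 := by
  revert b0 b1 b2 b3 b4 b5; decide +kernel

theorem mk6_bits : ∀ v, mk6 (bit v 0) (bit v 1) (bit v 2) (bit v 3) (bit v 4) (bit v 5) = v := by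
  decide +kernel

theorem bit_zero : ∀ k : Fin 6, bit 0 k = false := by decide +kernel

end CfsgLib.Small.SuzOrder
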