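import Cfsg.Agent.Lib.Small.SuzOrder.AuDef
import Cfsg.Agent.Lib.Small.SuzTwo.Model

/-!
# Lifts of the vectors and the automorphism attached to an element of the centraliser
-/

set_option autoImplicit false

namespace CfsgLib.Small.SuzOrder

open CfsgLib.Small.SuzTwo Equiv

/-- An element or one. -/
def pw1 {G : Type*} [Group G] (a : G) (x : Bool) : G := if x then a else 1

variable {G : Type*} [Group G]

/-- Chosen lifts of the basis. -/
noncomputable def bs (Q : Subgroup G) (f : G → Fin 64) (j : Fin 6) : G :=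
  Classical.epsilon fun q => q ∈ Q ∧ f q = ev j

/-- The first pair. -/
noncomputable def pr (Q : Subgroup G) (f : G → Fin 64) (i j : Fin 6) (v : Fin 64) : G :=
  pw1 (bs Q f i) (bit v i.val) * pw1 (bs Q f j) (bit v j.val)

/-- The lift of a vector. -/
noncomputable def lv (Q : Subgroup G) (f : G → Fin 64) (v : Fin 64) : G :=
  pr Q f 0 3 v * pr Q f 1 4 v * pr Q f 2 5 v

open scoped Classical in
/-- The sign of the action on a lift. -/
noncomputable def sig (Q : Subgroup G) (f : G → Fin 64) (c : G) (v : Fin 64) : Bool :=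
  decide (c * lv Q f v * c⁻¹ ≠ lv Q f (f (c * lv Q f v * c⁻¹)))

/-- The automorphism attached to an element. -/
noncomputable def au (Q : Subgroup G) (f : G → Fin 64) (c : G) : Au :=
  ⟨⟨f (c * lv Q f 1 * c⁻¹), f (c * lv Q f 2 * c⁻¹), f (c * lv Q f 4 * c⁻¹),
    f (c * lv Q f 8 * c⁻¹), f (c * lv Q f 16 * c⁻¹), f (c * lv Q f 32 * c⁻¹)⟩,
    mk6 (sig Q f c 1) (sig Q f c 2) (sig Q f c 4) (sig Q f c 8) (sig Q f c 16) (sig Q f c 32)⟩

theorem enc_bits : ∀ v : Fin 64,
    vadd (vadd (vadd (sel (bit v 0) (ev 0)) (sel (bit v 3) (ev 3)))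
      (vadd (sel (bit v 1) (ev 1)) (sel (bit v 4) (ev 4))))
      (vadd (sel (bit v 2) (ev 2)) (sel (bit v 5) (ev 5))) = v := by decide +kernel

theorem bl_zero_right : ∀ v : Fin 64, bl v 0 = false := by decide +kernel

theorem bl_ev_pairs : bl (ev 0) (ev 3) = true ∧ bl (ev 1) (ev 4) = true ∧ bl (ev 2) (ev 5) = true ∧
    qb (ev 0) = true ∧ qb (ev 3) = true ∧ qb (ev 1) = false ∧ qb (ev 4) = false ∧
    qb (ev 2) = false ∧ qb (ev 5) = false := by decide +kernel

theorem bl_ev_cross :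
    (∀ i ∈ [(0 : Fin 6), 3], ∀ j ∈ [(1 : Fin 6), 4, 2, 5], bl (ev i) (ev j) = false) ∧
    (∀ i ∈ [(1 : Fin 6), 4], ∀ j ∈ [(2 : Fin 6), 5], bl (ev i) (ev j) = false) := by decide +kernel

namespace SignModel

variable {z : G} {Q : Subgroup G} {f : G → Fin 64} {ρ : Cz z →* Perm (Fin 64)}
  (M : Model z Q f ρ)

include M

theorem bs_spec (j : Fin 6) : bs Q f j ∈ Q ∧ f (bs Q f j) = ev j :=
  Classical.epsilon_spec (p := fun q => q ∈ Q ∧ f q = ev j) (M.f_surj (ev j))

theorem pw_spec (j : Fin 6) (x : Bool) :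
    pw1 (bs Q f j) x ∈ Q ∧ f (pw1 (bs Q f j) x) = sel x (ev j) := by
  cases x
  · exact ⟨one_mem Q, M.f_one⟩
  · exact bs_spec M j

theorem pr_spec (i j : Fin 6) (v : Fin 64) : pr Q f i j v ∈ Q ∧
    f (pr Q f i j v) = vadd (sel (bit v i.val) (ev i)) (sel (bit v j.val) (ev j)) := by
  obtain ⟨h1, h2⟩ := pw_spec M i (bit v i.val)
  obtain ⟨h3, h4⟩ := pw_spec M j (bit v j.val)
  exact ⟨mul_mem h1 h3, by rw [pr, M.f_mul _ h1 _ h3, h2, h4]⟩

theorem lv_mem (v : Fin 64) : lv Q f v ∈ Q :=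
  mul_mem (mul_mem (pr_spec M 0 3 v).1 (pr_spec M 1 4 v).1) (pr_spec M 2 5 v).1

theorem f_lv (v : Fin 64) : f (lv Q f v) = v := by
  obtain ⟨a1, a2⟩ := pr_spec M 0 3 v
  obtain ⟨b1, b2⟩ := pr_spec M 1 4 v
  obtain ⟨c1, c2⟩ := pr_spec M 2 5 v
  rw [lv, M.f_mul _ (mul_mem a1 b1) _ c1, M.f_mul _ a1 _ b1, a2, b2, c2]
  exact enc_bits v

theorem zp_mem (b : Bool) : zp z b ∈ Q := by
  cases b
  · exact one_mem Q
  · exact M.z_mem

theorem zp_move (a : Bool) {x : G} (hx : x ∈ Q) : zp z a * x = x * zp z a :=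
  (M.zp_comm a (M.le hx)).symm

theorem pr_mul (i j : Fin 6) (hb : bl (ev i) (ev j) = true) (v w : Fin 64) :
    pr Q f i j v * pr Q f i j w = pr Q f i j (vadd v w) *
      zp z ((bit v i.val && bit w i.val && qb (ev i)) ^^
        ((bit v j.val && bit w j.val && qb (ev j)) ^^ (bit v j.val && bit w i.val))) := by
  obtain ⟨ha, fa⟩ := bs_spec M i
  obtain ⟨hb', fb⟩ := bs_spec M j
  set a := bs Q f i
  set b := bs Q f j
  have hswap : b * a = zp z true * (a * b) := by rw [M.comm ha hb', fa, fb, hb]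
  have haa : a * a = zp z (qb (ev i)) := by rw [M.sq_zp ha, fa]
  have hbb : b * b = zp z (qb (ev j)) := by rw [M.sq_zp hb', fb]
  have key : ∀ x y x' y' : Bool, pw1 a x * pw1 b y * (pw1 a x' * pw1 b y') =
      pw1 a (x ^^ x') * pw1 b (y ^^ y') *
        zp z ((x && x' && qb (ev i)) ^^ ((y && y' && qb (ev j)) ^^ (y && x'))) := by
    intro x y x' y'
    have s1 : pw1 b y * pw1 a x' = pw1 a x' * pw1 b y * zp z (y && x') := by
      cases y <;> cases x' <;> simp [pw1, zp_false]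
      rw [hswap, zp_move M true (mul_mem ha hb')]
    have s2 : ∀ (u u' : Bool), pw1 a u * pw1 a u' = pw1 a (u ^^ u') * zp z (u && u' && qb (ev i)) := by
      intro u u'
      cases u <;> cases u' <;> simp [pw1, zp_false, haa]
    have s3 : ∀ (u u' : Bool), pw1 b u * pw1 b u' = pw1 b (u ^^ u') * zp z (u && u' && qb (ev j)) := by
      intro u u'
      cases u <;> cases u' <;> simp [pw1, zp_false, hbb]
    have m1 : pw1 b (y ^^ y') ∈ Q := (pw_spec M j (y ^^ y')).1
    have m2 : pw1 b y' ∈ Q := (pw_spec M j y').1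
    calc pw1 a x * pw1 b y * (pw1 a x' * pw1 b y')
        = pw1 a x * (pw1 b y * pw1 a x') * pw1 b y' := by group
      _ = pw1 a x * pw1 a x' * (pw1 b y * (zp z (y && x') * pw1 b y')) := by rw [s1]; group
      _ = pw1 a x * pw1 a x' * (pw1 b y * pw1 b y' * zp z (y && x')) := by
          rw [zp_move M _ m2]; group
      _ = pw1 a (x ^^ x') * (zp z (x && x' && qb (ev i)) * pw1 b (y ^^ y')) *
            (zp z (y && y' && qb (ev j)) * zp z (y && x')) := by rw [s2, s3]; group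
      _ = _ := by rw [zp_move M _ m1, M.zp_xor, M.zp_xor]; group
  rw [pr, pr, pr, key, bit_vadd, bit_vadd]

theorem pr_comm {i j k l : Fin 6}
    (h : ∀ a ∈ [i, j], ∀ b ∈ [k, l], bl (ev a) (ev b) = false) (v w : Fin 64) :
    pr Q f k l w * pr Q f i j v = pr Q f i j v * pr Q f k l w := by
  obtain ⟨h1, e1⟩ := pr_spec M i j v
  obtain ⟨h2, e2⟩ := pr_spec M k l w
  rw [M.commute_iff h1 h2, e1, e2]
  have hs : ∀ (a b : Fin 6) (x y : Bool), bl (ev a) (ev b) = false →
      bl (sel x (ev a)) (sel y (ev b)) = false := by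
    intro a b x y hab
    cases x <;> cases y <;> simp only [sel, if_true, if_false, Bool.false_eq_true]
    · exact bl_self 0
    · rw [bl_comm_all]; exact bl_zero_right _
    · exact bl_zero_right _
    · exact hab
  rw [bl_vadd_left, bl_vadd_right, bl_vadd_right, hs _ _ _ _ (h i (by simp) k (by simp)),
    hs _ _ _ _ (h i (by simp) l (by simp)), hs _ _ _ _ (h j (by simp) k (by simp)),
    hs _ _ _ _ (h j (by simp) l (by simp))]
  rfl

theorem lv_mul (v w : Fin 64) :
    lv Q f v * lv Q f w = lv Q f (vadd v w) * zp z (coc v w) := by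
  obtain ⟨h03, h14, h25, q0, q3, q1, q4, q2, q5⟩ := bl_ev_pairs
  obtain ⟨c0, c1⟩ := bl_ev_cross
  have A := pr_mul M 0 3 h03 v w
  have B := pr_mul M 1 4 h14 v w
  have C := pr_mul M 2 5 h25 v w
  simp only [q0, q1, q2, q3, q4, q5, Bool.and_true, Bool.and_false, Bool.false_xor] at A B C
  have hAB : pr Q f 1 4 v * pr Q f 0 3 w = pr Q f 0 3 w * pr Q f 1 4 v :=
    pr_comm M (fun a ha b hb => c0 a ha b (by
      rcases List.mem_cons.1 hb with rfl | hb
      · simp
      · rw [List.mem_singleton.1 hb]; simp)) w v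
  have hAC : pr Q f 2 5 v * pr Q f 0 3 w = pr Q f 0 3 w * pr Q f 2 5 v :=
    pr_comm M (fun a ha b hb => c0 a ha b (by
      rcases List.mem_cons.1 hb with rfl | hb
      · simp
      · rw [List.mem_singleton.1 hb]; simp)) w v
  have hBC : pr Q f 2 5 v * pr Q f 1 4 w = pr Q f 1 4 w * pr Q f 2 5 v :=
    pr_comm M (fun a ha b hb => c1 a ha b hb) w v
  have mB := (pr_spec M 1 4 (vadd v w)).1
  have mC := (pr_spec M 2 5 (vadd v w)).1
  simp only [lv, coc]
  calc pr Q f 0 3 v * pr Q f 1 4 v * pr Q f 2 5 v * (pr Q f 0 3 w * pr Q f 1 4 w * pr Q f 2 5 w)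
      = pr Q f 0 3 v * pr Q f 1 4 v * (pr Q f 2 5 v * pr Q f 0 3 w) * pr Q f 1 4 w *
          pr Q f 2 5 w := by group
    _ = pr Q f 0 3 v * (pr Q f 1 4 v * pr Q f 0 3 w) * (pr Q f 2 5 v * pr Q f 1 4 w) *
          pr Q f 2 5 w := by rw [hAC]; group
    _ = pr Q f 0 3 v * pr Q f 0 3 w * (pr Q f 1 4 v * pr Q f 1 4 w) *
          (pr Q f 2 5 v * pr Q f 2 5 w) := by rw [hAB, hBC]; group
    _ = _ := by
      rw [A, B, C]
      set e1 := (bit v (0 : Fin 6).val && bit w (0 : Fin 6).val) ^^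
        ((bit v (3 : Fin 6).val && bit w (3 : Fin 6).val) ^^
          (bit v (3 : Fin 6).val && bit w (0 : Fin 6).val)) with he1
      set e2 := bit v (4 : Fin 6).val && bit w (1 : Fin 6).val with he2
      set e3 := bit v (5 : Fin 6).val && bit w (2 : Fin 6).val with he3
      set a1 := pr Q f 0 3 (vadd v w)
      set a2 := pr Q f 1 4 (vadd v w)
      set a3 := pr Q f 2 5 (vadd v w)
      calc a1 * zp z e1 * (a2 * zp z e2) * (a3 * zp z e3)
          = a1 * (zp z e1 * a2) * (zp z e2 * a3) * zp z e3 := by group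
        _ = a1 * a2 * (zp z e1 * a3) * (zp z e2 * zp z e3) := by
            rw [zp_move M e1 mB, zp_move M e2 mC]; group
        _ = a1 * a2 * a3 * zp z (e1 ^^ (e2 ^^ e3)) := by
            rw [zp_move M e1 mC, M.zp_xor e1, M.zp_xor e2]; group
        _ = _ := by
            simp only [he1, he2, he3, show ((0 : Fin 6) : ℕ) = 0 from rfl,
              show ((3 : Fin 6) : ℕ) = 3 from rfl, show ((1 : Fin 6) : ℕ) = 1 from rfl,
              show ((4 : Fin 6) : ℕ) = 4 from rfl, show ((2 : Fin 6) : ℕ) = 2 from rfl,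
              show ((5 : Fin 6) : ℕ) = 5 from rfl]

end SignModel

end CfsgLib.Small.SuzOrder
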