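import Cfsg.Agent.Lib.DGroup.Count
import Cfsg.Agent.Lib.Recog.CIT.Defs

/-!
# Interfaces for the order of a group of Suzuki sporadic type

`LocData z t` (and `Loc z t`, which adds the count of pairs at `z`): the facts about the involutions of `C(z) ∩ C(t)` read off from the centraliser of `z`.
`Second z t`: the structure of the centraliser of the second class that follows from them.
-/

set_option autoImplicit false

namespace CfsgLib.Small.SuzOrder

open Subgroup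

universe u

variable {G : Type*} [Group G]

/-- The centraliser of a pair. -/
abbrev Tz (z t : G) : Subgroup G := centralizer ({z} : Set G) ⊓ centralizer ({t} : Set G)

/-- Local data at a commuting pair of involutions of the two classes. -/
structure LocData (z t : G) where
  ord_z : orderOf z = 2
  ord_t : orderOf t = 2
  comm : z * t = t * z
  not_conj : ¬ IsConj z t
  two : ∀ x : G, orderOf x = 2 → IsConj z x ∨ IsConj t x
  card_cz : Nat.card (centralizer ({z} : Set G)) = 3317760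
  card_T : Nat.card (Tz z t) = 512
  pair_conj : ∀ i : G, IsConj z i → i * t = t * i → ∃ h : G, h * t = t * h ∧ h * z * h⁻¹ = i
  center_T : ∀ x ∈ Tz z t, (∀ y ∈ Tz z t, x * y = y * x) → x = 1 ∨ x = z ∨ x = t ∨ x = z * t
  /-- generated by the conjugates of `z` in `Tz z t` -/
  S : Subgroup G
  S_eq : S = closure {x : G | x ∈ Tz z t ∧ IsConj z x}
  card_S : Nat.card S = 64
  invol_S : ∀ x ∈ S, x * x = 1 → x = 1 ∨ IsConj z x
  card_zt : Nat.card {x : G // x ∈ S ∧ x * x = 1 ∧ x ≠ 1} = 27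
  exp_S : ∀ x ∈ S, x ^ 4 = 1
  /-- the centre of `S` -/
  W : Subgroup G
  W_eq : ∀ x, x ∈ W ↔ x ∈ S ∧ ∀ y ∈ S, x * y = y * x
  card_W : Nat.card W = 4
  sq_W : ∀ x ∈ W, x * x = 1
  /-- the part of `Tz z t` centralising `W` -/
  T0 : Subgroup G
  T0_eq : ∀ x, x ∈ T0 ↔ x ∈ Tz z t ∧ ∀ w ∈ W, x * w = w * x
  card_T0 : Nat.card T0 = 256
  S_le : S ≤ T0
  /-- the centre of `T0` -/
  Z0 : Subgroup G
  Z0_eq : ∀ x, x ∈ Z0 ↔ x ∈ T0 ∧ ∀ y ∈ T0, x * y = y * x
  card_Z0 : Nat.card Z0 = 16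
  sq_Z0 : ∀ x ∈ Z0, x * x = 1
  /-- the two elementary abelian subgroups of order `64` -/
  A : Fin 2 → Subgroup G
  A_ne : A 0 ≠ A 1
  A_le : ∀ i, A i ≤ T0
  card_A : ∀ i, Nat.card (A i) = 64
  A_sq : ∀ i, ∀ x ∈ A i, x * x = 1
  A_max : ∀ E : Subgroup G, E ≤ Tz z t → Nat.card E = 64 → (∀ x ∈ E, x * x = 1) →
    E = A 0 ∨ E = A 1
  card_AS : ∀ i, Nat.card (A i ⊓ S : Subgroup G) = 16
  A_cover : ∀ x ∈ S, x * x = 1 → x ∈ A 0 ∨ x ∈ A 1
  A_swap : ∀ y ∈ Tz z t, y ∉ T0 → ∀ x ∈ A 0, y * x * y⁻¹ ∈ A 1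
  A_cent : ∀ i, ∀ x ∈ A i, x ∈ S → x ∉ W → ∀ g ∈ T0, g * x = x * g → g ∈ A i
  /-- outer elements with square in `Z0` fix no involution of `S` but `z` -/
  outer : ∀ y ∈ Tz z t, y ∉ T0 → y * y ∈ Z0 →
    ∀ s ∈ S, s * s = 1 → y * s = s * y → s = 1 ∨ s = z
  /-- such an element centralises an element of order four of `S` -/
  outer_four : ∀ y ∈ Tz z t, y ∉ T0 → y * y ∈ Z0 → ∃ s ∈ S, y * s = s * y ∧ s * s = z
  /-- ordered pairs of involutions of `S` whose product squares to `z` -/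
  card_sq : Nat.card {p : G × G // p.1 ∈ S ∧ p.2 ∈ S ∧ p.1 * p.1 = 1 ∧ p.2 * p.2 = 1 ∧
    p.1 * p.2 * (p.1 * p.2) = z} = 96

/-- `LocData` with the count of pairs at `z`. -/
structure Loc (z t : G) extends LocData z t where
  pairs_z : Nat.card (DGroup.Pairs z t z) = 1529280

/-- The centraliser of the second involution: `C(t) = M.2`, `M` the centraliser of a four-group
`V` with simple quotient of order `20160`. -/
structure FourData {G : Type u} [Group G] {z t : G} (L : LocData z t) where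
  V : Subgroup G
  M : Subgroup G
  t_mem : t ∈ V
  card_V : Nat.card V = 4
  V_sq : ∀ v ∈ V, v * v = 1
  V_conj : ∀ v ∈ V, v ≠ 1 → IsConj t v
  V_le : V ≤ L.Z0
  V_inf : V ⊓ L.S = ⊥
  M_eq : ∀ g : G, g ∈ M ↔ ∀ v ∈ V, g * v = v * g
  V_norm : ∀ g : G, g * t = t * g → ∀ v ∈ V, g * v * g⁻¹ ∈ V
  T0_le : L.T0 ≤ M
  card_M : Nat.card M = 80640
  card_H : Nat.card (centralizer ({t} : Set G)) = 161280
  z_conj : ∀ x : G, IsConj z x → x * t = t * x → x ∈ M ∧ ∃ m ∈ M, m * z * m⁻¹ = x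
  quot : ∃ (K : Type u) (_ : Group K) (_ : Finite K) (π : M →* K), Function.Surjective π ∧
    (∀ m : M, π m = 1 ↔ (m : G) ∈ V) ∧ IsSimpleGroup K ∧ (∃ a b : K, a * b ≠ b * a) ∧
    Recog.CIT.CIT K ∧ Nat.card K = 20160

/-- What is needed about the centraliser of an involution of the second class. -/
structure Second (z t : G) where
  /-- the central four-group -/
  V : Subgroup G
  /-- the centraliser of `V` -/
  M : Subgroup G
  t_mem : t ∈ V
  card_V : Nat.card V = 4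
  V_sq : ∀ v ∈ V, v * v = 1
  V_conj : ∀ v ∈ V, v ≠ 1 → IsConj t v
  card_H : Nat.card (centralizer ({t} : Set G)) = 161280
  card_M : Nat.card M = 80640
  M_eq : ∀ g : G, g ∈ M ↔ ∀ v ∈ V, g * v = v * g
  five : ∃ f : G, orderOf f = 5 ∧ f ∈ M
  seven : ∃ b : G, orderOf b = 7 ∧ b ∈ M
  /-- elements of order five -/
  cent_five : ∀ f : G, orderOf f = 5 → ∀ v ∈ V, v ≠ 1 → f ∈ M →
    ∀ g : G, g * f = f * g → g * v = v * g → ∃ k : ℕ, ∃ w ∈ V, g = f ^ k * w
  aut_five : ∀ f : G, orderOf f = 5 → f ∈ M → ∃ g : G, g * t = t * g ∧ g * f * g⁻¹ = f ^ 2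
  /-- elements of order seven -/
  cent_seven : ∀ b : G, orderOf b = 7 → ∀ v ∈ V, v ≠ 1 → b ∈ M →
    ∀ g : G, g * b = b * g → g * v = v * g → ∃ k : ℕ, ∃ w ∈ V, g = b ^ k * w
  aut_seven : ∀ b : G, orderOf b = 7 → b ∈ M → ∃ g : G, g * t = t * g ∧ g * b * g⁻¹ = b ^ 3
  pairs_t : Nat.card (DGroup.Pairs z t t) = 60795

end CfsgLib.Small.SuzOrder
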