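import Cfsg.Agent.Lib.Small.SuzTwo.Build

/-!
# Interface: the involutions of the cosets of `Q`
-/

set_option autoImplicit false

namespace CfsgLib.Small.SuzOrder

open CfsgLib.Small.SuzTwo

/-- The lifting signs: an involution over `ixA` centralises its fixed space in `Q`, and one over
`ixC` inverts exactly `24` elements of `Q`. -/
structure Lifts {G : Type*} [Group G] (z : G) (Q : Subgroup G) (f : G → Fin 64)
    (ρ : Cz z →* Equiv.Perm (Fin 64)) : Prop where
  fixA : ∀ x r : G, Img ρ x (P ixA) → x * x = 1 → r ∈ Q → InFix ixA (f r) → x * r = r * x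
  invC : ∀ x : G, Img ρ x (P ixC) → x * x = 1 →
    Nat.card {r : G // r ∈ Q ∧ x * r * x⁻¹ = r⁻¹} = 24

end CfsgLib.Small.SuzOrder
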