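import Cfsg.Agent.Lib.Small.SuzOrder.Local.Groups

/-!
# The local data at a pair of involutions of the two classes
-/

set_option autoImplicit false
set_option linter.unusedSectionVars false

namespace CfsgLib.Small.SuzOrder

open CfsgLib.Small.SuzTwo Equiv

namespace Local.Cfg

variable {G : Type*} [Group G] {z u g t y : G} {Q : Subgroup G} {f : G → Fin 64}
  {ρ : Cz z →* Perm (Fin 64)} (C : Cfg z u g t y Q f ρ)

include C

/-- The span of the conjugates of `z`. -/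
def Sg : Subgroup G := C.LS US zero_mem.2.1 US_add

/-- The subgroup `⟨z, u⟩`. -/
def Wg : Subgroup G := C.LS {(0, 0)} (Finset.mem_singleton_self _)
  (fun p hp r hr => by
    rw [Finset.mem_singleton.1 hp, Finset.mem_singleton.1 hr]
    exact Finset.mem_singleton.2 (ladd_cases _).1)

/-- The centre of `C(z) ∩ C(u) ∩ C(t)`. -/
def Zg : Subgroup G := C.LS UZ zero_mem.2.2.1 UZ_add

/-- The elementary subgroups of order `64`. -/
def Ag (i : Fin 2) : Subgroup G := C.LS (UA i) (zero_mem.2.2.2.2 i) (UA_add i)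

theorem sq_of_mem {x : G} {p : Lb} (h : Lab Q f g ρ x p) (hp : lq p = (false, false)) :
    x * x = 1 := (h.invol_iff C.model C.swap).2 hp

theorem Sg_le : C.Sg ≤ C.T0 := fun _x ⟨p, hp, hx⟩ => ⟨p, (Finset.mem_filter.1 hp).1, hx⟩

theorem mem_Sg_of_type [Finite G] {x : G} (hx : x ∈ Tz z t) (hz : IsConj z x) : x ∈ C.Sg := by
  obtain ⟨p, hp, hxp⟩ := C.z_type_T0 hx hz
  obtain ⟨k, hk⟩ := isConj_iff.1 hz
  have hx2 : x * x = 1 := hk ▸ conj_sq_one k C.model.zz
  have hx1 : x ≠ 1 := hk ▸ fun e => C.model.z_ne (conj_eq_one_iff.1 e)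
  have hq := (hxp.invol_iff C.model C.swap).1 hx2
  refine ⟨p, z_type_US p hp hq (Bool.eq_false_iff.2 fun h => ?_), hxp⟩
  exact ((hxp.type C.model C.swap C.img C.tt hx2 hx1).2 h).2 hz

theorem Sg_type {x : G} {p : Lb} (hp : p ∈ US) (hx : Lab Q f g ρ x p) (hx2 : x * x = 1)
    (hx1 : x ≠ 1) : IsConj z x :=
  (hx.type C.model C.swap C.img C.tt hx2 hx1).1
    (US_type p hp ((hx.invol_iff C.model C.swap).1 hx2))

theorem Sg_eq [Finite G] : C.Sg = Subgroup.closure {x : G | x ∈ Tz z t ∧ IsConj z x} := by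
  refine le_antisymm ?_ ((Subgroup.closure_le _).2 fun x hx => C.mem_Sg_of_type hx.1 hx.2)
  set K := Subgroup.closure {x : G | x ∈ Tz z t ∧ IsConj z x}
  have hR : ∀ e, R z u e ∈ K := by
    intro e
    by_cases he : e = (false, false)
    · rw [he, R_zero]; exact one_mem _
    · exact Subgroup.subset_closure ⟨C.T0_le (C.R_T0 e), C.R_type he⟩
  have hI : ∀ p ∈ US, lq p = (false, false) → ∀ x, Lab Q f g ρ x p → x ∈ K := by
    intro p hp hq x hx
    by_cases hx1 : x = 1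
    · rw [hx1]; exact one_mem _
    · exact Subgroup.subset_closure ⟨C.T0_le ⟨p, (Finset.mem_filter.1 hp).1, hx⟩,
        C.Sg_type hp hx (C.sq_of_mem hx hq) hx1⟩
  rintro x ⟨p, hp, hx⟩
  obtain ⟨a, ha, b, hb, qa, qb', rfl⟩ := US_gen p hp
  obtain ⟨sa, hsa⟩ := exists_Lab C.model C.swap (g := g) (ρ := ρ) a
  obtain ⟨sb', hsb⟩ := exists_Lab C.model C.swap (g := g) (ρ := ρ) b
  obtain ⟨e, rfl⟩ := (hsa.mul C.model C.swap hsb).same C.model C.swap hx
  exact mul_mem (mul_mem (hI a ha qa sa hsa) (hI b hb qb' sb' hsb)) (hR e)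

theorem R_outer {x : G} (hx : x ∈ Tz z t) (h0 : x ∉ C.T0) (e : Bool × Bool) :
    x * R z u e * x⁻¹ = R z u (e.1 ^^ e.2, e.2) := by
  obtain ⟨p, -, hp⟩ := C.coset hx h0
  calc x * R z u e * x⁻¹ = y * (y⁻¹ * x * R z u e * (y⁻¹ * x)⁻¹) * y⁻¹ := by group
    _ = _ := by rw [hp.comm_R C.model C.swap e, mul_inv_cancel_right, C.y_R]

theorem A_elem_cover {x : G} {p : Lb} (hp : p ∈ U0) (hx : Lab Q f g ρ x p) (hx2 : x * x = 1) :
    p ∈ UA 0 ∨ p ∈ UA 1 :=
  UA_cover p hp ((hx.invol_iff C.model C.swap).1 hx2)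

theorem A_max [Finite G] {E : Subgroup G} (hE : E ≤ Tz z t) (hcard : Nat.card E = 64)
    (hsq : ∀ x ∈ E, x * x = 1) : E = C.Ag 0 ∨ E = C.Ag 1 := by
  have hcomm : ∀ a ∈ E, ∀ b ∈ E, a * b = b * a := by
    intro a ha b hb
    have hi : ∀ a ∈ E, a⁻¹ = a := fun a ha => inv_eq_of_mul_eq_one_right (hsq a ha)
    calc a * b = (a * b)⁻¹ := (hi _ (mul_mem ha hb)).symm
      _ = b⁻¹ * a⁻¹ := mul_inv_rev a b
      _ = b * a := by rw [hi a ha, hi b hb]
  have hA : ∀ i, Nat.card (C.Ag i) = 64 := fun i => by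
    rw [Ag, C.card_LS, card_sets.2.2.2.1 i]
  by_cases hET : E ≤ C.T0
  · by_cases h0 : E ≤ C.Ag 0
    · exact Or.inl (Subgroup.eq_of_le_of_card_ge h0 (by rw [hA, hcard]))
    refine Or.inr (Subgroup.eq_of_le_of_card_ge (fun b hb => ?_) (by rw [hA, hcard]))
    obtain ⟨a, ha, ha0⟩ := SetLike.not_le_iff_exists.1 h0
    obtain ⟨p, hp, hap⟩ := hET ha
    obtain ⟨r, hr, hbr⟩ := hET hb
    have hp1 : p ∈ UA 1 := (C.A_elem_cover hp hap (hsq a ha)).resolve_left fun h => ha0 ⟨p, h, hap⟩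
    rcases C.A_elem_cover hr hbr (hsq b hb) with hr0 | hr1
    · have hc := (hap.commute_iff C.model C.swap hbr).1 (hcomm b hb a ha)
      exact ⟨r, (UA_split p hp1 r hr0 hc).resolve_left fun h => ha0 ⟨p, h, hap⟩, hbr⟩
    · exact ⟨r, hr1, hbr⟩
  exfalso
  obtain ⟨x, hxE, hx0⟩ := SetLike.not_le_iff_exists.1 hET
  classical
  let Y : Finset Lb := (UA 0).filter fun p => p ∈ UA 1
  have hsub : ∀ a : (E ⊓ C.T0 : Subgroup G), ∃ p ∈ Y, Lab Q f g ρ (a : G) p := by
    rintro ⟨a, haE, p, hp, hap⟩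
    refine ⟨p, ?_, hap⟩
    have h := C.conj_outer (hE hxE) hx0 hap
    rw [hcomm x hxE a haE, mul_inv_cancel_right] at h
    have hσ := h.unique C.model C.swap hap
    rcases C.A_elem_cover hp hap (hsq a haE) with h1 | h1
    · exact Finset.mem_filter.2 ⟨h1, hσ ▸ sigma_swap.1 p h1⟩
    · exact Finset.mem_filter.2 ⟨hσ ▸ sigma_swap.2 p h1, h1⟩
  have hle : Nat.card (E ⊓ C.T0 : Subgroup G) ≤ 16 := by
    have h := Nat.card_le_card_of_injective
      (fun a : (E ⊓ C.T0 : Subgroup G) => (⟨(a : G), hsub a⟩ : {b : G // ∃ p ∈ Y, Lab Q f g ρ b p}))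
      (fun a b e => Subtype.ext (congrArg (fun w => w.1) e))
    rw [card_Lab C.model C.swap, UA_inter] at h
    omega
  let F : E → Bool × (E ⊓ C.T0 : Subgroup G) := fun a =>
    if h : (a : G) ∈ C.T0 then (false, ⟨a, a.2, h⟩)
    else (true, ⟨x⁻¹ * a, E.mul_mem (E.inv_mem hxE) a.2, by
      have := mul_mem (inv_mem (C.coset (hE hxE) hx0)) (C.coset (hE a.2) h)
      rwa [show (y⁻¹ * x)⁻¹ * (y⁻¹ * (a : G)) = x⁻¹ * a by group] at this⟩)
  have hF : Function.Injective F := by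
    intro a b e
    by_cases ha : (a : G) ∈ C.T0 <;> by_cases hb : (b : G) ∈ C.T0 <;>
      simp only [F, dif_pos, dif_neg, ha, hb, not_false_iff, Prod.mk.injEq, Bool.false_eq_true,
        Bool.true_eq_false, false_and] at e
    · exact Subtype.ext (congrArg (fun w : (E ⊓ C.T0 : Subgroup G) => (w : G)) e.2)
    · exact Subtype.ext (mul_left_cancel (congrArg (fun w : (E ⊓ C.T0 : Subgroup G) => (w : G)) e.2))
  have h := Nat.card_le_card_of_injective F hF
  rw [Nat.card_prod, Nat.card_eq_fintype_card (α := Bool), Fintype.card_bool, hcard] at h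
  omega

theorem card_sq_pairs :
    Nat.card {p : G × G // p.1 ∈ C.Sg ∧ p.2 ∈ C.Sg ∧ p.1 * p.1 = 1 ∧ p.2 * p.2 = 1 ∧
      p.1 * p.2 * (p.1 * p.2) = z} = 96 := by
  classical
  have M := C.model
  have W := C.swap
  choose sec hsec using exists_Lab M W (g := g) (ρ := ρ) (f := f) (Q := Q)
  have hz : z = R z u (true, false) := by simp [R, zp]
  let X : Finset (Lb × Lb) := (US ×ˢ US).filter fun x => lq x.1 = (false, false) ∧
    lq x.2 = (false, false) ∧ lq (ladd x.1 x.2) = (true, false)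
  let F : X × ((Bool × Bool) × (Bool × Bool)) → {p : G × G // p.1 ∈ C.Sg ∧ p.2 ∈ C.Sg ∧
      p.1 * p.1 = 1 ∧ p.2 * p.2 = 1 ∧ p.1 * p.2 * (p.1 * p.2) = z} := fun e =>
    ⟨(sec e.1.1.1 * R z u e.2.1, sec e.1.1.2 * R z u e.2.2), by
      obtain ⟨hm, h1, h2, h3⟩ := Finset.mem_filter.1 e.1.2
      obtain ⟨m1, m2⟩ := Finset.mem_product.1 hm
      have a1 := (hsec e.1.1.1).mul_R M W e.2.1
      have a2 := (hsec e.1.1.2).mul_R M W e.2.2
      exact ⟨⟨_, m1, a1⟩, ⟨_, m2, a2⟩, C.sq_of_mem a1 h1, C.sq_of_mem a2 h2,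
        by rw [(a1.mul M W a2).sq M W, h3, ← hz]⟩⟩
  have hF : Function.Bijective F := by
    refine ⟨fun a b h => ?_, fun p => ?_⟩
    · obtain ⟨h1, h2⟩ := Prod.ext_iff.1 (congrArg Subtype.val h)
      have h1' : sec a.1.1.1 * R z u a.2.1 = sec b.1.1.1 * R z u b.2.1 := h1
      have h2' : sec a.1.1.2 * R z u a.2.2 = sec b.1.1.2 * R z u b.2.2 := h2
      have k1 := ((hsec _).mul_R M W a.2.1).unique M W (h1' ▸ (hsec _).mul_R M W b.2.1)
      have k2 := ((hsec _).mul_R M W a.2.2).unique M W (h2' ▸ (hsec _).mul_R M W b.2.2)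
      rw [k1] at h1'
      rw [k2] at h2'
      exact Prod.ext (Subtype.ext (Prod.ext k1 k2))
        (Prod.ext (R_inj M W (mul_left_cancel h1')) (R_inj M W (mul_left_cancel h2')))
    · obtain ⟨⟨x, x'⟩, ⟨a, ha, hxa⟩, ⟨b, hb, hxb⟩, s1, s2, s3⟩ := p
      obtain ⟨e1, he1⟩ := (hsec a).same M W hxa
      obtain ⟨e2, he2⟩ := (hsec b).same M W hxb
      refine ⟨(⟨(a, b), Finset.mem_filter.2 ⟨Finset.mem_product.2 ⟨ha, hb⟩,
        (hxa.invol_iff M W).1 s1, (hxb.invol_iff M W).1 s2, ?_⟩⟩, e1, e2),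
        Subtype.ext (Prod.ext he1.symm he2.symm)⟩
      have h := (hxa.mul M W hxb).sq M W
      exact R_inj M W (h.symm.trans (s3.trans hz))
  rw [← Nat.card_congr (Equiv.ofBijective F hF), Nat.card_prod,
    Nat.card_eq_fintype_card (α := X), Fintype.card_coe]
  simp [X, card_sets.2.2.2.2.2.2, Nat.card_prod]

/-- The local data. -/
noncomputable def locData [Finite G] : LocData z t where
  ord_z := C.model.ord
  ord_t := orderOf_eq_prime (by rw [sq]; exact C.tt) fun e =>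
    C.model.not_mem_of_img C.img invC.P_ne (e ▸ one_mem Q)
  comm := (mem_Cz.1 C.img.mem).symm
  not_conj := not_conj_t C.model C.img C.tt
  two := fun _x hx => Local.two C.model C.img C.tt hx
  card_cz := card_Cz C.model
  card_T := C.card_T
  pair_conj := fun _i hi hit => Local.pair_conj C.model C.img C.tt hi hit
  center_T := fun x hx hc => by
    have hu : x * u = u * x := hc u (C.T0_le C.u_mem)
    obtain ⟨p, hp, hxp⟩ := C.mem_T0_iff.2 ⟨hx, hu⟩
    have hpZ : p ∈ UZ := Finset.mem_filter.2 ⟨hp, fun r hr => by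
      obtain ⟨s, hs⟩ := exists_Lab C.model C.swap (g := g) (ρ := ρ) r
      exact (hxp.commute_iff C.model C.swap hs).1 (hc s (C.T0_le ⟨r, hr, hs⟩)).symm⟩
    have hyx : y * x * y⁻¹ = x := by rw [← hc y C.y_mem, mul_inv_cancel_right]
    have hσ := (hyx ▸ C.y_lab x p hxp).unique C.model C.swap hxp
    have key : ∀ e : Bool × Bool, y * R z u e * y⁻¹ = R z u e → e.2 = false := by
      intro e he
      rw [C.y_R] at he
      have := congrArg Prod.fst (R_inj C.model C.swap he)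
      obtain ⟨i, j⟩ := e
      cases i <;> cases j <;> simp_all
    rcases sigma_center p hpZ hσ with rfl | rfl
    · obtain ⟨e, rfl⟩ := (Lab_one C.model C.swap).same C.model C.swap hxp
      rw [one_mul] at hyx ⊢
      obtain ⟨i, j⟩ := e
      obtain rfl : j = false := key _ hyx
      cases i
      · exact Or.inl R_zero
      · exact Or.inr (Or.inl (by simp [R, zp]))
    · obtain ⟨e, rfl⟩ := C.lab.same C.model C.swap hxp
      have h2 : y * R z u e * y⁻¹ = R z u e := by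
        refine mul_left_cancel (a := t) ?_
        calc t * (y * R z u e * y⁻¹) = (y * t * y⁻¹) * (y * R z u e * y⁻¹) := by
              rw [mul_inv_eq_iff_eq_mul.2 C.y_t]
          _ = y * (t * R z u e) * y⁻¹ := by group
          _ = t * R z u e := hyx
      obtain ⟨i, j⟩ := e
      obtain rfl : j = false := key _ h2
      cases i
      · exact Or.inr (Or.inr (Or.inl (by rw [R_zero, mul_one])))
      · exact Or.inr (Or.inr (Or.inr (by simp [R, zp, mem_Cz.1 C.img.mem])))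
  S := C.Sg
  S_eq := C.Sg_eq
  card_S := by rw [Sg, C.card_LS, card_sets.2.1]
  invol_S := fun x ⟨p, hp, hx⟩ h2 => or_iff_not_imp_left.2 fun h1 => C.Sg_type hp hx h2 h1
  card_zt := by
    classical
    have h := card_Lab C.model C.swap (g := g) (ρ := ρ) (US.filter fun p => lq p = (false, false))
    rw [card_sets.2.2.2.2.2.1] at h
    have e : {x : G // ∃ p ∈ US.filter (fun p => lq p = (false, false)), Lab Q f g ρ x p} ≃
        {x : G // x ∈ C.Sg ∧ x * x = 1} := Equiv.subtypeEquivRight fun x =>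
      ⟨fun ⟨p, hp, hx⟩ => ⟨⟨p, (Finset.mem_filter.1 hp).1, hx⟩,
        C.sq_of_mem hx (Finset.mem_filter.1 hp).2⟩,
       fun ⟨⟨p, hp, hx⟩, h2⟩ => ⟨p, Finset.mem_filter.2 ⟨hp,
        (hx.invol_iff C.model C.swap).1 h2⟩, hx⟩⟩
    rw [Nat.card_congr e] at h
    haveI := Fintype.ofFinite {x : G // x ∈ C.Sg ∧ x * x = 1}
    have e2 : {x : G // x ∈ C.Sg ∧ x * x = 1 ∧ x ≠ 1} ≃
        {x : {x : G // x ∈ C.Sg ∧ x * x = 1} // x ≠ ⟨1, one_mem _, one_mul 1⟩} :=
      { toFun := fun x => ⟨⟨x.1, x.2.1, x.2.2.1⟩, fun e => x.2.2.2 (congrArg Subtype.val e)⟩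
        invFun := fun x => ⟨x.1.1, x.1.2.1, x.1.2.2, fun e => x.2 (Subtype.ext e)⟩
        left_inv := fun _ => rfl
        right_inv := fun _ => rfl }
    rw [Nat.card_congr e2, Nat.card_eq_fintype_card, Fintype.card_subtype_compl,
      Fintype.card_subtype_eq, ← Nat.card_eq_fintype_card, h]
  exp_S := fun x ⟨p, _, hx⟩ => by
    calc x ^ 4 = x * x * (x * x) := by simp only [pow_succ, pow_zero, one_mul, mul_assoc]
      _ = 1 := by rw [hx.sq C.model C.swap, R_sq C.model C.swap]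
  W := C.Wg
  W_eq := fun x => by
    constructor
    · rintro ⟨p, hp, hx⟩
      rw [Finset.mem_singleton.1 hp] at hx
      refine ⟨⟨(0, 0), zero_mem.2.1, hx⟩, ?_⟩
      obtain ⟨e, rfl⟩ := (Lab_one C.model C.swap).same C.model C.swap hx
      rintro s ⟨r, -, hs⟩
      rw [one_mul]
      exact (hs.comm_R C.model C.swap e).symm
    · rintro ⟨⟨p, hp, hx⟩, hc⟩
      refine ⟨(0, 0), Finset.mem_singleton_self _, (US_center p hp fun r hr => ?_) ▸ hx⟩
      obtain ⟨s, hs⟩ := exists_Lab C.model C.swap (g := g) (ρ := ρ) r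
      exact (hx.commute_iff C.model C.swap hs).1 (hc s ⟨r, hr, hs⟩).symm
  card_W := by rw [Wg, C.card_LS, Finset.card_singleton]
  sq_W := fun x ⟨p, hp, hx⟩ => C.sq_of_mem hx (by rw [Finset.mem_singleton.1 hp]; decide)
  T0 := C.T0
  T0_eq := fun x => by
    refine ⟨fun h => ⟨C.T0_le h, fun w ⟨p, hp, hw⟩ => ?_⟩, fun ⟨h, hw⟩ =>
      C.mem_T0_iff.2 ⟨h, hw u ⟨(0, 0), Finset.mem_singleton_self _, ?_⟩⟩⟩
    · obtain ⟨r, -, hr⟩ := h
      rw [Finset.mem_singleton.1 hp] at hw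
      obtain ⟨e, rfl⟩ := (Lab_one C.model C.swap).same C.model C.swap hw
      rw [one_mul]
      exact hr.comm_R C.model C.swap e
    · simpa [R, zp] using Lab_R C.model C.swap (g := g) (ρ := ρ) (false, true)
  card_T0 := C.card_T0
  S_le := C.Sg_le
  Z0 := C.Zg
  Z0_eq := fun x => by
    constructor
    · rintro ⟨p, hp, hx⟩
      refine ⟨⟨p, (Finset.mem_filter.1 hp).1, hx⟩, fun s ⟨r, hr, hs⟩ => ?_⟩
      exact ((hx.commute_iff C.model C.swap hs).2 ((Finset.mem_filter.1 hp).2 r hr)).symm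
    · rintro ⟨⟨p, hp, hx⟩, hc⟩
      refine ⟨p, Finset.mem_filter.2 ⟨hp, fun r hr => ?_⟩, hx⟩
      obtain ⟨s, hs⟩ := exists_Lab C.model C.swap (g := g) (ρ := ρ) r
      exact (hx.commute_iff C.model C.swap hs).1 (hc s ⟨r, hr, hs⟩).symm
  card_Z0 := by rw [Zg, C.card_LS, card_sets.2.2.1]
  sq_Z0 := fun x ⟨p, hp, hx⟩ => C.sq_of_mem hx (UZ_sq p hp)
  A := C.Ag
  A_ne := fun e => by
    obtain ⟨p, h0, h1⟩ := UA_ne
    obtain ⟨s, hs⟩ := exists_Lab C.model C.swap (g := g) (ρ := ρ) p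
    obtain ⟨r, hr, hsr⟩ := (e ▸ ⟨p, h0, hs⟩ : s ∈ C.Ag 1)
    exact h1 ((hs.unique C.model C.swap hsr) ▸ hr)
  A_le := fun i x ⟨p, hp, hx⟩ => ⟨p, ((UA_sub i).1 p hp).1, hx⟩
  card_A := fun i => by rw [Ag, C.card_LS, card_sets.2.2.2.1 i]
  A_sq := fun i x ⟨p, hp, hx⟩ => C.sq_of_mem hx ((UA_sub i).1 p hp).2
  A_max := fun _E hE hc hs => C.A_max hE hc hs
  card_AS := fun i => by
    have h := card_Lab C.model C.swap (g := g) (ρ := ρ) ((UA i).filter fun p => p ∈ US)
    rw [card_sets.2.2.2.2.1 i] at h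
    rw [show (16 : ℕ) = 4 * 4 from rfl, ← h]
    refine Nat.card_congr (Equiv.subtypeEquivRight fun x => ⟨?_, ?_⟩)
    · rintro ⟨⟨p, hp, hx⟩, r, hr, hxr⟩
      exact ⟨p, Finset.mem_filter.2 ⟨hp, hx.unique C.model C.swap hxr ▸ hr⟩, hx⟩
    · rintro ⟨p, hp, hx⟩
      exact ⟨⟨p, (Finset.mem_filter.1 hp).1, hx⟩, p, (Finset.mem_filter.1 hp).2, hx⟩
  A_cover := fun x ⟨p, hp, hx⟩ h2 =>
    (C.A_elem_cover (Finset.mem_filter.1 hp).1 hx h2).imp (fun h => ⟨p, h, hx⟩)
      fun h => ⟨p, h, hx⟩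
  A_swap := fun _y hy h0 _x ⟨p, hp, hx⟩ => ⟨sigma p, sigma_swap.1 p hp, C.conj_outer hy h0 hx⟩
  A_cent := fun i x ⟨p, hp, hx⟩ ⟨p', hp', hx'⟩ hW s ⟨r, hr, hs⟩ hc => by
    have e := hx'.unique C.model C.swap hx
    refine ⟨r, UA_cent i p hp (e ▸ hp') (fun h0 => hW ⟨(0, 0), Finset.mem_singleton_self _,
      h0 ▸ hx⟩) r hr ((hx.commute_iff C.model C.swap hs).1 hc), hs⟩
  outer := fun x hx h0 _ s ⟨p, hp, hs⟩ h2 hc => by
    have h := C.conj_outer hx h0 hs
    rw [hc, mul_inv_cancel_right] at h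
    have hp0 := sigma_outer p hp ((hs.invol_iff C.model C.swap).1 h2) (h.unique C.model C.swap hs)
    rw [hp0] at hs
    obtain ⟨e, rfl⟩ := (Lab_one C.model C.swap).same C.model C.swap hs
    rw [one_mul] at hc ⊢
    have h3 := C.R_outer hx h0 e
    rw [hc, mul_inv_cancel_right] at h3
    have h4 := congrArg Prod.fst (R_inj C.model C.swap h3)
    obtain ⟨i, j⟩ := e
    cases i <;> cases j <;> simp at h4
    · exact Or.inl R_zero
    · exact Or.inr (by simp [R, zp])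
  outer_four := fun x hx h0 ⟨r, hr, hxx⟩ => by
    obtain ⟨h1, h2, h3⟩ := sigma_four
    obtain ⟨s, hs⟩ := exists_Lab C.model C.swap (g := g) (ρ := ρ) ((10, 0) : Lb)
    have h4 := C.conj_outer hx h0 hs
    rw [h2] at h4
    obtain ⟨⟨i, j⟩, he⟩ := hs.same C.model C.swap h4
    have hcom : x * x * s = s * (x * x) :=
      (hs.commute_iff C.model C.swap hxx).2 (by
        rw [lc_symm]
        exact (Finset.mem_filter.1 hr).2 _ (Finset.mem_filter.1 h1).1)
    have h5 : s * (R z u (i, j) * R z u (i ^^ j, j)) = s := by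
      calc s * (R z u (i, j) * R z u (i ^^ j, j))
          = x * s * x⁻¹ * (x * R z u (i, j) * x⁻¹) := by rw [he, C.R_outer hx h0]; group
        _ = x * (s * R z u (i, j)) * x⁻¹ := by group
        _ = x * (x * s * x⁻¹) * x⁻¹ := by rw [he]
        _ = x * x * s * (x * x)⁻¹ := by group
        _ = s := by rw [hcom, mul_inv_cancel_right]
    rw [R_mul C.model C.swap, mul_eq_left, ← R_zero (z := z) (u := u)] at h5
    have hj : j = false := by
      have := congrArg Prod.fst (R_inj C.model C.swap h5)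
      cases i <;> cases j <;> simp at this ⊢
    subst hj
    have hss : s * s = z := by
      rw [hs.sq C.model C.swap, h3]; simp [R, zp]
    cases i
    · refine ⟨s, ⟨_, h1, hs⟩, mul_inv_eq_iff_eq_mul.1 ?_, hss⟩
      rw [he, R_zero, mul_one]
    · refine ⟨s * R z u (false, true), ⟨_, h1, hs.mul_R C.model C.swap _⟩,
        mul_inv_eq_iff_eq_mul.1 ?_, ?_⟩
      · calc x * (s * R z u (false, true)) * x⁻¹
            = x * s * x⁻¹ * (x * R z u (false, true) * x⁻¹) := by group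
          _ = s * R z u (false, true) := by
              rw [he, C.R_outer hx h0, mul_assoc, R_mul C.model C.swap]; rfl
      · rw [(hs.mul_R C.model C.swap (false, true)).sq C.model C.swap, ← hs.sq C.model C.swap,
          hss]
  card_sq := C.card_sq_pairs

end Local.Cfg

/-- The local data at a pair exist. -/
theorem exists_local {G : Type*} [Group G] [Finite G] {z : G} {Q : Subgroup G} {f : G → Fin 64}
    {ρ : Cz z →* Perm (Fin 64)} (M : Model z Q f ρ) :
    ∃ t : G, Img ρ t (P ixC) ∧ t * t = 1 ∧ Nonempty (LocData z t) := by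
  obtain ⟨u, g, t, y, C⟩ := Local.exists_cfg M
  exact ⟨t, C.img, C.tt, ⟨C.locData⟩⟩

end CfsgLib.Small.SuzOrder
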