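import Mathlib
import Cfsg.Agent.Lib.Recog.CIT.Defs

/-!
# Elements of order `5` and `7` in a simple CIT group of order `20160`

They are self-centralising, with normalisers of order `10` and `21`.  The proof is Sylow counting,
Burnside transfer and the fixed-point-free action of involutions on centralisers of odd elements.
-/

set_option autoImplicit false
set_option linter.unusedSectionVars false
set_option linter.style.haveILetI false

namespace CfsgLib.Small.SuzOrder.OddCIT

open Subgroup

variable {K : Type*} [Group K] [Finite K]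

/-- An involution and an element of odd prime order do not commute. -/
theorem no_commute (hC : Recog.CIT.CIT K) {p : ℕ} (hp : p.Prime) (hp2 : p ≠ 2) {x τ : K}
    (hx : orderOf x = p) (hτ : orderOf τ = 2) : x * τ ≠ τ * x := by
  intro h
  have hmem : x ∈ centralizer ({τ} : Set K) := mem_centralizer_singleton_iff.2 h
  obtain ⟨k, hk⟩ := IsPGroup.iff_orderOf.1 (hC τ hτ) ⟨x, hmem⟩
  rw [← Subgroup.orderOf_coe, hx] at hk
  exact hp2 ((Nat.prime_dvd_prime_iff_eq hp Nat.prime_two).1
    (hp.dvd_of_dvd_pow (m := 2) (n := k) (by rw [← hk])))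

/-- The centraliser of an element of odd prime order has odd order. -/
theorem odd_centralizer (hC : Recog.CIT.CIT K) {p : ℕ} (hp : p.Prime) (hp2 : p ≠ 2) {x : K}
    (hx : orderOf x = p) : Odd (Nat.card (centralizer ({x} : Set K))) := by
  rw [← Nat.not_even_iff_odd]
  intro he
  haveI := Fact.mk Nat.prime_two
  obtain ⟨τ, hτ⟩ := exists_prime_orderOf_dvd_card' (G := centralizer ({x} : Set K)) 2 he.two_dvd
  exact no_commute hC hp hp2 hx (by rw [Subgroup.orderOf_coe, hτ] : orderOf (τ : K) = 2)
    (mem_centralizer_singleton_iff.1 τ.2).symm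

/-- An involution normalising the centraliser of an element of odd prime order inverts it. -/
theorem inverts (hC : Recog.CIT.CIT K) {p : ℕ} (hp : p.Prime) (hp2 : p ≠ 2) {x τ : K}
    (hx : orderOf x = p) (hτ : orderOf τ = 2)
    (hn : ∀ g : K, g * x = x * g → τ * g * τ * x = x * (τ * g * τ)) :
    ∀ g : K, g * x = x * g → τ * g * τ = g⁻¹ := by
  have hττ : τ * τ = 1 := by rw [← pow_two, ← hτ, pow_orderOf_eq_one]
  let C := centralizer ({x} : Set K)
  let φ : C →* C :=
    { toFun := fun g => ⟨τ * g * τ, mem_centralizer_singleton_iff.2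
        (hn g (mem_centralizer_singleton_iff.1 g.2))⟩
      map_one' := Subtype.ext (by simp [hττ])
      map_mul' := fun a b => Subtype.ext (by
        show τ * ((a : K) * b) * τ = τ * a * τ * (τ * b * τ)
        calc τ * ((a : K) * b) * τ = τ * a * (τ * τ) * b * τ := by rw [hττ]; group
          _ = _ := by group) }
  have hfpf : MonoidHom.FixedPointFree φ := by
    intro g hg
    by_contra hne
    have hgτ : (g : K) * τ = τ * g := by
      have h := congrArg Subtype.val hg
      change τ * (g : K) * τ = g at h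
      calc (g : K) * τ = τ * g * τ * τ := by rw [h]
        _ = τ * g := by rw [mul_assoc, hττ, mul_one]
    obtain ⟨q, hq, hdvd⟩ := Nat.exists_prime_and_dvd
      (show orderOf g ≠ 1 from fun h => hne (orderOf_eq_one_iff.1 h))
    have hq2 : q ≠ 2 := by
      rintro rfl
      exact (odd_centralizer hC hp hp2 hx).not_two_dvd_nat (hdvd.trans (orderOf_dvd_natCard g))
    refine no_commute hC hq hq2 (x := (g : K) ^ (orderOf g / q)) ?_ hτ (Commute.pow_left hgτ _)
    rw [← Subgroup.coe_pow, Subgroup.orderOf_coe]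
    exact orderOf_pow_orderOf_div (orderOf_pos g).ne' hdvd
  have hinv : Function.Involutive φ := fun g => Subtype.ext (by
    show τ * (τ * g * τ) * τ = g
    rw [mul_assoc τ (g : K) τ, ← mul_assoc τ τ, hττ, one_mul, mul_assoc, hττ, mul_one])
  intro g hg
  exact congrArg Subtype.val
    (congrFun (hfpf.coe_eq_inv_of_involutive hinv) ⟨g, mem_centralizer_singleton_iff.2 hg⟩)

/-- The data of a Sylow subgroup of prime order in a simple group. -/
theorem sylow_data [IsSimpleGroup K] (hnab : ∃ a b : K, a * b ≠ b * a) {p : ℕ} (hp : p.Prime)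
    (hsq : ¬ p ^ 2 ∣ Nat.card K) {x : K} (hx : orderOf x = p) :
    ∃ a : ℕ, a ∣ p - 1 ∧ a ≠ 1 ∧
      Nat.card (normalizer ((zpowers x : Subgroup K) : Set K)) =
        a * Nat.card (centralizer ({x} : Set K)) ∧
      Nat.card K / Nat.card (normalizer ((zpowers x : Subgroup K) : Set K)) % p = 1 ∧
      (∀ g ∈ normalizer ((zpowers x : Subgroup K) : Set K), g ^ a * x = x * g ^ a) ∧
      ∃ g ∈ normalizer ((zpowers x : Subgroup K) : Set K),
        ∀ i : ℕ, g ^ i * x = x * g ^ i → a ∣ i := by
  haveI := Fact.mk hp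
  set P := zpowers x with hP
  set N := normalizer ((P : Subgroup K) : Set K) with hN
  have hPcard : Nat.card P = p := by rw [hP, Nat.card_zpowers, hx]
  have hdvd : p ∣ Nat.card K := hx ▸ orderOf_dvd_natCard x
  have hfac : (Nat.card K).factorization p = 1 := by
    have h1 : 1 ≤ (Nat.card K).factorization p :=
      (hp.pow_dvd_iff_le_factorization Nat.card_pos.ne').1 (by rwa [pow_one])
    have h2 : ¬ 2 ≤ (Nat.card K).factorization p := fun h =>
      hsq ((hp.pow_dvd_iff_le_factorization Nat.card_pos.ne').2 h)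
    omega
  let S : Sylow p K := Sylow.ofCard P (by rw [hPcard, hfac, pow_one])
  have hS : (S : Subgroup K) = P := Sylow.coe_ofCard _ _
  have hn : Nat.card K / Nat.card N % p = 1 := by
    have h := card_sylow_modEq_one p K
    rw [Sylow.card_eq_index_normalizer S, show (normalizer (S : Set K)) = N by rw [hN, ← hS]; rfl] at h
    rw [← N.index_mul_card, Nat.mul_div_cancel _ Nat.card_pos]
    rw [Nat.ModEq, Nat.one_mod_eq_one.2 hp.one_lt.ne'] at h
    exact h
  have hkey : ∀ g : N, (∀ y ∈ P, (g : K) * y = y * g) ↔ (g : K) * x = x * g := fun g =>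
    ⟨fun h => h x (mem_zpowers x), fun h y hy => by
      obtain ⟨i, rfl⟩ := hy
      exact (Commute.zpow_right h i).eq⟩
  let φ : N →* MulAut P := P.normalizerMonoidHom
  have hker : ∀ g : N, g ∈ φ.ker ↔ (g : K) * x = x * g := by
    intro g
    rw [Subgroup.normalizerMonoidHom_ker, Subgroup.mem_subgroupOf, Subgroup.mem_centralizer_iff,
      ← hkey]
    exact ⟨fun h y hy => (h y hy).symm, fun h y hy => (h y hy).symm⟩
  have hCle : centralizer ({x} : Set K) ≤ N := fun g hg => by
    rw [hN, Subgroup.mem_normalizer_iff]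
    intro y
    have hgx : g * x * g⁻¹ = x := by
      rw [mem_centralizer_singleton_iff.1 hg, mul_assoc, mul_inv_cancel, mul_one]
    constructor
    · rintro ⟨i, rfl⟩
      exact ⟨i, by show x ^ i = g * x ^ i * g⁻¹; rw [← conj_zpow, hgx]⟩
    · rintro ⟨i, hi⟩
      refine ⟨i, ?_⟩
      show x ^ i = y
      have : g * x ^ i * g⁻¹ = g * y * g⁻¹ := by rw [← conj_zpow, hgx]; exact hi
      exact mul_left_cancel (mul_right_cancel this)
  have hkcard : Nat.card φ.ker = Nat.card (centralizer ({x} : Set K)) :=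
    Nat.card_congr
      ⟨fun g => ⟨g.1, mem_centralizer_singleton_iff.2 ((hker g.1).1 g.2)⟩,
        fun g => ⟨⟨g.1, hCle g.2⟩, (hker _).2 (mem_centralizer_singleton_iff.1 g.2)⟩,
        fun _ => rfl, fun _ => rfl⟩
  haveI : IsCyclic P := isCyclic_of_prime_card (p := p) hPcard
  have hautcard : Nat.card (MulAut P) = p - 1 := by
    rw [IsCyclic.card_mulAut, hPcard, Nat.totient_prime hp]
  have hcard : Nat.card N = Nat.card φ.range * Nat.card φ.ker := by
    rw [← φ.ker.index_mul_card, Subgroup.index_ker]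
  refine ⟨Nat.card φ.range, hautcard ▸ φ.range.card_subgroup_dvd_card, ?_,
    by rw [hcard, hkcard], hn, ?_, ?_⟩
  · intro h1
    have hle : N ≤ centralizer ((S : Subgroup K) : Set K) := by
      intro g hg
      rw [hS, Subgroup.mem_centralizer_iff]
      intro y hy
      have hb : φ.range = ⊥ := Subgroup.card_eq_one.1 h1
      have hk : (⟨g, hg⟩ : N) ∈ φ.ker := by
        rw [MonoidHom.mem_ker, ← Subgroup.mem_bot, ← hb]
        exact ⟨_, rfl⟩
      exact (((hkey ⟨g, hg⟩).2 ((hker _).1 hk)) y hy).symm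
    have hS' : normalizer ((S : Subgroup K) : Set K) ≤ centralizer ((S : Subgroup K) : Set K) := by
      rw [hS, ← hN]; exact hS ▸ hle
    have hcompl := MonoidHom.ker_transferSylow_isComplement' S hS'
    rcases (MonoidHom.transferSylow S hS').normal_ker.eq_bot_or_eq_top with h | h
    · have h2 := hcompl.card_mul_card
      rw [h, Subgroup.card_bot, one_mul, hS, hPcard] at h2
      haveI : IsCyclic K := isCyclic_of_prime_card (p := p) h2.symm
      obtain ⟨a, b, hab⟩ := hnab
      letI := IsCyclic.commGroup (α := K)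
      exact hab (mul_comm a b)
    · have h2 := hcompl.card_mul_card
      rw [h, Subgroup.card_top, hS, hPcard] at h2
      have := hp.two_le
      nlinarith [Nat.card_pos (α := K)]
  · intro g hg
    have h1 : (⟨g, hg⟩ : N) ^ Nat.card φ.range ∈ φ.ker := by
      rw [MonoidHom.mem_ker, map_pow]
      exact congrArg Subtype.val (pow_card_eq_one' (x := (⟨φ ⟨g, hg⟩, _, rfl⟩ : φ.range)))
    exact (hker _).1 h1
  · haveI : IsCyclic (ZMod (Nat.card P))ˣ := by rw [hPcard]; infer_instance
    haveI : IsCyclic (MulAut P) := isCyclic_of_injective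
      ((IsCyclic.mulAutMulEquiv P).toMonoidHom) (IsCyclic.mulAutMulEquiv P).injective
    obtain ⟨⟨_, g, rfl⟩, hgen⟩ := IsCyclic.exists_generator (α := φ.range)
    refine ⟨g, g.2, fun i hi => ?_⟩
    have h1 : φ g ^ i = 1 := by
      rw [← map_pow]
      exact MonoidHom.mem_ker.1 ((hker (g ^ i)).2 (by rw [Subgroup.coe_pow]; exact hi))
    have h2 := orderOf_eq_card_of_forall_mem_zpowers hgen
    rw [← Subgroup.orderOf_coe] at h2
    rw [← h2]
    exact orderOf_dvd_of_pow_eq_one h1

/-- An even normaliser supplies an involution inverting the centraliser. -/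
theorem exists_inverting (hC : Recog.CIT.CIT K) {p : ℕ} (hp : p.Prime) (hp2 : p ≠ 2) {x : K}
    (hx : orderOf x = p) (he : 2 ∣ Nat.card (normalizer ((zpowers x : Subgroup K) : Set K))) :
    ∃ τ : K, orderOf τ = 2 ∧ τ * x * τ = x⁻¹ ∧ ∀ g : K, g * x = x * g → τ * g * τ = g⁻¹ := by
  haveI := Fact.mk Nat.prime_two
  obtain ⟨⟨τ, hτN⟩, hτ⟩ := exists_prime_orderOf_dvd_card' 2 he
  rw [← Subgroup.orderOf_coe] at hτ
  have hττ : τ * τ = 1 := by rw [← pow_two, ← hτ, pow_orderOf_eq_one]
  have hi : τ⁻¹ = τ := inv_eq_of_mul_eq_one_right hττ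
  obtain ⟨j, hj⟩ := (Subgroup.mem_normalizer_iff.1 hτN x).1 (mem_zpowers x)
  have hj' : τ * x * τ = x ^ j := by
    have : x ^ j = τ * x * τ⁻¹ := hj
    rw [this, hi]
  have key := inverts hC hp hp2 hx hτ (fun g hg => by
    have h1 : Commute (τ * g * τ) (τ * x * τ) := by
      show τ * g * τ * (τ * x * τ) = τ * x * τ * (τ * g * τ)
      calc τ * g * τ * (τ * x * τ) = τ * g * (τ * τ) * x * τ := by group
        _ = τ * (g * x) * τ := by rw [hττ]; group
        _ = τ * (x * g) * τ := by rw [hg]
        _ = τ * x * (τ * τ) * g * τ := by rw [hττ]; group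
        _ = _ := by group
    rw [hj'] at h1
    have h2 : x ∈ zpowers (x ^ j) := by
      have hne : x ^ j ≠ 1 := fun h0 => by
        have hx1 : x = 1 := by
          calc x = τ * (τ * x * τ) * τ := by
                rw [mul_assoc τ x τ, ← mul_assoc τ τ, hττ, one_mul, mul_assoc, hττ, mul_one]
            _ = 1 := by rw [hj', h0, mul_one, hττ]
        rw [hx1, orderOf_one] at hx
        exact hp.ne_one hx.symm
      haveI := Fact.mk hp
      have hle : zpowers (x ^ j) ≤ zpowers x := zpowers_le.2 ⟨j, rfl⟩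
      have hc : Nat.card (zpowers x) = p := by rw [Nat.card_zpowers, hx]
      have hoj : orderOf (x ^ j) = p := by
        have hd : orderOf (x ^ j) ∣ p := by
          rw [← Nat.card_zpowers, ← hc]
          exact Subgroup.card_dvd_of_le hle
        exact (Nat.dvd_prime hp).1 hd |>.resolve_left (fun h => hne (orderOf_eq_one_iff.1 h))
      rw [Subgroup.eq_of_le_of_card_ge hle (by rw [hc, Nat.card_zpowers, hoj])]
      exact mem_zpowers x
    obtain ⟨i, hi'⟩ := h2
    have h3 := h1.zpow_right i
    rw [show (x ^ j) ^ i = x from hi'] at h3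
    exact h3)
  exact ⟨τ, hτ, key x rfl, key⟩

variable [IsSimpleGroup K] (hC : Recog.CIT.CIT K) (hcard : Nat.card K = 20160)

include hcard in
theorem nonabelian : ∃ a b : K, a * b ≠ b * a := by
  by_contra h
  push Not at h
  haveI : Fact (Nat.Prime 2) := ⟨Nat.prime_two⟩
  obtain ⟨t, ht⟩ := exists_prime_orderOf_dvd_card' (G := K) 2 (by rw [hcard]; norm_num)
  haveI : (zpowers t).Normal := ⟨fun n hn g => by
    rw [h g n, mul_assoc, mul_inv_cancel, mul_one]; exact hn⟩
  rcases (inferInstance : (zpowers t).Normal).eq_bot_or_eq_top with h1 | h1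
  · rw [Subgroup.zpowers_eq_bot] at h1
    rw [h1, orderOf_one] at ht
    omega
  · have := Nat.card_zpowers t
    rw [h1, Subgroup.card_top, hcard, ht] at this
    omega

include hC hcard in
theorem five_pre {x : K} (hx : orderOf x = 5) :
    Nat.card (centralizer ({x} : Set K)) ∈ [5, 105, 315] ∧
    (Nat.card (centralizer ({x} : Set K)) = 5 →
      Nat.card (normalizer ((zpowers x : Subgroup K) : Set K)) = 10) ∧
    ∃ τ : K, orderOf τ = 2 ∧ ∀ g : K, g * x = x * g → τ * g * τ = g⁻¹ := by
  have hp : Nat.Prime 5 := by norm_num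
  obtain ⟨a, had, ha1, hN, hn, hpow, g, hgN, hg⟩ := sylow_data (nonabelian hcard) hp
    (by rw [hcard]; norm_num) hx
  have ha : a = 2 ∨ a = 4 := by
    have := Nat.le_of_dvd (by norm_num) had
    interval_cases a <;> omega
  obtain ⟨τ, hτ, -, hinv⟩ := exists_inverting hC hp (by norm_num) hx (by
    rw [hN]; rcases ha with rfl | rfl <;> exact Dvd.dvd.mul_right (by norm_num) _)
  set C := centralizer ({x} : Set K)
  have hodd := odd_centralizer hC hp (by norm_num) hx
  have h315 : Nat.card C ∣ 315 := by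
    have h := hcard ▸ C.card_subgroup_dvd_card
    exact (Nat.Coprime.pow_right 6 (Nat.coprime_two_right.2 hodd)).dvd_of_dvd_mul_left
      (show Nat.card C ∣ 2 ^ 6 * 315 by norm_num; exact h)
  obtain ⟨c, hc⟩ : 5 ∣ Nat.card C := by
    have := orderOf_dvd_natCard (⟨x, mem_centralizer_singleton_iff.2 rfl⟩ : C)
    rwa [← Subgroup.orderOf_coe, hx] at this
  have hc63 : c ∣ 63 := Nat.dvd_of_mul_dvd_mul_left (by norm_num : 0 < 5) (hc ▸ h315)
  rw [hcard, hN, hc] at hn
  have hc3 : a = 4 → c ≠ 3 := by
    rintro rfl rfl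
    -- `g ^ 2` would centralise an element of order three
    haveI : Fact (Nat.Prime 3) := ⟨Nat.prime_three⟩
    obtain ⟨⟨u, huC⟩, hu⟩ := exists_prime_orderOf_dvd_card' (G := C) 3 (by rw [hc]; norm_num)
    have huniq : ∀ v : C, v ^ 3 = 1 → v ∈ zpowers (⟨u, huC⟩ : C) := by
      intro v hv
      let T : Sylow 3 C := Sylow.ofCard (zpowers (⟨u, huC⟩ : C)) (by
        rw [Nat.card_zpowers, hu, hc, show Nat.factorization (5 * 3) 3 = 1 by
          rw [Nat.factorization_mul (by norm_num) (by norm_num), Finsupp.add_apply,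
            Nat.Prime.factorization_self Nat.prime_three, Nat.Prime.factorization hp]
          simp, pow_one])
      haveI : (T : Subgroup C).Normal := ⟨fun n hn' w => by
        have e1 := hinv (n : K) (mem_centralizer_singleton_iff.1 n.2)
        have e2 := hinv (w : K) (mem_centralizer_singleton_iff.1 w.2)
        have e3 := hinv ((n * w : C) : K) (mem_centralizer_singleton_iff.1 (n * w).2)
        have hττ : τ * τ = 1 := by rw [← pow_two, ← hτ, pow_orderOf_eq_one]
        have hcomm : (n : K)⁻¹ * (w : K)⁻¹ = ((n * w : C) : K)⁻¹ := by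
          rw [← e1, ← e2, ← e3, Subgroup.coe_mul]
          calc τ * n * τ * (τ * w * τ) = τ * n * (τ * τ) * w * τ := by group
            _ = _ := by rw [hττ]; group
        have hnw : (n : K) * w = w * n := by
          rw [Subgroup.coe_mul, mul_inv_rev] at hcomm
          have h' := congrArg (fun z => z⁻¹) hcomm
          simp only [mul_inv_rev, inv_inv] at h'
          exact h'.symm
        rwa [show w * n * w⁻¹ = n from Subtype.ext (by
          show (w : K) * n * (w : K)⁻¹ = n
          rw [← hnw, mul_assoc, mul_inv_cancel, mul_one])]⟩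
      haveI := Sylow.unique_of_normal T ‹_›
      have hp3 : IsPGroup 3 (zpowers v) := by
        rw [IsPGroup.iff_card]
        rcases (Nat.dvd_prime Nat.prime_three).1 (orderOf_dvd_of_pow_eq_one hv) with h | h
        · exact ⟨0, by rw [Nat.card_zpowers, h, pow_zero]⟩
        · exact ⟨1, by rw [Nat.card_zpowers, h, pow_one]⟩
      obtain ⟨T', hT'⟩ := hp3.exists_le_sylow
      rw [Subsingleton.elim T' T] at hT'
      exact hT' (mem_zpowers v)
    have hconjC : ∀ v : K, v * x = x * v → g * v * g⁻¹ * x = x * (g * v * g⁻¹) := by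
      intro v hv
      have hj' : g⁻¹ * x * g ∈ zpowers x := by
        have := (Subgroup.mem_normalizer_iff.1 (inv_mem hgN) x).1 (mem_zpowers x)
        rwa [inv_inv] at this
      obtain ⟨i, hi⟩ := hj'
      have hvi : Commute v (g⁻¹ * x * g) := by
        rw [show g⁻¹ * x * g = x ^ i from hi.symm]
        exact Commute.zpow_right hv i
      calc g * v * g⁻¹ * x = g * (v * (g⁻¹ * x * g)) * g⁻¹ := by group
        _ = g * ((g⁻¹ * x * g) * v) * g⁻¹ := by rw [hvi.eq]
        _ = x * (g * v * g⁻¹) := by group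
    have hu3 : (⟨u, huC⟩ : C) ^ 3 = 1 := by rw [← hu, pow_orderOf_eq_one]
    have hu3' : u ^ 3 = 1 := congrArg Subtype.val hu3
    obtain ⟨k, hk⟩ := huniq ⟨g * u * g⁻¹, mem_centralizer_singleton_iff.2
      (hconjC u (mem_centralizer_singleton_iff.1 huC))⟩
      (Subtype.ext (by show (g * u * g⁻¹) ^ 3 = 1; rw [conj_pow, hu3', mul_one, mul_inv_cancel]))
    have hk' : u ^ k = g * u * g⁻¹ := congrArg Subtype.val hk
    have huord : orderOf u = 3 := by rw [← hu, ← Subgroup.orderOf_coe]
    have hk3 : u ^ (k * k) = u := by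
      have hne : g * u * g⁻¹ ≠ 1 := fun h => by
        rw [conj_eq_one_iff] at h
        rw [h, orderOf_one] at huord
        omega
      rw [← hk'] at hne
      have hm : k % 3 = 1 ∨ k % 3 = 2 := by
        rcases (by omega : k % 3 = 0 ∨ k % 3 = 1 ∨ k % 3 = 2) with h | h
        · exfalso
          refine hne ?_
          rw [← zpow_mod_orderOf, huord]
          norm_num [h]
        · exact h
      rw [← zpow_mod_orderOf, huord]
      rcases hm with h | h <;> norm_num [Int.mul_emod, h]
    have hg2 : Commute (g ^ 2) u := by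
      have h2 : g ^ 2 * u * (g ^ 2)⁻¹ = u := by
        calc g ^ 2 * u * (g ^ 2)⁻¹ = g * (g * u * g⁻¹) * g⁻¹ := by rw [pow_two]; group
          _ = g * u ^ k * g⁻¹ := by rw [hk']
          _ = (g * u * g⁻¹) ^ k := by rw [conj_zpow]
          _ = u ^ (k * k) := by rw [← hk', ← zpow_mul]
          _ = u := hk3
      show g ^ 2 * u = u * g ^ 2
      calc g ^ 2 * u = g ^ 2 * u * (g ^ 2)⁻¹ * g ^ 2 := by group
        _ = _ := by rw [h2]
    have heven : 2 ∣ orderOf (g ^ 2) := by
      by_contra hno
      have ho : Odd (orderOf (g ^ 2)) := Nat.odd_iff.2 (by omega)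
      have h4 : (4 : ℕ) ∣ 2 * orderOf (g ^ 2) := hg _ (by
        rw [pow_mul, pow_orderOf_eq_one, one_mul, mul_one])
      obtain ⟨m, hm⟩ := ho
      omega
    refine no_commute hC Nat.prime_three (by norm_num) huord
      (τ := (g ^ 2) ^ (orderOf (g ^ 2) / 2)) ?_ ((hg2.pow_left _).symm)
    exact orderOf_pow_orderOf_div (orderOf_pos _).ne' heven
  refine ⟨?_, ?_, τ, hτ, hinv⟩
  · rw [hc]
    have := Nat.le_of_dvd (by norm_num) hc63
    rcases ha with rfl | rfl <;> interval_cases c <;> first
      | decide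
      | (exfalso; omega)
      | exact absurd rfl (hc3 rfl)
  · intro h5
    have hc1 : c = 1 := by omega
    subst hc1
    rcases ha with rfl | rfl
    · rw [hN, h5]
    · norm_num at hn

include hC hcard in
theorem seven_pre {x : K} (hx : orderOf x = 7) :
    (Nat.card (centralizer ({x} : Set K)) = 7 ∧
      Nat.card (normalizer ((zpowers x : Subgroup K) : Set K)) = 21) ∨
    (5 ∣ Nat.card (centralizer ({x} : Set K)) ∧
      ∀ τ : K, orderOf τ = 2 → τ * x * τ ≠ x⁻¹) ∨
    (5 ∣ Nat.card (centralizer ({x} : Set K)) ∧ ¬ 15 ∣ Nat.card (centralizer ({x} : Set K))) := by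
  have hp : Nat.Prime 7 := by norm_num
  obtain ⟨a, had, ha1, hN, hn, hpow, -⟩ := sylow_data (nonabelian hcard) hp
    (by rw [hcard]; norm_num) hx
  set C := centralizer ({x} : Set K)
  have hodd := odd_centralizer hC hp (by norm_num) hx
  have h315 : Nat.card C ∣ 315 := by
    have h := hcard ▸ C.card_subgroup_dvd_card
    exact (Nat.Coprime.pow_right 6 (Nat.coprime_two_right.2 hodd)).dvd_of_dvd_mul_left
      (show Nat.card C ∣ 2 ^ 6 * 315 by norm_num; exact h)
  obtain ⟨c, hc⟩ : 7 ∣ Nat.card C := by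
    have := orderOf_dvd_natCard (⟨x, mem_centralizer_singleton_iff.2 rfl⟩ : C)
    rwa [← Subgroup.orderOf_coe, hx] at this
  have hc45 : c ∣ 45 := Nat.dvd_of_mul_dvd_mul_left (by norm_num : 0 < 7) (hc ▸ h315)
  rw [hcard, hN, hc] at hn
  have hdK : a * (7 * c) ∣ 20160 := by
    rw [← hc, ← hN, ← hcard]
    exact Subgroup.card_subgroup_dvd_card _
  rw [hN, hc]
  have hnoinv : a = 3 → ∀ τ : K, orderOf τ = 2 → τ * x * τ ≠ x⁻¹ := by
    rintro rfl τ hτ h
    have hττ : τ * τ = 1 := by rw [← pow_two, ← hτ, pow_orderOf_eq_one]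
    have hi : τ⁻¹ = τ := inv_eq_of_mul_eq_one_right hττ
    have hmem : τ ∈ normalizer ((zpowers x : Subgroup K) : Set K) := by
      rw [Subgroup.mem_normalizer_iff, hi]
      intro y
      constructor
      · rintro ⟨i, rfl⟩
        refine ⟨-i, ?_⟩
        show x ^ (-i) = τ * x ^ i * τ
        rw [show τ * x ^ i * τ = τ * x ^ i * τ⁻¹ by rw [hi], ← conj_zpow, hi, h, inv_zpow, zpow_neg]
      · rintro ⟨i, hi'⟩
        refine ⟨-i, ?_⟩
        show x ^ (-i) = y
        have e1 : x ^ i = τ * y * τ := hi'
        calc x ^ (-i) = (τ * x * τ) ^ i := by rw [h, inv_zpow, zpow_neg]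
          _ = τ * x ^ i * τ := by
            rw [show τ * x * τ = τ * x * τ⁻¹ by rw [hi], conj_zpow, hi]
          _ = y := by rw [e1, mul_assoc τ y τ, ← mul_assoc τ τ, hττ, one_mul, mul_assoc, hττ, mul_one]
    have h3 := hpow τ hmem
    rw [pow_succ, pow_two, hττ, one_mul] at h3
    rw [h3, mul_assoc, hττ, mul_one] at h
    have : x ^ 2 = 1 := by
      rw [pow_two]
      nth_rw 1 [h]
      rw [inv_mul_cancel]
    have := orderOf_dvd_of_pow_eq_one this
    rw [hx] at this
    norm_num at this
  have ha6 := Nat.le_of_dvd (by norm_num) had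
  have hc' := Nat.le_of_dvd (by norm_num) hc45
  interval_cases a <;> norm_num at had <;> try omega
  all_goals interval_cases c <;> (try omega) <;> norm_num
  all_goals exact hnoinv rfl

include hC hcard in
/-- Elements of order five: centraliser and normaliser. -/
theorem five {x : K} (hx : orderOf x = 5) :
    Nat.card (centralizer ({x} : Set K)) = 5 ∧
      Nat.card (normalizer ((zpowers x : Subgroup K) : Set K)) = 10 := by
  obtain ⟨hc, hN, τ, hτ, hinv⟩ := five_pre hC hcard hx
  suffices h5 : Nat.card (centralizer ({x} : Set K)) = 5 from ⟨h5, hN h5⟩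
  simp only [List.mem_cons, List.not_mem_nil, or_false] at hc
  by_contra h5
  have h105 : 105 ∣ Nat.card (centralizer ({x} : Set K)) := by
    rcases hc with h | h | h <;> first | exact absurd h h5 | rw [h] <;> norm_num
  haveI : Fact (Nat.Prime 7) := ⟨by norm_num⟩
  obtain ⟨⟨b, hbC⟩, hb⟩ := exists_prime_orderOf_dvd_card' (G := centralizer ({x} : Set K)) 7
    (dvd_trans (by norm_num) h105)
  rw [← Subgroup.orderOf_coe] at hb
  have hττ : τ * τ = 1 := by rw [← pow_two, ← hτ, pow_orderOf_eq_one]
  have hbx : b * x = x * b := mem_centralizer_singleton_iff.1 hbC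
  have hle : centralizer ({x} : Set K) ≤ centralizer ({b} : Set K) := by
    intro g hg
    have hgx : g * x = x * g := mem_centralizer_singleton_iff.1 hg
    have e1 := hinv g hgx
    have e2 := hinv b hbx
    have e3 := hinv (g * b) (by rw [mul_assoc, hbx, ← mul_assoc, hgx, mul_assoc])
    rw [mem_centralizer_singleton_iff]
    have h : (g * b)⁻¹ = g⁻¹ * b⁻¹ := by
      rw [← e1, ← e2, ← e3]
      calc τ * (g * b) * τ = τ * g * (τ * τ) * b * τ := by rw [hττ]; group
        _ = _ := by group
    have h' := congrArg (fun z => z⁻¹) h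
    simp only [mul_inv_rev, inv_inv] at h'
    exact h'
  have hdvd := h105.trans (Subgroup.card_dvd_of_le hle)
  rcases seven_pre hC hcard hb with ⟨h7, -⟩ | ⟨-, hno⟩ | ⟨-, hno⟩
  · rw [h7] at hdvd
    norm_num at hdvd
  · exact hno τ hτ (hinv b hbx)
  · exact hno (dvd_trans (by norm_num) hdvd)

include hC hcard in
/-- Elements of order seven: centraliser and normaliser. -/
theorem seven {x : K} (hx : orderOf x = 7) :
    Nat.card (centralizer ({x} : Set K)) = 7 ∧
      Nat.card (normalizer ((zpowers x : Subgroup K) : Set K)) = 21 := by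
  have hno : ¬ 5 ∣ Nat.card (centralizer ({x} : Set K)) := by
    intro h
    haveI : Fact (Nat.Prime 5) := ⟨by norm_num⟩
    obtain ⟨⟨f, hfC⟩, hf⟩ := exists_prime_orderOf_dvd_card' (G := centralizer ({x} : Set K)) 5 h
    rw [← Subgroup.orderOf_coe] at hf
    have h5 := (five hC hcard hf).1
    have := orderOf_dvd_natCard (⟨x, mem_centralizer_singleton_iff.2
      (mem_centralizer_singleton_iff.1 hfC).symm⟩ : centralizer ({f} : Set K))
    rw [← Subgroup.orderOf_coe, hx, h5] at this
    norm_num at this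
  rcases seven_pre hC hcard hx with h | h | h
  · exact h
  · exact absurd h.1 hno
  · exact absurd h.1 hno

end CfsgLib.Small.SuzOrder.OddCIT
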