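import Cfsg.Agent.Lib.Small.SuzOrder.Interface
import Cfsg.Agent.Lib.Small.SuzOrder.OddCIT
import Cfsg.Agent.Lib.Involutions.ZStar.Main

/-!
# Elements of odd order in the centraliser of the second class of involutions

From `LocData` and `FourData`: centralisers and automisers of the elements of order five and
seven of `C(t)`.
-/

set_option autoImplicit false
set_option linter.unusedSectionVars false
set_option linter.style.haveILetI false

namespace CfsgLib.Small.SuzOrder

open Subgroup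

universe u

/-- An element of `p`-power order is conjugate into a given subgroup of full `p`-power order. -/
theorem conj_into_pow {G : Type*} [Group G] [Finite G] {p : ℕ} (hp : p.Prime) (P : Subgroup G)
    (hP : Nat.card P = p ^ (Nat.card G).factorization p) {y : G} {a : ℕ}
    (hy : orderOf y = p ^ a) : ∃ h : G, h * y * h⁻¹ ∈ P := by
  haveI := Fact.mk hp
  have h2 : IsPGroup p (zpowers y) := IsPGroup.of_card (n := a) (by rw [Nat.card_zpowers, hy])
  obtain ⟨S, hS⟩ := h2.exists_le_sylow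
  obtain ⟨g, hg⟩ := MulAction.exists_smul_eq G S (Sylow.ofCard P hP)
  refine ⟨g, ?_⟩
  have e : ((g • S : Sylow p G) : Subgroup G) = P := by rw [hg, Sylow.coe_ofCard]
  rw [← e, Sylow.coe_subgroup_smul, Subgroup.mem_pointwise_smul_iff_inv_smul_mem]
  have := hS (mem_zpowers y)
  rwa [← map_inv, MulAut.smul_def, MulAut.conj_apply, inv_inv,
    show g⁻¹ * (g * y * g⁻¹) * g = y by group]

/-- An element mapping a generator into the cyclic subgroup normalises it. -/
theorem mem_norm {G : Type*} [Group G] [Finite G] {g x : G} (h : g * x * g⁻¹ ∈ zpowers x) :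
    g ∈ normalizer ((zpowers x : Subgroup G) : Set G) := by
  have heq : (zpowers x).map (MulAut.conj g).toMonoidHom = zpowers x := by
    refine Subgroup.eq_of_le_of_card_ge ?_ ?_
    · rw [MonoidHom.map_zpowers, zpowers_le]
      exact h
    · rw [Subgroup.card_map_of_injective (MulAut.conj g).injective]
  rw [Subgroup.mem_normalizer_iff]
  intro u
  conv_rhs => rw [← heq]
  exact ⟨fun hu => ⟨u, hu, rfl⟩, fun ⟨u', hu', he⟩ => (MulAut.conj g).injective he ▸ hu'⟩

/-- The quotient of the centraliser of the four-group. -/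
structure Quo {G : Type u} [Group G] {z t : G} {L : LocData z t} (D : FourData L) (K : Type u)
    [Group K] where
  π : D.M →* K
  surj : Function.Surjective π
  ker : ∀ m : D.M, π m = 1 ↔ (m : G) ∈ D.V
  cit : Recog.CIT.CIT K
  card : Nat.card K = 20160

namespace Odd

variable {G : Type u} [Group G] [Finite G] {z t : G} {L : LocData z t} (D : FourData L)

theorem tz_mem {x : G} (h : x ∈ Tz z t) : x * z = z * x ∧ x * t = t * x :=
  ⟨mem_centralizer_singleton_iff.1 h.1, mem_centralizer_singleton_iff.1 h.2⟩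

theorem T0_le_T {x : G} (h : x ∈ L.T0) : x ∈ Tz z t := ((L.T0_eq x).1 h).1

theorem V_le_T0 {v : G} (h : v ∈ D.V) : v ∈ L.T0 := ((L.Z0_eq v).1 (D.V_le h)).1

theorem M_comm_t {m : G} (h : m ∈ D.M) : m * t = t * m := (D.M_eq m).1 h t D.t_mem

theorem V_le_M {v : G} (h : v ∈ D.V) : v ∈ D.M := D.T0_le (V_le_T0 D h)

include L in
theorem z_mem_T : z ∈ Tz z t :=
  ⟨mem_centralizer_singleton_iff.2 rfl, mem_centralizer_singleton_iff.2 L.comm⟩

theorem z_mem_S : z ∈ L.S := by
  rw [L.S_eq]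
  exact subset_closure ⟨z_mem_T (L := L), IsConj.refl z⟩

theorem mem_S_of_conj {x : G} (h1 : IsConj z x) (h2 : x * z = z * x) (h3 : x * t = t * x) :
    x ∈ L.S := by
  rw [L.S_eq]
  exact subset_closure
    ⟨⟨mem_centralizer_singleton_iff.2 h2, mem_centralizer_singleton_iff.2 h3⟩, h1⟩

theorem S_le_M {x : G} (h : x ∈ L.S) : x ∈ D.M := D.T0_le (L.S_le h)

theorem eq_one_of_S_V {x : G} (h1 : x ∈ L.S) (h2 : x ∈ D.V) : x = 1 := by
  rw [← Subgroup.mem_bot, ← D.V_inf]
  exact ⟨h2, h1⟩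

include D in
theorem V_inv {v : G} (h : v ∈ D.V) : v⁻¹ = v := inv_eq_of_mul_eq_one_right (D.V_sq v h)

/-- `C(t)` normalises `M`. -/
theorem M_conj {g m : G} (hg : g * t = t * g) (hm : m ∈ D.M) : g * m * g⁻¹ ∈ D.M := by
  rw [D.M_eq]
  intro v hv
  have h1 : g⁻¹ * v * g ∈ D.V := by
    have hg' : g⁻¹ * t = t * g⁻¹ := (Commute.inv_left hg).eq
    have := D.V_norm g⁻¹ hg' v hv
    rwa [inv_inv] at this
  have h2 := (D.M_eq m).1 hm _ h1
  calc g * m * g⁻¹ * v = g * (m * (g⁻¹ * v * g)) * g⁻¹ := by group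
    _ = g * ((g⁻¹ * v * g) * m) * g⁻¹ := by rw [h2]
    _ = v * (g * m * g⁻¹) := by group

/-- The square of an element of `C(t)` lies in `M`. -/
theorem sq_mem {g : G} (hg : g * t = t * g) : g * g ∈ D.M := by
  have hle : D.M ≤ centralizer ({t} : Set G) := fun m hm =>
    mem_centralizer_singleton_iff.2 (M_comm_t D hm)
  have hi : (D.M.subgroupOf (centralizer ({t} : Set G))).index = 2 := by
    have h := (D.M.subgroupOf (centralizer ({t} : Set G))).index_mul_card
    rw [Nat.card_congr (subgroupOfEquivOfLe hle).toEquiv, D.card_M, D.card_H] at h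
    omega
  have h := Subgroup.sq_mem_of_index_two hi
    (⟨g, mem_centralizer_singleton_iff.2 hg⟩ : centralizer ({t} : Set G))
  rw [Subgroup.mem_subgroupOf, pow_two] at h
  exact h

/-- An element of order `p` of `M` is conjugate in `M` into a given subgroup of order `p`. -/
theorem sylow_M {p : ℕ} (hp : p.Prime) (hf : (80640 : ℕ).factorization p = 1) {x x' : G}
    (hx : orderOf x = p) (hx' : orderOf x' = p) (hxM : x ∈ D.M) (hx'M : x' ∈ D.M) :
    ∃ m ∈ D.M, m * x' * m⁻¹ ∈ zpowers x := by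
  obtain ⟨m, hm⟩ := conj_into_pow hp (zpowers (⟨x, hxM⟩ : D.M))
    (by rw [Nat.card_zpowers, D.card_M, hf, pow_one, ← Subgroup.orderOf_coe, hx])
    (y := ⟨x', hx'M⟩) (a := 1) (by rw [pow_one, ← Subgroup.orderOf_coe, hx'])
  obtain ⟨i, hi⟩ := hm
  exact ⟨m, m.2, i, congrArg Subtype.val hi⟩

variable {K : Type u} [Group K] [Finite K] (Q : Quo D K)

theorem pi_eq {m n : D.M} : Q.π m = Q.π n ↔ ((n⁻¹ * m : D.M) : G) ∈ D.V := by
  rw [← Q.ker, map_mul, map_inv, inv_mul_eq_one, eq_comm]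

/-- The restriction of the quotient map to `S`. -/
def piS : L.S →* K := Q.π.comp (Subgroup.inclusion fun _ h => S_le_M D h)

theorem piS_injective : Function.Injective (piS D Q) := by
  rw [injective_iff_map_eq_one]
  intro s hs
  exact Subtype.ext (eq_one_of_S_V D s.2 ((Q.ker _).1 hs))

theorem card_piS : Nat.card (piS D Q).range = 64 := by
  rw [← L.card_S]
  exact (Nat.card_congr (MonoidHom.ofInjective (piS_injective D Q)).toEquiv).symm

theorem pi_z_order : orderOf (Q.π ⟨z, S_le_M D (z_mem_S (L := L))⟩) = 2 := by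
  rw [show Q.π ⟨z, S_le_M D (z_mem_S (L := L))⟩ = piS D Q ⟨z, z_mem_S⟩ from rfl,
    orderOf_injective _ (piS_injective D Q), ← Subgroup.orderOf_coe]
  exact L.ord_z

/-- What commutes with `z` modulo `V` lies in `T0`. -/
theorem mem_T0 {m : D.M} (hm : Commute (Q.π m) (Q.π ⟨z, S_le_M D (z_mem_S (L := L))⟩)) :
    (m : G) ∈ L.T0 := by
  set c := Q.π ⟨z, S_le_M D (z_mem_S (L := L))⟩ with hc
  have hle : (piS D Q).range ≤ centralizer ({c} : Set K) := by
    rintro _ ⟨s, rfl⟩
    rw [mem_centralizer_singleton_iff]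
    have h := (tz_mem (T0_le_T (L.S_le s.2))).1
    show Q.π _ * Q.π _ = Q.π _ * Q.π _
    rw [← map_mul, ← map_mul]
    exact congrArg Q.π (Subtype.ext h)
  have heq : (piS D Q).range = centralizer ({c} : Set K) := by
    refine Subgroup.eq_of_le_of_card_ge hle ?_
    haveI := Fact.mk Nat.prime_two
    obtain ⟨n, hn⟩ := IsPGroup.iff_card.1 (Q.cit c (pi_z_order D Q))
    rw [card_piS, hn]
    have hd : 2 ^ n ∣ 2 ^ 6 * 315 := by
      rw [← hn, show (2 : ℕ) ^ 6 * 315 = Nat.card K by rw [Q.card]; norm_num]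
      exact Subgroup.card_subgroup_dvd_card _
    have h64 := (Nat.Coprime.pow_left n (by norm_num : Nat.Coprime 2 315)).dvd_of_dvd_mul_right hd
    exact Nat.le_of_dvd (by norm_num) h64
  obtain ⟨s, hs⟩ : Q.π m ∈ (piS D Q).range := by
    rw [heq, mem_centralizer_singleton_iff]; exact hm.eq
  have hv := (pi_eq D Q).1 hs.symm
  have h := mul_mem (L.S_le s.2) (V_le_T0 D hv)
  rwa [Subgroup.coe_mul, Subgroup.coe_inv, Subgroup.coe_inclusion, mul_inv_cancel_left] at h

include Q in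
/-- A coset of `V` contains at most one conjugate of `z`. -/
theorem uniq {x v : G} (hx : IsConj z x) (hxt : x * t = t * x) (hv : v ∈ D.V)
    (hxv : IsConj z (x * v)) : v = 1 := by
  obtain ⟨hxM, a, ha, hax⟩ := D.z_conj x hx hxt
  obtain ⟨-, b, hb, hbx⟩ := D.z_conj (x * v) hxv
    (M_comm_t D (mul_mem hxM (V_le_M D hv)))
  have hn : a⁻¹ * b * z * (a⁻¹ * b)⁻¹ = z * v := by
    calc a⁻¹ * b * z * (a⁻¹ * b)⁻¹ = a⁻¹ * (b * z * b⁻¹) * a := by group
      _ = a⁻¹ * ((a * z * a⁻¹) * v) * a := by rw [hbx, hax]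
      _ = z * (a⁻¹ * (v * a)) := by group
      _ = z * (a⁻¹ * (a * v)) := by rw [(D.M_eq a).1 ha v hv]
      _ = z * v := by rw [inv_mul_cancel_left]
  have hn' : a⁻¹ * b * z = z * v * (a⁻¹ * b) := by rw [← hn, inv_mul_cancel_right]
  have hT := mem_T0 D Q (m := ⟨a⁻¹ * b, mul_mem (inv_mem ha) hb⟩) (by
    have e := congrArg Q.π (show (⟨a⁻¹ * b, mul_mem (inv_mem ha) hb⟩ : D.M) *
      ⟨z, S_le_M D z_mem_S⟩ = ⟨z, S_le_M D z_mem_S⟩ * ⟨v, V_le_M D hv⟩ *
        ⟨a⁻¹ * b, mul_mem (inv_mem ha) hb⟩ from Subtype.ext hn')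
    simp only [map_mul, (Q.ker ⟨v, V_le_M D hv⟩).2 hv, mul_one] at e
    exact e)
  rw [(tz_mem (T0_le_T hT)).1, mul_inv_cancel_right] at hn
  exact mul_eq_left.1 hn.symm

/-- Order of the image of an element of odd prime order. -/
theorem pi_order {p : ℕ} (hp : p.Prime) (hp2 : p ≠ 2) {x : D.M} (hx : orderOf (x : G) = p) :
    orderOf (Q.π x) = p := by
  haveI := Fact.mk hp
  refine orderOf_eq_prime ?_ ?_
  · rw [← map_pow, Q.ker, Subgroup.coe_pow, ← hx, pow_orderOf_eq_one]
    exact one_mem _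
  · intro h
    have h2 := orderOf_dvd_of_pow_eq_one
      (show (x : G) ^ 2 = 1 by rw [pow_two]; exact D.V_sq _ ((Q.ker x).1 h))
    rw [hx] at h2
    exact hp2 ((Nat.prime_dvd_prime_iff_eq hp Nat.prime_two).1 h2)

include Q in
/-- Centraliser and normaliser in the quotient of the image of an element of order five or seven. -/
theorem cit_card [IsSimpleGroup K] {p : ℕ} (hp : p = 5 ∨ p = 7) {x : K} (hx : orderOf x = p) :
    Nat.card (centralizer ({x} : Set K)) = p ∧
    ¬ 4 ∣ Nat.card (normalizer ((zpowers x : Subgroup K) : Set K)) := by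
  rcases hp with rfl | rfl
  · obtain ⟨h1, h2⟩ := OddCIT.five Q.cit Q.card hx
    exact ⟨h1, by rw [h2]; norm_num⟩
  · obtain ⟨h1, h2⟩ := OddCIT.seven Q.cit Q.card hx
    exact ⟨h1, by rw [h2]; norm_num⟩

include Q in
theorem not_commute_T [IsSimpleGroup K] {p : ℕ} (hp : p = 5 ∨ p = 7) {x y : G}
    (hx : orderOf x = p) (hxM : x ∈ D.M) (hy : y ∈ Tz z t) (hy0 : y ∉ L.T0)
    (hy2 : ∃ a : ℕ, orderOf y = 2 ^ a) : y * x ≠ x * y := by
  intro hyx
  have hpp : p.Prime := by rcases hp with rfl | rfl <;> norm_num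
  have hp2 : p ≠ 2 := by rcases hp with rfl | rfl <;> norm_num
  have hx' := pi_order D Q hpp hp2 (x := ⟨x, hxM⟩) hx
  -- the square of `y` lies in `V`
  have hyy : y * y ∈ D.V := by
    have hM := sq_mem D (tz_mem hy).2
    rw [← Q.ker ⟨y * y, hM⟩]
    by_contra hne
    set w := Q.π ⟨y * y, hM⟩ with hw
    have hc : Commute (Q.π ⟨x, hxM⟩) w := (show Commute (⟨x, hxM⟩ : D.M) ⟨y * y, hM⟩ from
      Subtype.ext (Commute.mul_right (Eq.symm hyx) (Eq.symm hyx)).eq).map Q.π
    obtain ⟨a, ha⟩ := hy2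
    have hd : orderOf w ∣ 2 ^ a := by
      refine (orderOf_map_dvd Q.π _).trans ?_
      rw [← Subgroup.orderOf_coe, ← ha]
      show orderOf (y * y) ∣ orderOf y
      rw [← pow_two]
      exact orderOf_pow_dvd 2
    obtain ⟨b, -, hb⟩ := (Nat.dvd_prime_pow Nat.prime_two).1 hd
    have hb0 : b ≠ 0 := fun h => hne (orderOf_eq_one_iff.1 (by rw [hb, h, pow_zero]))
    refine OddCIT.no_commute Q.cit hpp hp2 hx'
      (orderOf_pow_orderOf_div (orderOf_pos w).ne' (hb ▸ dvd_pow_self 2 hb0)) ?_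
    exact (hc.pow_right _).eq
  obtain ⟨s, hsS, hys, hs⟩ := L.outer_four y hy hy0 (D.V_le hyy)
  let Y : Subgroup K := ((centralizer ({y} : Set G)).subgroupOf D.M).map Q.π
  have memY : ∀ m : D.M, (m : G) * y = y * m → Q.π m ∈ Y := fun m h =>
    ⟨m, mem_centralizer_singleton_iff.2 h, rfl⟩
  let zb : Y := ⟨Q.π ⟨z, S_le_M D z_mem_S⟩, memY _ (tz_mem hy).1.symm⟩
  have hzb : orderOf zb = 2 := by rw [← Subgroup.orderOf_coe]; exact pi_z_order D Q
  -- `zb` is the only involution centralising it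
  have key : ∀ r : Y, r * zb = zb * r → r * r = 1 → r = 1 ∨ r = zb := by
    rintro ⟨_, m, hm, rfl⟩ hc hr
    have hm' : (m : G) * y = y * m := mem_centralizer_singleton_iff.1 hm
    have hT0 := mem_T0 D Q (m := m) (congrArg Subtype.val hc)
    obtain ⟨s', hs'⟩ : Q.π m ∈ (piS D Q).range := by
      -- `T0 = S V`
      have : Q.π m ∈ (L.T0.subgroupOf D.M).map Q.π := ⟨m, hT0, rfl⟩
      suffices e : (piS D Q).range = (L.T0.subgroupOf D.M).map Q.π by rwa [e]
      refine Subgroup.eq_of_le_of_card_ge ?_ ?_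
      · rintro _ ⟨s', rfl⟩
        exact ⟨_, L.S_le s'.2, rfl⟩
      · rw [card_piS]
        have h2 : IsPGroup 2 ((L.T0.subgroupOf D.M).map Q.π) := (IsPGroup.of_card (n := 8) (by
          rw [Nat.card_congr (subgroupOfEquivOfLe D.T0_le).toEquiv, L.card_T0]; norm_num)).map _
        haveI := Fact.mk Nat.prime_two
        obtain ⟨n, hn⟩ := IsPGroup.iff_card.1 h2
        rw [hn]
        have hd : 2 ^ n ∣ 2 ^ 6 * 315 := by
          rw [← hn, show (2 : ℕ) ^ 6 * 315 = Nat.card K by rw [Q.card]; norm_num]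
          exact Subgroup.card_subgroup_dvd_card _
        exact Nat.le_of_dvd (by norm_num)
          ((Nat.Coprime.pow_left n (by norm_num : Nat.Coprime 2 315)).dvd_of_dvd_mul_right hd)
    have hs2 : (s' : G) * s' = 1 := by
      have e : piS D Q (s' * s') = 1 := by rw [map_mul, hs']; exact congrArg Subtype.val hr
      exact congrArg Subtype.val (piS_injective D Q (e.trans (map_one _).symm))
    have hyS : y * s' * y⁻¹ ∈ L.S := by
      have hle : L.S ≤ L.S.comap (MulAut.conj y).toMonoidHom := by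
        nth_rw 1 [L.S_eq]
        rw [closure_le]
        rintro u ⟨hu, huc⟩
        show y * u * y⁻¹ ∈ L.S
        rw [L.S_eq]
        exact subset_closure ⟨mul_mem (mul_mem hy hu) (inv_mem hy),
          huc.trans (isConj_iff.2 ⟨y, rfl⟩)⟩
      exact hle s'.2
    have hw : (m : G)⁻¹ * (s' : G) ∈ D.V := by
      simpa using (pi_eq D Q).1 (show Q.π _ = Q.π m from hs')
    have hfix : y * s' = s' * y := by
      have h2 := D.V_norm y (tz_mem hy).2 _ hw
      have e : (s' : G)⁻¹ * (y * s' * y⁻¹) =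
          ((m : G)⁻¹ * s')⁻¹ * (y * ((m : G)⁻¹ * s') * y⁻¹) := by
        have hm'' : y * (m : G)⁻¹ = (m : G)⁻¹ * y := (Commute.inv_left hm').eq.symm
        calc (s' : G)⁻¹ * (y * s' * y⁻¹)
            = ((m : G)⁻¹ * s')⁻¹ * ((m : G)⁻¹ * y * s' * y⁻¹) := by group
          _ = _ := by rw [← hm'']; group
      have h1 := eq_one_of_S_V D (mul_mem (inv_mem s'.2) hyS) (by
        rw [e]; exact mul_mem (inv_mem hw) h2)
      rw [inv_mul_eq_one] at h1
      calc y * s' = y * s' * y⁻¹ * y := by group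
        _ = s' * y := by rw [← h1]
    rcases L.outer y hy hy0 (D.V_le hyy) s' s'.2 hs2 hfix with h | h
    · refine Or.inl (Subtype.ext ?_)
      show Q.π m = 1
      rw [← hs', show s' = 1 from Subtype.ext h, map_one]
    · refine Or.inr (Subtype.ext ?_)
      show Q.π m = Q.π ⟨z, _⟩
      rw [← hs', show s' = ⟨z, z_mem_S⟩ from Subtype.ext h]
      rfl
  haveI := Fact.mk Nat.prime_two
  obtain ⟨P, hP⟩ := (IsPGroup.of_card (p := 2) (G := zpowers zb) (n := 1)
    (by rw [Nat.card_zpowers, hzb, pow_one])).exists_le_sylow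
  have hzP : zb ∈ P := hP (mem_zpowers zb)
  -- a Sylow subgroup at `zb` contains no other involution
  have huni : ∀ u ∈ P, orderOf u = 2 → u = zb := by
    haveI : Nontrivial P := ⟨⟨zb, hzP⟩, 1, fun h => by
      rw [show zb = 1 from congrArg Subtype.val h, orderOf_one] at hzb; omega⟩
    haveI := P.2.center_nontrivial
    obtain ⟨k, hk0, hk⟩ := IsPGroup.iff_card.1 (P.2.to_subgroup (center P)) |>.elim
      fun k hk => (⟨k, (by
        rintro rfl
        exact absurd hk (Finite.one_lt_card (α := center P)).ne'), hk⟩ :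
          ∃ k, k ≠ 0 ∧ Nat.card (center P) = 2 ^ k)
    obtain ⟨⟨c, hcZ⟩, hc⟩ := exists_prime_orderOf_dvd_card' (G := center P) 2
      (hk ▸ dvd_pow_self 2 hk0)
    have hc' : orderOf (c : Y) = 2 :=
      ((Subgroup.orderOf_coe c).trans (Subgroup.orderOf_coe (⟨c, hcZ⟩ : center P))).trans hc
    have hcc : (c : Y) * c = 1 := by
      have := pow_orderOf_eq_one (c : Y)
      rwa [hc', pow_two] at this
    have hcz : (c : Y) = zb := by
      refine (key c (congrArg Subtype.val (mem_center_iff.1 hcZ ⟨zb, hzP⟩)).symm hcc).resolve_left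
        (fun h => ?_)
      rw [h, orderOf_one] at hc'; omega
    intro u huP hu
    refine (key u ?_ (by have := pow_orderOf_eq_one u; rwa [hu, pow_two] at this)).resolve_left
      (fun h => ?_)
    · rw [← hcz]; exact congrArg Subtype.val (mem_center_iff.1 hcZ ⟨u, huP⟩)
    · rw [h, orderOf_one] at hu; omega
  have hiso := Involutions.isolated_of_sylow P hzb
    (fun g hg => huni _ hg (Involutions.conj_invol g hzb))
  let xb : Y := ⟨Q.π ⟨x, hxM⟩, memY _ hyx.symm⟩
  let sb : Y := ⟨Q.π ⟨s, S_le_M D hsS⟩, memY _ hys.symm⟩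
  have hxb : orderOf xb = p := by rw [← Subgroup.orderOf_coe]; exact hx'
  have hxN : xb ∈ Cfsg.oddCore Y := by
    haveI : (Cfsg.oddCore Y).Normal := Cfsg.pPrimeCore_normal 2 Y
    obtain ⟨a, ha, c, hc, e⟩ := Involutions.ZStar.exists_mul_centralizer hiso xb
    obtain ⟨k, hk⟩ : ∃ k, orderOf c = 2 ^ k := by
      obtain ⟨k, hk⟩ := IsPGroup.iff_orderOf.1 (Q.cit _ (pi_z_order D Q))
        ⟨c, mem_centralizer_singleton_iff.2
          (congrArg Subtype.val (mem_centralizer_singleton_iff.1 hc))⟩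
      exact ⟨k, by rw [← hk, ← Subgroup.orderOf_coe, ← Subgroup.orderOf_coe]⟩
    have e1 : (QuotientGroup.mk' (Cfsg.oddCore Y)) xb = QuotientGroup.mk' _ c := by
      rw [e, map_mul, show (QuotientGroup.mk' (Cfsg.oddCore Y)) a = 1 from
        (QuotientGroup.eq_one_iff a).2 ha, one_mul]
    have h1 := orderOf_map_dvd (QuotientGroup.mk' (Cfsg.oddCore Y)) xb
    have h2 := orderOf_map_dvd (QuotientGroup.mk' (Cfsg.oddCore Y)) c
    rw [← e1, hk] at h2
    rw [hxb] at h1
    have h3 := Nat.dvd_gcd h1 h2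
    rw [(Nat.Coprime.pow_right k ((Nat.coprime_primes hpp Nat.prime_two).2 hp2) :
      Nat.gcd p (2 ^ k) = 1), Nat.dvd_one, orderOf_eq_one_iff] at h3
    exact (QuotientGroup.eq_one_iff xb).1 h3
  -- the odd core is the subgroup of order `p`, but it is normalised by an element of order four
  haveI : (Cfsg.oddCore Y).Normal := Cfsg.pPrimeCore_normal 2 Y
  let φ : Cfsg.oddCore Y →* Cfsg.oddCore Y :=
    (MulAut.conjNormal zb : MulAut (Cfsg.oddCore Y)).toMonoidHom
  have hfpf : MonoidHom.FixedPointFree φ := by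
    intro g hg
    by_contra hne
    have h : zb * (g : Y) * zb⁻¹ = g := congrArg Subtype.val hg
    obtain ⟨k, hk⟩ := IsPGroup.iff_orderOf.1 (Q.cit _ (pi_z_order D Q))
      ⟨((g : Y) : K), mem_centralizer_singleton_iff.2 (congrArg Subtype.val
        (show (g : Y) * zb = zb * g by nth_rw 1 [← h]; rw [inv_mul_cancel_right]))⟩
    rw [← Subgroup.orderOf_coe, Subgroup.orderOf_coe (g : Y), Subgroup.orderOf_coe g] at hk
    have hk0 : k ≠ 0 := fun h0 => hne (orderOf_eq_one_iff.1 (by rw [hk, h0, pow_zero]))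
    exact (Base.odd_card_oddCore Y).not_two_dvd_nat
      ((hk ▸ dvd_pow_self 2 hk0).trans (orderOf_dvd_natCard g))
  have hinv : Function.Involutive φ := fun g => Subtype.ext (by
    show zb * (zb * (g : Y) * zb⁻¹) * zb⁻¹ = g
    have hzz : zb * zb = 1 := by rw [← pow_two, ← hzb, pow_orderOf_eq_one]
    rw [inv_eq_of_mul_eq_one_right hzz, mul_assoc zb (g : Y), ← mul_assoc zb zb, hzz, one_mul,
      mul_assoc, hzz, mul_one])
  have hab : ∀ a b : Cfsg.oddCore Y, a * b = b * a := fun a b =>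
    (hfpf.commute_all_of_involutive hinv a b).eq
  have hNeq : ∀ g ∈ Cfsg.oddCore Y, g ∈ zpowers xb := by
    intro g hg
    have hle : zpowers (Q.π ⟨x, hxM⟩) ≤ centralizer ({Q.π ⟨x, hxM⟩} : Set K) :=
      zpowers_le.2 (mem_centralizer_singleton_iff.2 rfl)
    have heq := Subgroup.eq_of_le_of_card_ge hle (by
      rw [(cit_card D Q hp hx').1, Nat.card_zpowers, hx'])
    have : ((g : Y) : K) ∈ zpowers (Q.π ⟨x, hxM⟩) := heq ▸ mem_centralizer_singleton_iff.2
      (congrArg (fun a : Cfsg.oddCore Y => ((a : Y) : K)) (hab ⟨g, hg⟩ ⟨xb, hxN⟩))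
    obtain ⟨i, hi⟩ := this
    exact ⟨i, Subtype.ext (by show ((xb ^ i : Y) : K) = g; rw [Subgroup.coe_zpow]; exact hi)⟩
  have hsN : (sb : K) ∈ normalizer ((zpowers (xb : K) : Subgroup K) : Set K) := by
    refine mem_norm ?_
    obtain ⟨j, hj⟩ := hNeq _ ((inferInstance : (Cfsg.oddCore Y).Normal).conj_mem _ hxN sb)
    exact ⟨j, (Subgroup.coe_zpow _ _ _).symm.trans (congrArg Subtype.val hj)⟩
  refine (cit_card D Q hp hx').2 ?_
  have h4 : orderOf (sb : K) = 2 ^ (1 + 1) := by
    rw [show (sb : K) = piS D Q ⟨s, hsS⟩ from rfl, orderOf_injective _ (piS_injective D Q),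
      ← Subgroup.orderOf_coe]
    refine orderOf_eq_prime_pow ?_ ?_
    · rw [pow_one, pow_two, hs]
      intro h
      have := L.ord_z
      rw [h, orderOf_one] at this
      omega
    · show s ^ (2 ^ (1 + 1)) = 1
      rw [show (2 : ℕ) ^ (1 + 1) = 2 * 2 by norm_num, pow_mul, pow_two s, hs, ← L.ord_z,
        pow_orderOf_eq_one]
  have := orderOf_dvd_natCard (⟨(sb : K), hsN⟩ : normalizer ((zpowers (xb : K)) : Set K))
  rw [← Subgroup.orderOf_coe, h4] at this
  exact this

variable [IsSimpleGroup K]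

include Q in
/-- No element of `C(t)` outside `M` commutes with an element of order five or seven of `M`. -/
theorem not_commute {p : ℕ} (hp : p = 5 ∨ p = 7) {x y : G}
    (hx : orderOf x = p) (hxM : x ∈ D.M) (hyt : y * t = t * y) (hyM : y ∉ D.M) :
    y * x ≠ x * y := by
  intro hyx
  obtain ⟨a, m, hm, hy⟩ := Nat.exists_eq_two_pow_mul_odd (orderOf_pos y).ne'
  have hord : orderOf (y ^ m) = 2 ^ a := by
    rw [orderOf_pow' y (by rintro rfl; exact Nat.not_odd_zero hm),
      Nat.gcd_eq_right (hy ▸ dvd_mul_left m _), hy, Nat.mul_div_cancel _ hm.pos]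
  have hne : y ^ m ∉ D.M := by
    obtain ⟨j, rfl⟩ := hm
    intro h
    rw [pow_succ, pow_mul, pow_two] at h
    exact hyM ((Subgroup.mul_mem_cancel_left _ (pow_mem (sq_mem D hyt) j)).1 h)
  have hymt : y ^ m * t = t * y ^ m := (Commute.pow_left hyt m).eq
  let H := centralizer ({t} : Set G)
  have hle : Tz z t ≤ H := inf_le_right
  obtain ⟨h, hh⟩ := conj_into_pow Nat.prime_two ((Tz z t).subgroupOf H) (by
      rw [Nat.card_congr (subgroupOfEquivOfLe hle).toEquiv, L.card_T, D.card_H,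
        show (512 : ℕ) = 2 ^ 9 by norm_num]
      congr 1
      rw [show (161280 : ℕ) = 2 ^ 9 * 315 by norm_num,
        Nat.factorization_mul (by norm_num) (by norm_num), Finsupp.add_apply,
        Nat.Prime.factorization_pow Nat.prime_two, Finsupp.single_eq_same,
        Nat.factorization_eq_zero_of_not_dvd (show ¬ 2 ∣ 315 by norm_num)])
    (y := (⟨y ^ m, mem_centralizer_singleton_iff.2 hymt⟩ : H)) (a := a)
    (by rw [← Subgroup.orderOf_coe]; exact hord)
  have hhT : (h : G) * y ^ m * (h : G)⁻¹ ∈ Tz z t := hh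
  have hht : (h : G) * t = t * h := mem_centralizer_singleton_iff.1 h.2
  refine not_commute_T D Q hp (x := (h : G) * x * (h : G)⁻¹) ?_ (M_conj D hht hxM) hhT ?_
    ⟨a, ?_⟩ ?_
  · rwa [← MulAut.conj_apply, MulEquiv.orderOf_eq]
  · intro hc
    have := M_conj D (Commute.inv_left hht).eq (D.T0_le hc)
    rw [inv_inv, show (h : G)⁻¹ * (h * y ^ m * (h : G)⁻¹) * h = y ^ m by group] at this
    exact hne this
  · rwa [← MulAut.conj_apply, MulEquiv.orderOf_eq]
  · calc (h : G) * y ^ m * (h : G)⁻¹ * (h * x * (h : G)⁻¹)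
        = h * (y ^ m * x) * (h : G)⁻¹ := by group
      _ = h * (x * y ^ m) * (h : G)⁻¹ := by rw [(Commute.pow_left hyx m).eq]
      _ = h * x * (h : G)⁻¹ * (h * y ^ m * (h : G)⁻¹) := by group

include Q in
/-- An element conjugating `t` into `V` normalises `V`. -/
theorem conj_V {h : G} (hh : h * t * h⁻¹ ∈ D.V) : ∀ w ∈ D.V, h * w * h⁻¹ ∈ D.V := by
  haveI : Fact (Nat.Prime 5) := ⟨by norm_num⟩
  obtain ⟨⟨e, heM⟩, he⟩ := exists_prime_orderOf_dvd_card' (G := D.M) 5
    (by rw [D.card_M]; norm_num)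
  rw [← Subgroup.orderOf_coe] at he
  let H := centralizer ({t} : Set G)
  let M'' := D.M.map (MulAut.conj h⁻¹).toMonoidHom
  have hle : M'' ≤ H := by
    rintro _ ⟨m, hm, rfl⟩
    rw [mem_centralizer_singleton_iff]
    show h⁻¹ * m * h⁻¹⁻¹ * t = t * (h⁻¹ * m * h⁻¹⁻¹)
    calc h⁻¹ * m * h⁻¹⁻¹ * t = h⁻¹ * (m * (h * t * h⁻¹)) * h := by group
      _ = h⁻¹ * ((h * t * h⁻¹) * m) * h := by rw [(D.M_eq m).1 hm _ hh]
      _ = _ := by group
  have hi : (M''.subgroupOf H).index = 2 := by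
    have h' := (M''.subgroupOf H).index_mul_card
    rw [Nat.card_congr (subgroupOfEquivOfLe hle).toEquiv,
      Subgroup.card_map_of_injective (MulAut.conj h⁻¹).injective, D.card_M, D.card_H] at h'
    omega
  have he2 : e * e ∈ M'' := by
    have := Subgroup.sq_mem_of_index_two hi
      (⟨e, mem_centralizer_singleton_iff.2 (M_comm_t D heM)⟩ : H)
    rwa [Subgroup.mem_subgroupOf, pow_two] at this
  have heM'' : e ∈ M'' := by
    have := pow_mem he2 3
    rwa [← pow_two, ← pow_mul, show (2 * 3 : ℕ) = 5 + 1 from rfl, pow_succ, ← he,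
      pow_orderOf_eq_one, one_mul] at this
  obtain ⟨m, hm, hme⟩ := heM''
  have hme' : h⁻¹ * m * h = e := by simpa using hme
  -- the conjugates of `V` lie in `V`
  have key : ∀ w ∈ D.V, h⁻¹ * w * h ∈ D.V := by
    intro w hw
    set u := h⁻¹ * w * h with hu
    have hut : u * t = t * u := by
      calc u * t = h⁻¹ * (w * (h * t * h⁻¹)) * h := by rw [hu]; group
        _ = h⁻¹ * ((h * t * h⁻¹) * w) * h := by rw [(D.M_eq w).1 (V_le_M D hw) _ hh]
        _ = _ := by rw [hu]; group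
    have hue : u * e = e * u := by
      rw [← hme', hu]
      calc h⁻¹ * w * h * (h⁻¹ * m * h) = h⁻¹ * (w * m) * h := by group
        _ = h⁻¹ * (m * w) * h := by rw [(D.M_eq m).1 hm w hw]
        _ = _ := by group
    have huM : u ∈ D.M := by
      by_contra hno
      exact not_commute D Q (Or.inl rfl) he heM hut hno hue
    have huu : u * u = 1 := by
      rw [hu, show h⁻¹ * w * h * (h⁻¹ * w * h) = h⁻¹ * (w * w) * h by group, D.V_sq w hw]
      group
    show ((⟨u, huM⟩ : D.M) : G) ∈ D.V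
    rw [← Q.ker]
    by_contra hne
    refine OddCIT.no_commute Q.cit (by norm_num) (by norm_num)
      (pi_order D Q (by norm_num) (by norm_num) (x := ⟨e, heM⟩) he)
      (orderOf_eq_prime (p := 2) ?_ hne) ?_
    · rw [← map_pow, show (⟨u, huM⟩ : D.M) ^ 2 = 1 from Subtype.ext (by
        show u ^ 2 = 1; rw [pow_two, huu]), map_one]
    · rw [← map_mul, ← map_mul]
      exact congrArg Q.π (Subtype.ext hue.symm)
  intro w hw
  let F : D.V → D.V := fun w => ⟨h⁻¹ * w * h, key w w.2⟩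
  have hF : Function.Injective F := fun a b hab =>
    Subtype.ext (mul_left_cancel (mul_right_cancel (congrArg Subtype.val hab)))
  obtain ⟨w', hw'⟩ := (Finite.injective_iff_surjective.1 hF) ⟨w, hw⟩
  have e1 : h⁻¹ * w' * h = w := congrArg Subtype.val hw'
  rw [← e1, show h * (h⁻¹ * w' * h) * h⁻¹ = w' by group]
  exact w'.2

include Q in
/-- Centralisers of elements of order five and seven. -/
theorem cent {p : ℕ} (hp : p = 5 ∨ p = 7) {f : G} (hf : orderOf f = p) (hfM : f ∈ D.M)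
    {v : G} (hv : v ∈ D.V) (hv1 : v ≠ 1) {g : G} (hgf : g * f = f * g) (hgv : g * v = v * g) :
    ∃ k : ℕ, ∃ w ∈ D.V, g = f ^ k * w := by
  obtain ⟨h, rfl⟩ := isConj_iff.1 (D.V_conj v hv hv1)
  have hn := conj_V D Q hv
  have hMh : ∀ m ∈ D.M, h⁻¹ * m * h ∈ D.M := fun m hm => (D.M_eq _).2 fun w hw => by
    calc h⁻¹ * m * h * w = h⁻¹ * (m * (h * w * h⁻¹)) * h := by group
      _ = h⁻¹ * ((h * w * h⁻¹) * m) * h := by rw [(D.M_eq m).1 hm _ (hn w hw)]
      _ = _ := by group
  have hMh' : ∀ m ∈ D.M, h * m * h⁻¹ ∈ D.M := by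
    let F : D.M → D.M := fun m => ⟨h⁻¹ * m * h, hMh m m.2⟩
    have hF : Function.Injective F := fun a b hab =>
      Subtype.ext (mul_left_cancel (mul_right_cancel (congrArg Subtype.val hab)))
    intro m hm
    obtain ⟨m', hm'⟩ := (Finite.injective_iff_surjective.1 hF) ⟨m, hm⟩
    have e1 : h⁻¹ * m' * h = m := congrArg Subtype.val hm'
    rw [← e1, show h * (h⁻¹ * m' * h) * h⁻¹ = m' by group]
    exact m'.2
  have hgM : g ∈ D.M := by
    have hy : h⁻¹ * g * h ∈ D.M := by
      by_contra hno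
      refine not_commute D Q hp (x := h⁻¹ * f * h) ?_ (hMh f hfM) ?_ hno ?_
      · rw [show h⁻¹ * f * h = MulAut.conj h⁻¹ f by rw [MulAut.conj_apply, inv_inv],
          MulEquiv.orderOf_eq, hf]
      · calc h⁻¹ * g * h * t = h⁻¹ * (g * (h * t * h⁻¹)) * h := by group
          _ = h⁻¹ * ((h * t * h⁻¹) * g) * h := by rw [hgv]
          _ = _ := by group
      · calc h⁻¹ * g * h * (h⁻¹ * f * h) = h⁻¹ * (g * f) * h := by group
          _ = h⁻¹ * (f * g) * h := by rw [hgf]
          _ = _ := by group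
    have := hMh' _ hy
    rwa [show h * (h⁻¹ * g * h) * h⁻¹ = g by group] at this
  have hpp : p.Prime := by rcases hp with rfl | rfl <;> norm_num
  have hf' := pi_order D Q hpp (by rcases hp with rfl | rfl <;> norm_num) (x := ⟨f, hfM⟩) hf
  have heq := Subgroup.eq_of_le_of_card_ge
    (zpowers_le.2 (mem_centralizer_singleton_iff.2 rfl) :
      zpowers (Q.π ⟨f, hfM⟩) ≤ centralizer ({Q.π ⟨f, hfM⟩} : Set K))
    (by rw [(cit_card D Q hp hf').1, Nat.card_zpowers, hf'])
  have hmem : Q.π ⟨g, hgM⟩ ∈ zpowers (Q.π ⟨f, hfM⟩) := by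
    rw [heq, mem_centralizer_singleton_iff, ← map_mul, ← map_mul]
    exact congrArg Q.π (Subtype.ext hgf)
  obtain ⟨k, hk⟩ := mem_powers_iff_mem_zpowers.2 hmem
  replace hk : Q.π ⟨f, hfM⟩ ^ k = Q.π ⟨g, hgM⟩ := hk
  have := (pi_eq D Q (n := ⟨f, hfM⟩ ^ k) (m := ⟨g, hgM⟩)).1 (by rw [map_pow]; exact hk.symm)
  rw [Subgroup.coe_mul, Subgroup.coe_inv, Subgroup.coe_pow] at this
  exact ⟨k, _, this, (mul_inv_cancel_left _ _).symm⟩

include Q in
/-- An automorphism of a given exponent, realised in `C(t)`. -/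
theorem aut {p : ℕ} (hp : p = 5 ∨ p = 7) (j target : ℕ)
    (harith : ∀ i < p, i ≠ 0 → ∃ k < 3, j ^ k * i % p = 1 ∨ j ^ k * i % p = target)
    {f : G} (hf : orderOf f = p) (hfM : f ∈ D.M)
    {n : G} (hn : n ∈ D.M) (hnf : n * f * n⁻¹ = f ^ j) :
    ∃ g : G, g * t = t * g ∧ g * f * g⁻¹ = f ^ target := by
  have hpp : p.Prime := by rcases hp with rfl | rfl <;> norm_num
  -- an element outside `M`
  obtain ⟨y, hy, hyM⟩ : ∃ y, y ∈ centralizer ({t} : Set G) ∧ y ∉ D.M := by
    by_contra hno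
    push Not at hno
    have h1 := Nat.le_of_dvd Nat.card_pos (Subgroup.card_dvd_of_le
      (show centralizer ({t} : Set G) ≤ D.M from hno))
    rw [D.card_H, D.card_M] at h1
    omega
  have hyt : y * t = t * y := mem_centralizer_singleton_iff.1 hy
  have hfac : (80640 : ℕ).factorization p = 1 := by
    rcases hp with rfl | rfl
    · rw [show (80640 : ℕ) = 5 * 16128 by norm_num, Nat.factorization_mul (by norm_num)
        (by norm_num), Finsupp.add_apply, hpp.factorization_self,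
        Nat.factorization_eq_zero_of_not_dvd (show ¬ 5 ∣ 16128 by norm_num)]
    · rw [show (80640 : ℕ) = 7 * 11520 by norm_num, Nat.factorization_mul (by norm_num)
        (by norm_num), Finsupp.add_apply, hpp.factorization_self,
        Nat.factorization_eq_zero_of_not_dvd (show ¬ 7 ∣ 11520 by norm_num)]
  have hf' : orderOf (y * f * y⁻¹) = p := by rwa [← MulAut.conj_apply, MulEquiv.orderOf_eq]
  obtain ⟨m, hm, hmy⟩ := sylow_M D hpp hfac hf hf' hfM (M_conj D hyt hfM)
  obtain ⟨i, hi⟩ := mem_powers_iff_mem_zpowers.2 hmy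
  replace hi : f ^ i = m * (y * f * y⁻¹) * m⁻¹ := hi
  rw [← pow_mod_orderOf, hf] at hi
  set i' := i % p
  have hi0 : i' ≠ 0 := by
    intro h0
    rw [h0, pow_zero] at hi
    have := congrArg orderOf hi
    rw [orderOf_one, ← MulAut.conj_apply, MulEquiv.orderOf_eq, hf'] at this
    exact hpp.one_lt.ne this
  -- powers of `n`
  have hnk : ∀ k : ℕ, n ^ k * f * (n ^ k)⁻¹ = f ^ (j ^ k) := by
    intro k
    induction k with
    | zero => simp
    | succ k ih =>
      calc n ^ (k + 1) * f * (n ^ (k + 1))⁻¹ = n * (n ^ k * f * (n ^ k)⁻¹) * n⁻¹ := by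
            rw [pow_succ']; group
        _ = f ^ (j ^ (k + 1)) := by
            rw [ih, ← conj_pow, hnf, ← pow_mul, pow_succ']
  obtain ⟨k, -, hk⟩ := harith i' (Nat.mod_lt _ hpp.pos) hi0
  have hmt : n ^ k * m ∈ D.M := mul_mem (pow_mem hn k) hm
  have hgf : n ^ k * m * y * f * (n ^ k * m * y)⁻¹ = f ^ ((j ^ k * i') % p) := by
    calc n ^ k * m * y * f * (n ^ k * m * y)⁻¹
        = n ^ k * (m * (y * f * y⁻¹) * m⁻¹) * (n ^ k)⁻¹ := by group
      _ = f ^ (j ^ k * i') := by rw [← hi, ← conj_pow, hnk, ← pow_mul]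
      _ = _ := by rw [← pow_mod_orderOf, hf]
  have hgt : n ^ k * m * y * t = t * (n ^ k * m * y) := by
    rw [mul_assoc, hyt, ← mul_assoc, M_comm_t D hmt, mul_assoc]
  rcases hk with h | h
  · exfalso
    refine not_commute D Q hp hf hfM hgt
      (fun hh => hyM ((Subgroup.mul_mem_cancel_left _ hmt).1 hh)) ?_
    rw [h, pow_one] at hgf
    nth_rw 2 [← hgf]
    group
  · exact ⟨_, hgt, by rw [hgf, h]⟩

include Q in
/-- Lifting an element normalising the image of `f`. -/
theorem lift_norm {p : ℕ} (hp2 : p % 2 = 1) {f : G} (hf : orderOf f = p) (hfM : f ∈ D.M) {c : K}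
    {j : ℕ} (hc : c * Q.π ⟨f, hfM⟩ * c⁻¹ = Q.π ⟨f, hfM⟩ ^ j) :
    ∃ n ∈ D.M, n * f * n⁻¹ = f ^ j := by
  obtain ⟨n, rfl⟩ := Q.surj c
  rw [← map_inv, ← map_mul, ← map_mul, ← map_pow] at hc
  have hw := (pi_eq D Q).1 hc
  simp only [Subgroup.coe_mul, Subgroup.coe_inv, Subgroup.coe_pow] at hw
  set w := (f ^ j)⁻¹ * ((n : G) * f * (n : G)⁻¹) with hwdef
  have hcomm : Commute (f ^ j) w := ((D.M_eq _).1 (pow_mem hfM j) w hw)
  have e : (n : G) * f * (n : G)⁻¹ = f ^ j * w := (mul_inv_cancel_left _ _).symm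
  have hwp : w ^ p = 1 := by
    have := congrArg (· ^ p) e
    simp only [conj_pow, hcomm.mul_pow, ← pow_mul] at this
    rw [mul_comm j p, pow_mul, ← hf, pow_orderOf_eq_one, mul_one, mul_inv_cancel, one_pow,
      one_mul] at this
    rw [← hf]; exact this.symm
  have hw1 : w = 1 := by
    rw [← Nat.div_add_mod p 2, pow_add, pow_mul, pow_two, D.V_sq w hw, one_pow, one_mul, hp2,
      pow_one] at hwp
    exact hwp
  exact ⟨n, n.2, by rw [e, hw1, mul_one]⟩

include Q in
theorem aut_five {f : G} (hf : orderOf f = 5) (hfM : f ∈ D.M) :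
    ∃ g : G, g * t = t * g ∧ g * f * g⁻¹ = f ^ 2 := by
  have hx := pi_order D Q (by norm_num : Nat.Prime 5) (by norm_num) (x := ⟨f, hfM⟩) hf
  obtain ⟨τ, hτ, hinv, -⟩ := OddCIT.exists_inverting Q.cit (by norm_num : Nat.Prime 5) (by norm_num)
    hx (by rw [(OddCIT.five Q.cit Q.card hx).2]; norm_num)
  have hti : τ⁻¹ = τ := inv_eq_of_mul_eq_one_right (by rw [← pow_two, ← hτ, pow_orderOf_eq_one])
  obtain ⟨n, hn, hnf⟩ := lift_norm D Q (p := 5) rfl hf hfM (c := τ) (j := 4) (by
    rw [hti, hinv]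
    refine inv_eq_of_mul_eq_one_right ?_
    rw [← pow_succ', show 4 + 1 = 5 from rfl, ← hx, pow_orderOf_eq_one])
  exact aut D Q (Or.inl rfl) 4 2 (by decide) hf hfM hn hnf

include Q in
theorem aut_seven {f : G} (hf : orderOf f = 7) (hfM : f ∈ D.M) :
    ∃ g : G, g * t = t * g ∧ g * f * g⁻¹ = f ^ 3 := by
  set x := Q.π ⟨f, hfM⟩ with hxdef
  have hx : orderOf x = 7 := pi_order D Q (by norm_num : Nat.Prime 7) (by norm_num) hf
  obtain ⟨hC, hN⟩ := OddCIT.seven Q.cit Q.card hx
  haveI : Fact (Nat.Prime 3) := ⟨Nat.prime_three⟩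
  obtain ⟨⟨c, hcN⟩, hc⟩ := exists_prime_orderOf_dvd_card'
    (G := normalizer ((zpowers x : Subgroup K) : Set K)) 3 (by rw [hN]; norm_num)
  rw [← Subgroup.orderOf_coe] at hc
  obtain ⟨i, hi⟩ := mem_powers_iff_mem_zpowers.2
    ((Subgroup.mem_normalizer_iff.1 hcN x).1 (mem_zpowers x))
  replace hi : x ^ i = c * x * c⁻¹ := hi
  rw [← pow_mod_orderOf, hx] at hi
  set j := i % 7
  have hj7 : j < 7 := Nat.mod_lt _ (by norm_num)
  have hcube : x ^ (j * (j * j)) = x := by
    have e3 : c * (c * (c * x * c⁻¹) * c⁻¹) * c⁻¹ = x := by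
      have h3 : c * c * c = 1 := by
        have := pow_orderOf_eq_one c
        rwa [hc, pow_succ, pow_two] at this
      calc c * (c * (c * x * c⁻¹) * c⁻¹) * c⁻¹ = (c * c * c) * x * (c * c * c)⁻¹ := by group
        _ = x := by rw [h3, inv_one, mul_one, one_mul]
    rw [← hi, ← conj_pow, ← hi, ← pow_mul, ← conj_pow, ← hi, ← pow_mul] at e3
    exact e3
  have hj : j = 2 ∨ j = 4 := by
    have hmod : j * (j * j) % 7 = 1 := by
      have h : x ^ (j * (j * j)) = x ^ 1 := by rw [pow_one]; exact hcube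
      rw [pow_inj_mod, hx] at h
      exact h
    have h1 : j ≠ 1 := by
      intro h1
      rw [h1, pow_one] at hi
      have hmem : c ∈ centralizer ({x} : Set K) := by
        rw [mem_centralizer_singleton_iff]
        conv_rhs => rw [hi]
        group
      have := orderOf_dvd_natCard (⟨c, hmem⟩ : centralizer ({x} : Set K))
      rw [← Subgroup.orderOf_coe, hc, hC] at this
      norm_num at this
    interval_cases j <;> omega
  obtain ⟨n, hn, hnf⟩ := lift_norm D Q (p := 7) rfl hf hfM (c := c) (j := j) hi.symm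
  rcases hj with h | h <;> rw [h] at hnf
  · exact aut D Q (Or.inr rfl) 2 3 (by decide) hf hfM hn hnf
  · exact aut D Q (Or.inr rfl) 4 3 (by decide) hf hfM hn hnf

end Odd

end CfsgLib.Small.SuzOrder
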