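import Cfsg.Agent.Lib.Small.SuzOrder.AuDef

/-!
# Data for the pairs of involutions at the central one
-/

set_option autoImplicit false
set_option maxRecDepth 100000

namespace CfsgLib.Small.SuzOrder

open CfsgLib.Small.SuzTwo

/-- The signs of an involution over `ixC`. -/
def stC : Au := ⟨⟨1, 2, 4, 10, 19, 32⟩, 1⟩

/-- The involutions of the first class in the quotient, with words conjugating `ixA` to them. -/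
def aList : List (Mat × List Ix) := [
    (⟨1, 2, 4, 8, 20, 34⟩, []), (⟨1, 6, 4, 8, 16, 48⟩, [3]), (⟨1, 34, 20, 8, 16, 32⟩, [5]),
    (⟨5, 6, 4, 8, 20, 58⟩, [17]), (⟨1, 2, 6, 8, 48, 32⟩, [92]), (⟨3, 2, 6, 8, 60, 34⟩, [93]),
    (⟨1, 2, 6, 10, 53, 34⟩, [110]), (⟨3, 2, 6, 10, 61, 34⟩, [118]), (⟨1, 4, 2, 8, 32, 16⟩, [2, 3]),
    (⟨1, 6, 4, 12, 20, 51⟩, [4, 3]), (⟨5, 6, 4, 12, 20, 59⟩, [7, 3]),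
    (⟨1, 32, 16, 8, 4, 2⟩, [11, 3]), (⟨1, 37, 16, 28, 4, 19⟩, [13, 3]),
    (⟨33, 34, 30, 8, 48, 32⟩, [17, 3]), (⟨1, 37, 19, 56, 32, 16⟩, [19, 3]),
    (⟨21, 45, 16, 28, 4, 27⟩, [23, 3]), (⟨21, 44, 16, 8, 4, 26⟩, [24, 3]),
    (⟨49, 45, 27, 56, 32, 16⟩, [25, 3]), (⟨49, 44, 26, 8, 32, 16⟩, [26, 3]),
    (⟨1, 4, 2, 14, 37, 19⟩, [36, 3]), (⟨7, 4, 2, 8, 44, 26⟩, [50, 3]),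
    (⟨7, 4, 2, 14, 45, 27⟩, [52, 3]), (⟨17, 46, 20, 8, 16, 48⟩, [93, 3]),
    (⟨35, 32, 26, 8, 44, 2⟩, [106, 3]), (⟨1, 39, 20, 24, 16, 48⟩, [110, 3]),
    (⟨17, 47, 20, 24, 16, 48⟩, [118, 3]), (⟨1, 34, 23, 40, 48, 32⟩, [4, 5]),
    (⟨1, 32, 19, 42, 37, 2⟩, [5, 5]), (⟨33, 34, 31, 40, 48, 32⟩, [7, 5]),
    (⟨36, 39, 27, 50, 53, 26⟩, [18, 5]), (⟨52, 45, 30, 18, 37, 58⟩, [25, 5]),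
    (⟨52, 44, 31, 38, 37, 59⟩, [26, 5]), (⟨1, 39, 23, 62, 53, 51⟩, [32, 5]),
    (⟨35, 32, 27, 42, 45, 2⟩, [45, 5]), (⟨38, 37, 30, 18, 45, 58⟩, [46, 5]),
    (⟨36, 39, 26, 22, 53, 27⟩, [47, 5]), (⟨38, 37, 31, 52, 44, 59⟩, [48, 5]),
    (⟨18, 44, 23, 38, 45, 51⟩, [60, 5]), (⟨22, 46, 19, 36, 60, 27⟩, [61, 5]),
    (⟨18, 45, 23, 52, 44, 51⟩, [64, 5]), (⟨22, 47, 19, 50, 61, 26⟩, [65, 5]),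
    (⟨55, 46, 30, 8, 60, 58⟩, [74, 5]), (⟨50, 46, 27, 36, 60, 19⟩, [77, 5]),
    (⟨50, 47, 26, 22, 61, 19⟩, [79, 5]), (⟨55, 47, 31, 62, 61, 59⟩, [80, 5])]

/-- The non-central conjugates of the central involution up to sign, an even exponent killing the
product with `stC`, and whether the involution of the dihedral group is the central one. -/
def xList : List (Au × ℕ × Bool) := [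
    (⟨⟨1, 2, 4, 8, 16, 32⟩, 16⟩, 2, false), (⟨⟨1, 2, 4, 8, 16, 32⟩, 32⟩, 2, false),
    (⟨⟨1, 2, 4, 8, 16, 32⟩, 48⟩, 2, false), (⟨⟨1, 2, 4, 8, 16, 32⟩, 2⟩, 4, true),
    (⟨⟨1, 2, 4, 8, 16, 32⟩, 26⟩, 4, true), (⟨⟨1, 2, 4, 8, 16, 32⟩, 34⟩, 4, true),
    (⟨⟨1, 2, 4, 8, 16, 32⟩, 58⟩, 4, true), (⟨⟨1, 2, 4, 8, 16, 32⟩, 19⟩, 4, true),
    (⟨⟨1, 2, 4, 8, 16, 32⟩, 27⟩, 4, true), (⟨⟨1, 2, 4, 8, 16, 32⟩, 51⟩, 4, true),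
    (⟨⟨1, 2, 4, 8, 16, 32⟩, 59⟩, 4, true), (⟨⟨1, 2, 4, 8, 16, 32⟩, 4⟩, 2, false),
    (⟨⟨1, 2, 4, 8, 16, 32⟩, 20⟩, 2, false), (⟨⟨1, 2, 4, 8, 16, 32⟩, 44⟩, 2, true),
    (⟨⟨1, 2, 4, 8, 16, 32⟩, 60⟩, 2, true), (⟨⟨1, 2, 4, 8, 16, 32⟩, 37⟩, 4, false),
    (⟨⟨1, 2, 4, 8, 16, 32⟩, 45⟩, 4, false), (⟨⟨1, 2, 4, 8, 16, 32⟩, 53⟩, 4, false),
    (⟨⟨1, 2, 4, 8, 16, 32⟩, 61⟩, 4, false), (⟨⟨1, 2, 4, 8, 16, 32⟩, 6⟩, 4, true),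
    (⟨⟨1, 2, 4, 8, 16, 32⟩, 30⟩, 4, true), (⟨⟨1, 2, 4, 8, 16, 32⟩, 46⟩, 4, true),
    (⟨⟨1, 2, 4, 8, 16, 32⟩, 54⟩, 4, true), (⟨⟨1, 2, 4, 8, 16, 32⟩, 23⟩, 4, true),
    (⟨⟨1, 2, 4, 8, 16, 32⟩, 31⟩, 4, true), (⟨⟨1, 2, 4, 8, 16, 32⟩, 39⟩, 4, true),
    (⟨⟨1, 2, 4, 8, 16, 32⟩, 47⟩, 4, true), (⟨⟨1, 2, 4, 8, 20, 34⟩, 0⟩, 2, false),
    (⟨⟨1, 2, 4, 8, 20, 34⟩, 16⟩, 2, false), (⟨⟨1, 2, 4, 8, 20, 34⟩, 32⟩, 2, false),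
    (⟨⟨1, 2, 4, 8, 20, 34⟩, 48⟩, 2, false), (⟨⟨1, 6, 4, 8, 16, 48⟩, 0⟩, 8, false),
    (⟨⟨1, 6, 4, 8, 16, 48⟩, 2⟩, 8, false), (⟨⟨1, 6, 4, 8, 16, 48⟩, 32⟩, 8, false),
    (⟨⟨1, 6, 4, 8, 16, 48⟩, 34⟩, 8, false), (⟨⟨1, 34, 20, 8, 16, 32⟩, 0⟩, 8, false),
    (⟨⟨1, 34, 20, 8, 16, 32⟩, 2⟩, 8, false), (⟨⟨1, 34, 20, 8, 16, 32⟩, 4⟩, 8, false),
    (⟨⟨1, 34, 20, 8, 16, 32⟩, 6⟩, 8, false), (⟨⟨5, 6, 4, 8, 20, 58⟩, 0⟩, 8, false),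
    (⟨⟨5, 6, 4, 8, 20, 58⟩, 19⟩, 8, false), (⟨⟨5, 6, 4, 8, 20, 58⟩, 32⟩, 8, false),
    (⟨⟨5, 6, 4, 8, 20, 58⟩, 51⟩, 8, false), (⟨⟨1, 2, 6, 8, 48, 32⟩, 0⟩, 2, false),
    (⟨⟨1, 2, 6, 8, 48, 32⟩, 4⟩, 2, false), (⟨⟨1, 2, 6, 8, 48, 32⟩, 16⟩, 2, false),
    (⟨⟨1, 2, 6, 8, 48, 32⟩, 20⟩, 2, false), (⟨⟨3, 2, 6, 8, 60, 34⟩, 0⟩, 4, false),
    (⟨⟨3, 2, 6, 8, 60, 34⟩, 16⟩, 4, false), (⟨⟨3, 2, 6, 8, 60, 34⟩, 37⟩, 2, true),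
    (⟨⟨3, 2, 6, 8, 60, 34⟩, 53⟩, 2, true), (⟨⟨1, 2, 6, 10, 53, 34⟩, 0⟩, 4, false),
    (⟨⟨1, 2, 6, 10, 53, 34⟩, 16⟩, 4, false), (⟨⟨1, 2, 6, 10, 53, 34⟩, 44⟩, 4, false),
    (⟨⟨1, 2, 6, 10, 53, 34⟩, 60⟩, 4, false), (⟨⟨3, 2, 6, 10, 61, 34⟩, 0⟩, 2, true),
    (⟨⟨3, 2, 6, 10, 61, 34⟩, 16⟩, 2, true), (⟨⟨3, 2, 6, 10, 61, 34⟩, 45⟩, 4, false),
    (⟨⟨3, 2, 6, 10, 61, 34⟩, 61⟩, 4, false), (⟨⟨1, 4, 2, 8, 32, 16⟩, 0⟩, 8, false),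
    (⟨⟨1, 4, 2, 8, 32, 16⟩, 6⟩, 8, false), (⟨⟨1, 4, 2, 8, 32, 16⟩, 48⟩, 8, false),
    (⟨⟨1, 4, 2, 8, 32, 16⟩, 54⟩, 8, false), (⟨⟨1, 6, 4, 12, 20, 51⟩, 0⟩, 8, false),
    (⟨⟨1, 6, 4, 12, 20, 51⟩, 26⟩, 8, false), (⟨⟨1, 6, 4, 12, 20, 51⟩, 32⟩, 8, false),
    (⟨⟨1, 6, 4, 12, 20, 51⟩, 58⟩, 8, false), (⟨⟨5, 6, 4, 12, 20, 59⟩, 0⟩, 8, false),
    (⟨⟨5, 6, 4, 12, 20, 59⟩, 27⟩, 8, false), (⟨⟨5, 6, 4, 12, 20, 59⟩, 32⟩, 8, false),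
    (⟨⟨5, 6, 4, 12, 20, 59⟩, 59⟩, 8, false), (⟨⟨1, 32, 16, 8, 4, 2⟩, 0⟩, 8, false),
    (⟨⟨1, 32, 16, 8, 4, 2⟩, 20⟩, 8, false), (⟨⟨1, 32, 16, 8, 4, 2⟩, 34⟩, 8, false),
    (⟨⟨1, 32, 16, 8, 4, 2⟩, 54⟩, 8, false), (⟨⟨1, 37, 16, 28, 4, 19⟩, 0⟩, 4, true),
    (⟨⟨1, 37, 16, 28, 4, 19⟩, 30⟩, 4, true), (⟨⟨1, 37, 16, 28, 4, 19⟩, 34⟩, 4, true),
    (⟨⟨1, 37, 16, 28, 4, 19⟩, 60⟩, 4, true), (⟨⟨33, 34, 30, 8, 48, 32⟩, 0⟩, 8, false),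
    (⟨⟨33, 34, 30, 8, 48, 32⟩, 4⟩, 8, false), (⟨⟨33, 34, 30, 8, 48, 32⟩, 19⟩, 8, false),
    (⟨⟨33, 34, 30, 8, 48, 32⟩, 23⟩, 8, false), (⟨⟨1, 37, 19, 56, 32, 16⟩, 2⟩, 4, true),
    (⟨⟨1, 37, 19, 56, 32, 16⟩, 4⟩, 4, true), (⟨⟨1, 37, 19, 56, 32, 16⟩, 56⟩, 4, true),
    (⟨⟨1, 37, 19, 56, 32, 16⟩, 62⟩, 4, true), (⟨⟨21, 45, 16, 28, 4, 27⟩, 0⟩, 6, true),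
    (⟨⟨21, 45, 16, 28, 4, 27⟩, 31⟩, 6, true), (⟨⟨21, 45, 16, 28, 4, 27⟩, 34⟩, 6, true),
    (⟨⟨21, 45, 16, 28, 4, 27⟩, 61⟩, 6, true), (⟨⟨21, 44, 16, 8, 4, 26⟩, 0⟩, 6, true),
    (⟨⟨21, 44, 16, 8, 4, 26⟩, 23⟩, 6, true), (⟨⟨21, 44, 16, 8, 4, 26⟩, 34⟩, 6, true),
    (⟨⟨21, 44, 16, 8, 4, 26⟩, 53⟩, 6, true), (⟨⟨49, 45, 27, 56, 32, 16⟩, 2⟩, 6, true),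
    (⟨⟨49, 45, 27, 56, 32, 16⟩, 4⟩, 6, true), (⟨⟨49, 45, 27, 56, 32, 16⟩, 57⟩, 6, true),
    (⟨⟨49, 45, 27, 56, 32, 16⟩, 63⟩, 6, true), (⟨⟨49, 44, 26, 8, 32, 16⟩, 2⟩, 6, true),
    (⟨⟨49, 44, 26, 8, 32, 16⟩, 4⟩, 6, true), (⟨⟨49, 44, 26, 8, 32, 16⟩, 49⟩, 6, true),
    (⟨⟨49, 44, 26, 8, 32, 16⟩, 55⟩, 6, true), (⟨⟨1, 4, 2, 14, 37, 19⟩, 14⟩, 8, false),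
    (⟨⟨1, 4, 2, 14, 37, 19⟩, 16⟩, 8, false), (⟨⟨1, 4, 2, 14, 37, 19⟩, 32⟩, 8, false),
    (⟨⟨1, 4, 2, 14, 37, 19⟩, 62⟩, 8, false), (⟨⟨7, 4, 2, 8, 44, 26⟩, 7⟩, 8, false),
    (⟨⟨7, 4, 2, 8, 44, 26⟩, 16⟩, 8, false), (⟨⟨7, 4, 2, 8, 44, 26⟩, 32⟩, 8, false),
    (⟨⟨7, 4, 2, 8, 44, 26⟩, 55⟩, 8, false), (⟨⟨7, 4, 2, 14, 45, 27⟩, 15⟩, 8, false),
    (⟨⟨7, 4, 2, 14, 45, 27⟩, 16⟩, 8, false), (⟨⟨7, 4, 2, 14, 45, 27⟩, 32⟩, 8, false),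
    (⟨⟨7, 4, 2, 14, 45, 27⟩, 63⟩, 8, false), (⟨⟨17, 46, 20, 8, 16, 48⟩, 0⟩, 6, true),
    (⟨⟨17, 46, 20, 8, 16, 48⟩, 2⟩, 6, true), (⟨⟨17, 46, 20, 8, 16, 48⟩, 37⟩, 6, true),
    (⟨⟨17, 46, 20, 8, 16, 48⟩, 39⟩, 6, true), (⟨⟨35, 32, 26, 8, 44, 2⟩, 0⟩, 8, false),
    (⟨⟨35, 32, 26, 8, 44, 2⟩, 20⟩, 8, false), (⟨⟨35, 32, 26, 8, 44, 2⟩, 39⟩, 8, false),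
    (⟨⟨35, 32, 26, 8, 44, 2⟩, 51⟩, 8, false), (⟨⟨1, 39, 20, 24, 16, 48⟩, 0⟩, 4, true),
    (⟨⟨1, 39, 20, 24, 16, 48⟩, 2⟩, 4, true), (⟨⟨1, 39, 20, 24, 16, 48⟩, 44⟩, 4, true),
    (⟨⟨1, 39, 20, 24, 16, 48⟩, 46⟩, 4, true), (⟨⟨17, 47, 20, 24, 16, 48⟩, 0⟩, 6, true),
    (⟨⟨17, 47, 20, 24, 16, 48⟩, 2⟩, 6, true), (⟨⟨17, 47, 20, 24, 16, 48⟩, 45⟩, 6, true),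
    (⟨⟨17, 47, 20, 24, 16, 48⟩, 47⟩, 6, true), (⟨⟨1, 34, 23, 40, 48, 32⟩, 0⟩, 8, false),
    (⟨⟨1, 34, 23, 40, 48, 32⟩, 4⟩, 8, false), (⟨⟨1, 34, 23, 40, 48, 32⟩, 26⟩, 8, false),
    (⟨⟨1, 34, 23, 40, 48, 32⟩, 30⟩, 8, false), (⟨⟨1, 32, 19, 42, 37, 2⟩, 0⟩, 8, false),
    (⟨⟨1, 32, 19, 42, 37, 2⟩, 20⟩, 8, false), (⟨⟨1, 32, 19, 42, 37, 2⟩, 46⟩, 8, false),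
    (⟨⟨1, 32, 19, 42, 37, 2⟩, 58⟩, 8, false), (⟨⟨33, 34, 31, 40, 48, 32⟩, 0⟩, 8, false),
    (⟨⟨33, 34, 31, 40, 48, 32⟩, 4⟩, 8, false), (⟨⟨33, 34, 31, 40, 48, 32⟩, 27⟩, 8, false),
    (⟨⟨33, 34, 31, 40, 48, 32⟩, 31⟩, 8, false), (⟨⟨36, 39, 27, 50, 53, 26⟩, 13⟩, 4, true),
    (⟨⟨36, 39, 27, 50, 53, 26⟩, 26⟩, 4, true), (⟨⟨36, 39, 27, 50, 53, 26⟩, 33⟩, 4, true),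
    (⟨⟨36, 39, 27, 50, 53, 26⟩, 54⟩, 4, true), (⟨⟨52, 45, 30, 18, 37, 58⟩, 9⟩, 6, true),
    (⟨⟨52, 45, 30, 18, 37, 58⟩, 26⟩, 6, true), (⟨⟨52, 45, 30, 18, 37, 58⟩, 39⟩, 6, true),
    (⟨⟨52, 45, 30, 18, 37, 58⟩, 52⟩, 6, true), (⟨⟨52, 44, 31, 38, 37, 59⟩, 3⟩, 6, true),
    (⟨⟨52, 44, 31, 38, 37, 59⟩, 24⟩, 6, true), (⟨⟨52, 44, 31, 38, 37, 59⟩, 45⟩, 6, true),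
    (⟨⟨52, 44, 31, 38, 37, 59⟩, 54⟩, 6, true), (⟨⟨1, 39, 23, 62, 53, 51⟩, 0⟩, 4, true),
    (⟨⟨1, 39, 23, 62, 53, 51⟩, 26⟩, 4, true), (⟨⟨1, 39, 23, 62, 53, 51⟩, 44⟩, 4, true),
    (⟨⟨1, 39, 23, 62, 53, 51⟩, 54⟩, 4, true), (⟨⟨35, 32, 27, 42, 45, 2⟩, 0⟩, 8, false),
    (⟨⟨35, 32, 27, 42, 45, 2⟩, 20⟩, 8, false), (⟨⟨35, 32, 27, 42, 45, 2⟩, 47⟩, 8, false),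
    (⟨⟨35, 32, 27, 42, 45, 2⟩, 59⟩, 8, false), (⟨⟨38, 37, 30, 18, 45, 58⟩, 10⟩, 4, true),
    (⟨⟨38, 37, 30, 18, 45, 58⟩, 25⟩, 4, true), (⟨⟨38, 37, 30, 18, 45, 58⟩, 37⟩, 4, true),
    (⟨⟨38, 37, 30, 18, 45, 58⟩, 54⟩, 4, true), (⟨⟨36, 39, 26, 22, 53, 27⟩, 9⟩, 4, true),
    (⟨⟨36, 39, 26, 22, 53, 27⟩, 22⟩, 4, true), (⟨⟨36, 39, 26, 22, 53, 27⟩, 37⟩, 4, true),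
    (⟨⟨36, 39, 26, 22, 53, 27⟩, 58⟩, 4, true), (⟨⟨38, 37, 31, 52, 44, 59⟩, 9⟩, 4, true),
    (⟨⟨38, 37, 31, 52, 44, 59⟩, 18⟩, 4, true), (⟨⟨38, 37, 31, 52, 44, 59⟩, 46⟩, 4, true),
    (⟨⟨38, 37, 31, 52, 44, 59⟩, 53⟩, 4, true), (⟨⟨18, 44, 23, 38, 45, 51⟩, 9⟩, 6, true),
    (⟨⟨18, 44, 23, 38, 45, 51⟩, 19⟩, 6, true), (⟨⟨18, 44, 23, 38, 45, 51⟩, 38⟩, 6, true),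
    (⟨⟨18, 44, 23, 38, 45, 51⟩, 60⟩, 6, true), (⟨⟨22, 46, 19, 36, 60, 27⟩, 12⟩, 6, true),
    (⟨⟨22, 46, 19, 36, 60, 27⟩, 19⟩, 6, true), (⟨⟨22, 46, 19, 36, 60, 27⟩, 41⟩, 6, true),
    (⟨⟨22, 46, 19, 36, 60, 27⟩, 54⟩, 6, true), (⟨⟨18, 45, 23, 52, 44, 51⟩, 11⟩, 6, true),
    (⟨⟨18, 45, 23, 52, 44, 51⟩, 17⟩, 6, true), (⟨⟨18, 45, 23, 52, 44, 51⟩, 44⟩, 6, true),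
    (⟨⟨18, 45, 23, 52, 44, 51⟩, 54⟩, 6, true), (⟨⟨22, 47, 19, 50, 61, 26⟩, 9⟩, 6, true),
    (⟨⟨22, 47, 19, 50, 61, 26⟩, 30⟩, 6, true), (⟨⟨22, 47, 19, 50, 61, 26⟩, 36⟩, 6, true),
    (⟨⟨22, 47, 19, 50, 61, 26⟩, 51⟩, 6, true), (⟨⟨55, 46, 30, 8, 60, 58⟩, 0⟩, 6, true),
    (⟨⟨55, 46, 30, 8, 60, 58⟩, 19⟩, 6, true), (⟨⟨55, 46, 30, 8, 60, 58⟩, 37⟩, 6, true),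
    (⟨⟨55, 46, 30, 8, 60, 58⟩, 54⟩, 6, true), (⟨⟨50, 46, 27, 36, 60, 19⟩, 9⟩, 6, true),
    (⟨⟨50, 46, 27, 36, 60, 19⟩, 23⟩, 6, true), (⟨⟨50, 46, 27, 36, 60, 19⟩, 44⟩, 6, true),
    (⟨⟨50, 46, 27, 36, 60, 19⟩, 50⟩, 6, true), (⟨⟨50, 47, 26, 22, 61, 19⟩, 5⟩, 6, true),
    (⟨⟨50, 47, 26, 22, 61, 19⟩, 27⟩, 6, true), (⟨⟨50, 47, 26, 22, 61, 19⟩, 40⟩, 6, true),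
    (⟨⟨50, 47, 26, 22, 61, 19⟩, 54⟩, 6, true), (⟨⟨55, 47, 31, 62, 61, 59⟩, 0⟩, 6, true),
    (⟨⟨55, 47, 31, 62, 61, 59⟩, 27⟩, 6, true), (⟨⟨55, 47, 31, 62, 61, 59⟩, 45⟩, 6, true),
    (⟨⟨55, 47, 31, 62, 61, 59⟩, 54⟩, 6, true)]

end CfsgLib.Small.SuzOrder
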