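import Cfsg.Agent.Lib.Small.SuzOrder.PairData

/-!
# The data of the pairs at the central involution list all candidates over the first class
-/

set_option autoImplicit false
set_option maxRecDepth 100000

namespace CfsgLib.Small.SuzOrder

open CfsgLib.Small.SuzTwo

/-- The check of one matrix of the first class. -/
private def completeRow (m : Mat) : Bool := (List.finRange 64).all fun s =>
  !((⟨m, s⟩ : Au).mul ⟨m, s⟩ == Au.id && cnt ⟨m, s⟩ == 4) ||
    (xList.map Prod.fst).contains ⟨m, s⟩

private theorem complete_part0 : ((aList.map Prod.fst).take 15).all completeRow = true := by
  decide +kernel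

private theorem complete_part1 :
    (((aList.map Prod.fst).drop 15).take 15).all completeRow = true := by decide +kernel

private theorem complete_part2 :
    (((aList.map Prod.fst).drop 15).drop 15).all completeRow = true := by decide +kernel

theorem xList_complete_a : (aList.map Prod.fst).all (fun m => (List.finRange 64).all fun s =>
    !((⟨m, s⟩ : Au).mul ⟨m, s⟩ == Au.id && cnt ⟨m, s⟩ == 4) ||
      (xList.map Prod.fst).contains ⟨m, s⟩) = true := by
  show (aList.map Prod.fst).all completeRow = true
  rw [← List.take_append_drop 15 (aList.map Prod.fst), List.all_append, complete_part0,
    ← List.take_append_drop 15 ((aList.map Prod.fst).drop 15), List.all_append, complete_part1,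
    complete_part2]
  rfl

end CfsgLib.Small.SuzOrder
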