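import Cfsg.Agent.Lib.Small.SuzOrder.AuAction
import Cfsg.Agent.Lib.Small.SuzOrder.Lifts
import Cfsg.Agent.Lib.Small.SuzTwo.Main

/-!
# Which lifts of involutory automorphisms are involutions
-/

set_option autoImplicit false
set_option linter.unusedSectionVars false
set_option maxRecDepth 100000

namespace CfsgLib.Small.SuzOrder

open CfsgLib.Small.SuzTwo Equiv

/-- The value of `cnt` at involutions. -/
def kOf (a : Mat) : ℕ := if typeA a then 4 else 12

/-- A test for `(au x).s` to be that of an involution. -/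
def cert (a : Au) : Bool := (List.finRange 64).all fun s0 =>
  !((⟨a.m, s0⟩ : Au).mul ⟨a.m, s0⟩ == Au.id && cnt ⟨a.m, s0⟩ == kOf a.m) ||
    ((a.m.ap (dual (vadd a.s s0)) == dual (vadd a.s s0)) &&
      (sgn ⟨a.m, s0⟩ (dual (vadd a.s s0)) == qb (dual (vadd a.s s0))) &&
      ((⟨a.m, s0⟩ : Au).mul (inner (dual (vadd a.s s0))) == a))

theorem fixA_count : ((List.finRange 64).filter fun v =>
    (nm ixA).ap v == v && !qb v).length = 4 := by decide +kernel

theorem matOf_one : matOf (1 : Perm (Fin 64)) = idMat := rfl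

namespace SignModel

variable {G : Type*} [Group G] {z : G} {Q : Subgroup G} {f : G → Fin 64}
  {ρ : Cz z →* Perm (Fin 64)} (M : Model z Q f ρ)

include M

theorem lv_inverted {x : G} {π : Perm (Fin 64)} (hx : Img ρ x π) (v : Fin 64) (b : Bool) :
    x * (lv Q f v * zp z b) * x⁻¹ = (lv Q f v * zp z b)⁻¹ ↔
      (au Q f x).m.ap v = v ∧ sgn (au Q f x) v = qb v := by
  rw [au_m M hx, ← O_apply (M.img_O hx), sgn_au M hx]
  have h1 : x * (lv Q f v * zp z b) * x⁻¹ = lv Q f (π v) * zp z (sig Q f x v ^^ b) := by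
    calc x * (lv Q f v * zp z b) * x⁻¹ = x * lv Q f v * (zp z b * x⁻¹) := by group
      _ = x * lv Q f v * x⁻¹ * zp z b := by rw [← M.zp_comm _ (inv_mem hx.mem)]; group
      _ = _ := by rw [conj_lv M hx, M.zp_xor]; group
  have h2 : (lv Q f v * zp z b)⁻¹ = lv Q f v * zp z (qb v ^^ b) := by
    rw [M.inv_eq (mul_mem (lv_mem M v) (zp_mem M b))]
    have : f (lv Q f v * zp z b) = v := by
      rw [M.f_mul _ (lv_mem M v) _ (zp_mem M b), f_lv M]
      cases b
      · rw [zp_false, M.f_one, vadd_zero]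
      · rw [zp_true, M.f_z, vadd_zero]
    rw [this, mul_assoc, ← M.zp_xor, Bool.xor_comm]
  rw [h1, h2]
  constructor
  · intro h
    obtain ⟨e1, e2⟩ := lv_inj M h
    refine ⟨e1, ?_⟩
    revert e2
    cases b <;> cases qb v <;> cases sig Q f x v <;> decide
  · rintro ⟨e1, e2⟩
    rw [e1, e2]

theorem inv_card {x : G} (hx : x ∈ Cz z) :
    Nat.card {r : G // r ∈ Q ∧ x * r * x⁻¹ = r⁻¹} = 2 * cnt (au Q f x) := by
  classical
  let p : Fin 64 → Bool := fun v => (au Q f x).m.ap v == v && sgn (au Q f x) v == qb v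
  let s : Finset (Fin 64) := Finset.univ.filter fun v => p v
  have hs : s.card = cnt (au Q f x) := by
    rw [cnt, ← List.toFinset_card_of_nodup ((List.nodup_finRange 64).filter _)]
    congr 1
    ext v
    simp [s, p]
  have hp : ∀ v, p v = true ↔ (au Q f x).m.ap v = v ∧ sgn (au Q f x) v = qb v := fun v => by
    simp [p]
  let φ : s × Bool → {r : G // r ∈ Q ∧ x * r * x⁻¹ = r⁻¹} := fun w =>
    ⟨lv Q f w.1.1 * zp z w.2, mul_mem (lv_mem M _) (zp_mem M _),
      (lv_inverted M (Img.mk' hx) _ _).2 ((hp _).1 (Finset.mem_filter.1 w.1.2).2)⟩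
  have hinj : Function.Injective φ := by
    intro a b h
    obtain ⟨e1, e2⟩ := lv_inj M (congrArg Subtype.val h)
    exact Prod.ext (Subtype.ext e1) e2
  have hsur : Function.Surjective φ := by
    rintro ⟨r, hr, hinv⟩
    obtain ⟨b, hb⟩ := eq_lv M hr
    rw [hb] at hinv
    have := (lv_inverted M (Img.mk' hx) _ _).1 hinv
    exact ⟨(⟨f r, Finset.mem_filter.2 ⟨Finset.mem_univ _, (hp _).2 this⟩⟩, b), Subtype.ext hb.symm⟩
  rw [← Nat.card_congr (Equiv.ofBijective φ ⟨hinj, hsur⟩), Nat.card_prod,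
    Nat.card_eq_finsetCard, hs, Nat.card_eq_fintype_card, Fintype.card_bool, mul_comm]

theorem inv_card_conj {x c : G} (hc : c ∈ Cz z) :
    Nat.card {r : G // r ∈ Q ∧ x * r * x⁻¹ = r⁻¹} =
      Nat.card {r : G // r ∈ Q ∧ (c * x * c⁻¹) * r * (c * x * c⁻¹)⁻¹ = r⁻¹} := by
  refine Nat.card_congr ((MulAut.conj c).toEquiv.subtypeEquiv fun r => ?_)
  show r ∈ Q ∧ _ ↔ c * r * c⁻¹ ∈ Q ∧ _
  refine and_congr ⟨M.normal c hc r, fun h => ?_⟩ ?_
  · have := M.normal c⁻¹ (inv_mem hc) _ h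
    rwa [show c⁻¹ * (c * r * c⁻¹) * c⁻¹⁻¹ = r by group] at this
  · show x * r * x⁻¹ = r⁻¹ ↔ c * x * c⁻¹ * (c * r * c⁻¹) * (c * x * c⁻¹)⁻¹ = (c * r * c⁻¹)⁻¹
    rw [show c * x * c⁻¹ * (c * r * c⁻¹) * (c * x * c⁻¹)⁻¹ = c * (x * r * x⁻¹) * c⁻¹ by group,
      show (c * r * c⁻¹)⁻¹ = c * r⁻¹ * c⁻¹ by group, mul_left_inj, mul_right_inj]

theorem typeA_of_conj {π σ : Perm (Fin 64)} (hπ : π ∈ O) (hσ : σ ∈ O) {τ : Ix}
    (h : σ * π * σ⁻¹ = P τ) :
    typeA (matOf π) = true ↔ ∀ v, qb (vadd v ((nm τ).ap v)) = false := by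
  have hrw : ∀ v, qb (vadd (σ v) ((nm τ).ap (σ v))) = qb (vadd v (π v)) := by
    intro v
    rw [← P_apply τ, ← h]
    simp only [Perm.mul_apply, Equiv.Perm.coe_inv, Equiv.symm_apply_apply]
    rw [← O_add hσ, O_q hσ]
  rw [typeA, List.all_eq_true]
  constructor
  · intro hA v
    have := hA (σ⁻¹ v) (List.mem_finRange _)
    rw [← O_apply hπ, ← hrw] at this
    simpa using this
  · intro hA v _
    rw [← O_apply hπ, ← hrw, hA]
    rfl

theorem kOf_conj {π σ : Perm (Fin 64)} (hπ : π ∈ O) (hσ : σ ∈ O) :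
    (σ * π * σ⁻¹ = P ixA → kOf (matOf π) = 4) ∧ (σ * π * σ⁻¹ = P ixC → kOf (matOf π) = 12) := by
  refine ⟨fun h => ?_, fun h => ?_⟩
  · rw [kOf, if_pos ((typeA_of_conj M hπ hσ h).2 qA)]
  · rw [kOf, if_neg]
    intro hA
    obtain ⟨v, hv⟩ := qC
    rw [(typeA_of_conj M hπ hσ h).1 hA v] at hv
    cases hv

variable (H : Lifts z Q f ρ)

include H

/-- The number of inverted lifts of an involution outside `Q`. -/
theorem cnt_invol {x : G} {π : Perm (Fin 64)} (hx : Img ρ x π) (h2 : x * x = 1) (hπ : π ≠ 1) :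
    cnt (au Q f x) = kOf (au Q f x).m := by
  have hπ2 : π * π = 1 := (h2 ▸ hx.mul hx).unique Img.one
  obtain ⟨σ, hσ, hc⟩ := invol_conj M.range_le M.ρ_card hx.mem_range hπ2 hπ
  obtain ⟨s, hs⟩ := exists_img hσ
  have hy := hx.conj hs
  have hy2 : s * x * s⁻¹ * (s * x * s⁻¹) = 1 := conj_sq_one s h2
  have key := inv_card_conj M (x := x) hs.mem
  rw [inv_card M hx.mem, inv_card M hy.mem] at key
  rw [au_m M hx]
  rcases hc with hA | hC
  · rw [(kOf_conj M (M.img_O hx) (M.range_le hσ)).1 hA]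
    rw [hA] at hy
    suffices cnt (au Q f (s * x * s⁻¹)) = 4 by omega
    refine (congrArg List.length (List.filter_congr fun v _ => ?_)).trans fixA_count
    rw [au_m M hy, sgn_au M hy, ← O_apply (M.img_O hy), P_apply]
    by_cases hv : (nm ixA).ap v = v
    · have hcomm := H.fixA _ (lv Q f v) hy hy2 (lv_mem M v) (by rw [InFix, f_lv M]; exact hv)
      have hsig : sig Q f (s * x * s⁻¹) v = false := by
        have h := conj_lv M hy v
        rw [hcomm, mul_inv_cancel_right, P_apply, hv] at h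
        exact (lv_inj M ((show lv Q f v * zp z false = lv Q f v by
          rw [zp_false, mul_one]).trans h)).2.symm
      rw [hv, hsig]
      cases qb v <;> simp
    · rw [show ((nm ixA).ap v == v) = false from beq_eq_false_iff_ne.2 hv]
      rfl
  · rw [(kOf_conj M (M.img_O hx) (M.range_le hσ)).2 hC]
    rw [hC] at hy
    have h24 := H.invC _ hy hy2
    rw [inv_card M hy.mem] at h24
    omega

/-- A lift of an involutory automorphism is an involution exactly if it inverts the right number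
of lifts. -/
theorem sq_iff {w : G} (hw : w ∈ Cz z) (h2 : (au Q f w).mul (au Q f w) = Au.id)
    (hm : (au Q f w).m ≠ idMat)
    (hcert : cnt (au Q f w) = kOf (au Q f w).m → cert (au Q f w) = true) :
    w * w = 1 ↔ cnt (au Q f w) = kOf (au Q f w).m := by
  have hI : Img ρ w (ρ ⟨w, hw⟩) := Img.mk' hw
  have hπ : ρ ⟨w, hw⟩ ≠ 1 := fun e => hm (by rw [au_m M hI, e]; rfl)
  refine ⟨fun h => cnt_invol M H hI h hπ, fun hk => ?_⟩
  have hww : au Q f (w * w) = au Q f (1 : G) := by rw [au_mul M hw hw, h2, au_id M]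
  have hπ2 : ρ ⟨w, hw⟩ * ρ ⟨w, hw⟩ = 1 := by
    have h1 : w * w ∈ Q := by
      rcases au_inj M (mul_mem hw hw) (one_mem _) hww with h | h
      · rw [← h]; exact one_mem Q
      · rw [show w * w = z from by
          rw [← mul_right_inj (a := z), ← mem_Cz.1 (mul_mem hw hw), ← h, M.zz]]
        exact M.z_mem
    exact (hI.mul hI).unique (M.img_q h1)
  obtain ⟨σ, hσ, hc⟩ := invol_conj M.range_le M.ρ_card hI.mem_range hπ2 hπ
  obtain ⟨s, hs⟩ := exists_img hσ
  obtain ⟨τ, x1, hτ, hx1, hx12⟩ :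
      ∃ τ x1, σ * ρ ⟨w, hw⟩ * σ⁻¹ = P τ ∧ Img ρ x1 (P τ) ∧ x1 * x1 = 1 := by
    rcases hc with h | h
    · obtain ⟨u, g, W⟩ := M.exists_Swap
      obtain ⟨x, hx, -, hx2⟩ := M.exists_DA W
      exact ⟨ixA, x, h, hx, hx2⟩
    · obtain ⟨x, hx, hx2⟩ := M.exists_C
      exact ⟨ixC, x, h, hx, hx2⟩
  have hI0 : Img ρ (s⁻¹ * x1 * s) (ρ ⟨w, hw⟩) := by
    have h := hx1.conj hs.inv
    rw [inv_inv, inv_inv, ← hτ, show σ⁻¹ * (σ * ρ ⟨w, hw⟩ * σ⁻¹) * σ = ρ ⟨w, hw⟩ by group] at h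
    exact h
  set x0 := s⁻¹ * x1 * s with hx0
  have hx02 : x0 * x0 = 1 := by
    have := conj_sq_one s⁻¹ hx12
    rwa [inv_inv] at this
  have hm0 : (au Q f x0).m = (au Q f w).m := by rw [au_m M hI0, au_m M hI]
  have h02 : (au Q f x0).mul (au Q f x0) = Au.id := by
    rw [← au_mul M hI0.mem hI0.mem, hx02, au_id M]
  have hk0 : cnt (au Q f x0) = kOf (au Q f w).m := hm0 ▸ cnt_invol M H hI0 hx02 hπ
  have hc0 := List.all_eq_true.1 (hcert hk) (au Q f x0).s (List.mem_finRange _)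
  have ha0 : (⟨(au Q f w).m, (au Q f x0).s⟩ : Au) = au Q f x0 := by rw [← hm0]
  simp only [ha0, h02, hk0, beq_self_eq_true, Bool.and_self, Bool.not_true, Bool.false_or,
    Bool.and_eq_true, beq_iff_eq] at hc0
  set v := dual (vadd (au Q f w).s (au Q f x0).s) with hv
  obtain ⟨⟨hfix, hsg⟩, hprod⟩ := hc0
  rw [show inner v = au Q f (lv Q f v) by rw [au_q M (lv_mem M v), f_lv M],
    ← au_mul M hI0.mem (M.le (lv_mem M v))] at hprod
  have hinv : x0 * lv Q f v * x0⁻¹ = (lv Q f v)⁻¹ := by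
    have := (lv_inverted M hI0 v false).2 ⟨hm0 ▸ hfix, hsg⟩
    rwa [zp_false, mul_one] at this
  have hsq := (M.inverted_iff hx02).2 hinv
  rcases au_inj M (mul_mem hI0.mem (M.le (lv_mem M v))) hw hprod with h | h
  · rw [h, hsq]
  · rw [h]
    calc x0 * lv Q f v * z * (x0 * lv Q f v * z)
        = x0 * lv Q f v * (z * (x0 * lv Q f v)) * z := by group
      _ = (x0 * lv Q f v * (x0 * lv Q f v)) * (z * z) := by
          rw [← mem_Cz.1 (mul_mem hI0.mem (M.le (lv_mem M v)))]; group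
      _ = 1 := by rw [hsq, M.zz, mul_one]

end SignModel

end CfsgLib.Small.SuzOrder
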