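import Cfsg.Agent.Lib.Small.SuzOrder.PairData
import Cfsg.Agent.Lib.Small.SuzOrder.Squares
import Cfsg.Agent.Lib.Small.SuzOrder.PairFactsA

/-!
# Certificates for the data of the pairs at the central involution
-/

set_option autoImplicit false
set_option maxRecDepth 100000

namespace CfsgLib.Small.SuzOrder

open CfsgLib.Small.SuzTwo

/-- The order in which the columns are chosen. -/
def jList : List (Fin 6) := [1, 4, 2, 5, 0, 3]

/-- Whether `c` may be the image of the `j`-th vector, given earlier images. -/
def okCol (pre : List (Fin 6 × Fin 64)) (j : Fin 6) (c : Fin 64) : Bool :=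
  qb c == qb (ev j) && !qb (vadd c (ev j)) &&
    pre.all fun p => bl c p.2 == bl (ev j) (ev p.1) && !bl (vadd c (ev j)) (vadd p.2 (ev p.1))

/-- The candidates for the chosen columns. -/
def colCands : List (Fin 6) → List (List (Fin 6 × Fin 64))
  | [] => [[]]
  | j :: l => (colCands l).flatMap fun pre =>
      ((List.finRange 64).filter (okCol pre j)).map fun c => (j, c) :: pre

/-- The matrix of a choice of columns. -/
def matC (p : List (Fin 6 × Fin 64)) : Mat :=
  let g : Fin 6 → Fin 64 := fun j => (p.lookup j).getD 0
  ⟨g 0, g 1, g 2, g 3, g 4, g 5⟩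

theorem colCands_a : (colCands jList).all (fun p =>
    matC p == idMat || (aList.map Prod.fst).contains (matC p)) = true := by decide +kernel

/-- The product of named elements. -/
def wordM : List Ix → Mat
  | [] => idMat
  | i :: l => (nm i).mul (wordM l)

theorem aList_words : aList.all (fun p =>
    (p.1.mul (wordM p.2) == (wordM p.2).mul (nm ixA)) && typeA p.1 && p.1 != idMat) = true := by
  decide +kernel

theorem stC_spec : stC.m = nm ixC ∧ stC.mul stC = Au.id ∧ cnt stC = 12 := by decide +kernel

theorem stC_cert : cert stC = true := by decide +kernel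

theorem xList_nodup : (xList.map Prod.fst).Nodup := by decide +kernel

/-- `cert` with the candidates taken from `xList`. -/
def certRow (a : Au) : Bool := xList.all fun r =>
  r.1.m != a.m || ((a.m.ap (dual (vadd a.s r.1.s)) == dual (vadd a.s r.1.s)) &&
    (sgn r.1 (dual (vadd a.s r.1.s)) == qb (dual (vadd a.s r.1.s))) &&
    (r.1.mul (inner (dual (vadd a.s r.1.s))) == a))

/-- A row of `xList` is a noncentral conjugate of the central involution up to sign. -/
def rowKind (r : Au × ℕ × Bool) : Bool :=
  (r.1.m == idMat && inner (dual r.1.s) == r.1 && !qb (dual r.1.s) && dual r.1.s != 0) ||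
    ((aList.map Prod.fst).contains r.1.m && r.1.mul r.1 == Au.id && cnt r.1 == 4 && certRow r.1)

theorem xList_kind : xList.all rowKind = true := by decide +kernel

/-- The checks of the exponent and the flag in a row of `xList`. -/
def rowTest (r : Au × ℕ × Bool) : Bool :=
  let g := r.1.mul stC
  let w := g.pw (r.2.1 / 2)
  r.2.1 % 2 == 0 && r.2.1 != 0 && g.pw r.2.1 == Au.id && w.mul w == Au.id && w != Au.id &&
    (if w.m == idMat then inner (dual w.s) == w && r.2.2 == qb (dual w.s)
      else (cnt w != kOf w.m || cert w) && r.2.2 == (cnt w != kOf w.m))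

theorem xList_test : xList.all rowTest = true := by decide +kernel

theorem xList_complete_q : ((List.finRange 64).filter fun v => v != 0 && !qb v).all (fun v =>
    (xList.map Prod.fst).contains (inner v)) = true := by decide +kernel

theorem xList_count : (xList.filter fun r => r.2.2).length = 118 := by decide +kernel

end CfsgLib.Small.SuzOrder
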