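import Cfsg.Agent.Lib.Small.SuzOrder.PairFacts
import Cfsg.Agent.Lib.Small.SuzOrder.Interface

/-!
# The pairs of involutions of the two classes at the central involution
-/

set_option autoImplicit false
set_option linter.unusedSectionVars false
set_option linter.style.haveILetI false
set_option maxRecDepth 100000

namespace CfsgLib.Small.SuzOrder

open CfsgLib.Small.SuzTwo Equiv Subgroup

theorem col_cands_mem {π : Perm (Fin 64)} (hπ : π ∈ O) (hA : ∀ v, qb (vadd v (π v)) = false) :
    ∀ l : List (Fin 6), (l.map fun j => (j, π (ev j))) ∈ colCands l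
  | [] => List.mem_singleton.2 rfl
  | j :: l => by
    refine List.mem_flatMap.2 ⟨_, col_cands_mem hπ hA l, List.mem_map.2 ⟨π (ev j), ?_, rfl⟩⟩
    refine List.mem_filter.2 ⟨List.mem_finRange _, ?_⟩
    simp only [okCol, Bool.and_eq_true, beq_iff_eq, Bool.not_eq_true', List.all_eq_true,
      List.mem_map]
    refine ⟨⟨O_q hπ _, by rw [vadd_comm_all, hA]⟩, ?_⟩
    rintro p ⟨k, -, rfl⟩
    refine ⟨O_bl hπ _ _, ?_⟩
    rw [vadd_comm_all (π (ev j)), vadd_comm_all (π (ev k))]
    unfold bl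
    rw [hA, hA]
    have h := hA (vadd (ev j) (ev k))
    rw [O_add hπ, vadd_four] at h
    rw [h]
    rfl

theorem mat_mem_aList {π : Perm (Fin 64)} (hπ : π ∈ O) (hA : typeA (matOf π) = true)
    (h1 : π ≠ 1) : matOf π ∈ aList.map Prod.fst := by
  have hA' : ∀ v, qb (vadd v (π v)) = false := fun v => by
    have := List.all_eq_true.1 hA v (List.mem_finRange _)
    rw [← O_apply hπ] at this
    simpa using this
  have h := List.all_eq_true.1 colCands_a _ (col_cands_mem hπ hA' jList)
  have hm : matC (jList.map fun j => (j, π (ev j))) = matOf π := rfl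
  rw [hm] at h
  simp only [Bool.or_eq_true, beq_iff_eq, List.contains_iff_mem] at h
  rcases h with h | h
  · exact absurd (O_ext hπ (one_mem O) fun j => by rw [O_apply hπ, h, span_basis]; rfl) h1
  · exact h

theorem wordM_perm : ∀ (l : List Ix) (v : Fin 64), (wordM l).ap v = (l.map P).prod v
  | [], v => by rw [wordM, span_basis]; rfl
  | i :: l, v => by
    rw [wordM, ap_mul, wordM_perm l v, List.map_cons, List.prod_cons, Perm.mul_apply, P_apply]

namespace SignModel

variable {G : Type*} [Group G] {z : G} {Q : Subgroup G} {f : G → Fin 64}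
  {ρ : Cz z →* Perm (Fin 64)} (M : Model z Q f ρ)

include M

theorem card_cz [Finite G] : Nat.card (Cz z) = 3317760 := by
  have h := ρ.ker.card_eq_card_quotient_mul_card_subgroup
  have hk : Nat.card ρ.ker = 128 := by
    rw [← M.card]
    refine Nat.card_congr
      ⟨fun c => ⟨(c.1 : G), (M.ρ_ker c.1).1 c.2⟩,
        fun q => ⟨⟨q.1, M.le q.2⟩, (M.ρ_ker _).2 q.2⟩, fun c => rfl, fun q => rfl⟩
  rw [h, hk, Nat.card_congr (QuotientGroup.quotientKerEquivRange ρ).toEquiv, M.ρ_card]

theorem conj_z_mul {x : G} (hx : x ∈ Cz z) (h2 : x * x = 1) (h1 : x ≠ 1) (hz : x ≠ z)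
    (hc : IsConj z x) : IsConj z (x * z) ∧ x * z ≠ 1 := by
  have hne : x * z ≠ 1 := fun e => hz ((mul_eq_one_iff_eq_inv.1 e).trans M.z_inv)
  have h22 : x * z * (x * z) = 1 := by
    calc x * z * (x * z) = x * (z * x) * z := by group
      _ = x * x * (z * z) := by rw [← mem_Cz.1 hx]; group
      _ = 1 := by rw [h2, M.zz, one_mul]
  refine ⟨?_, hne⟩
  by_cases hQ : x ∈ Q
  · obtain ⟨k, hk⟩ := M.nc_conj_z
      ⟨mul_mem hQ M.z_mem, h22, hne, fun e => h1 (mul_eq_right.1 e)⟩
    exact isConj_iff.2 ⟨k, hk⟩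
  have hI : Img ρ x _ := Img.mk' hx
  have hπ : ρ ⟨x, hx⟩ ≠ 1 := fun e => hQ (M.img_one_mem (e ▸ hI))
  have hπ2 : ρ ⟨x, hx⟩ * ρ ⟨x, hx⟩ = 1 := (h2 ▸ hI.mul hI).unique Img.one
  obtain ⟨σ, hσ, hA | hC⟩ := invol_conj M.range_le M.ρ_card hI.mem_range hπ2 hπ
  · obtain ⟨k, hk⟩ := M.near_conj_z h22 hne (M.near_mul_z (M.near_of_A hI hσ hA h2))
    exact isConj_iff.2 ⟨k, hk⟩
  · obtain ⟨s, hs⟩ := exists_img hσ
    obtain ⟨k, hk⟩ := isConj_iff.1 (hc.trans (isConj_iff.2 ⟨s, rfl⟩))
    exact absurd hk (M.not_conj_z (hC ▸ hI.conj hs) (conj_sq_one s h2))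

/-- The two kinds of conjugates of `z` in its centraliser. -/
theorem conj_cases {x : G} (hx : x ∈ Cz z) (h2 : x * x = 1) (h1 : x ≠ 1) :
    IsConj z x ↔ x ∈ Q ∨ typeA (au Q f x).m = true := by
  by_cases hQ : x ∈ Q
  · refine iff_of_true ?_ (Or.inl hQ)
    by_cases hz : x = z
    · rw [hz]
    · obtain ⟨k, hk⟩ := M.nc_conj_z ⟨hQ, h2, h1, hz⟩
      exact isConj_iff.2 ⟨k, hk⟩
  have hI : Img ρ x _ := Img.mk' hx
  have hπ : ρ ⟨x, hx⟩ ≠ 1 := fun e => hQ (M.img_one_mem (e ▸ hI))
  have hπ2 : ρ ⟨x, hx⟩ * ρ ⟨x, hx⟩ = 1 := (h2 ▸ hI.mul hI).unique Img.one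
  rw [au_m M hI]
  obtain ⟨σ, hσ, hA | hC⟩ := invol_conj M.range_le M.ρ_card hI.mem_range hπ2 hπ
  · refine iff_of_true ?_ (Or.inr ((typeA_of_conj M (M.img_O hI) (M.range_le hσ) hA).2 qA))
    obtain ⟨k, hk⟩ := M.near_conj_z h2 h1 (M.near_of_A hI hσ hA h2)
    exact isConj_iff.2 ⟨k, hk⟩
  · refine iff_of_false (fun hc => ?_) ?_
    · obtain ⟨s, hs⟩ := exists_img hσ
      obtain ⟨k, hk⟩ := isConj_iff.1 (hc.trans (isConj_iff.2 ⟨s, rfl⟩))
      exact M.not_conj_z (hC ▸ hI.conj hs) (conj_sq_one s h2) hk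
    · rintro (h | h)
      · exact hQ h
      · obtain ⟨v, hv⟩ := qC
        rw [(typeA_of_conj M (M.img_O hI) (M.range_le hσ) hC).1 h v] at hv
        cases hv

variable {t : G} (ht : Img ρ t (P ixC)) (ht2 : t * t = 1)

include ht ht2

theorem class_t {y : G} : (y ∈ Cz z ∧ IsConj t y) ↔ ∃ c : G, c ∈ Cz z ∧ c * t * c⁻¹ = y := by
  refine ⟨fun ⟨hy, hc⟩ => ?_, fun ⟨c, hc, he⟩ =>
    ⟨he ▸ mul_mem (mul_mem hc ht.mem) (inv_mem hc), isConj_iff.2 ⟨c, he⟩⟩⟩
  have ht1 : t ≠ 1 := fun e => M.not_mem_of_img ht invC.P_ne (e ▸ one_mem Q)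
  obtain ⟨g, hg⟩ := isConj_iff.1 hc
  have hy2 : y * y = 1 := hg ▸ conj_sq_one g ht2
  have hy1 : y ≠ 1 := fun e => ht1 (conj_eq_one_iff.1 (hg.trans e))
  have hnz : ¬ IsConj z y := fun h => by
    obtain ⟨k, hk⟩ := isConj_iff.1 (h.trans hc.symm)
    exact M.not_conj_z ht ht2 hk
  have hI : Img ρ y _ := Img.mk' hy
  have hQ : y ∉ Q := fun h => hnz ((conj_cases M hy hy2 hy1).2 (Or.inl h))
  have hπ : ρ ⟨y, hy⟩ ≠ 1 := fun e => hQ (M.img_one_mem (e ▸ hI))
  have hπ2 : ρ ⟨y, hy⟩ * ρ ⟨y, hy⟩ = 1 := (hy2 ▸ hI.mul hI).unique Img.one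
  obtain ⟨σ, hσ, hA | hC⟩ := invol_conj M.range_le M.ρ_card hI.mem_range hπ2 hπ
  · exfalso
    obtain ⟨k, hk⟩ := M.near_conj_z hy2 hy1 (M.near_of_A hI hσ hA hy2)
    exact hnz (isConj_iff.2 ⟨k, hk⟩)
  · obtain ⟨s, hs⟩ := exists_img hσ
    obtain ⟨c, hcC, he⟩ := M.class_C ht ht2 (hC ▸ hI.conj hs) (conj_sq_one s hy2)
    refine ⟨s⁻¹ * c, mul_mem (inv_mem hs.mem) hcC, ?_⟩
    calc s⁻¹ * c * t * (s⁻¹ * c)⁻¹ = s⁻¹ * (c * t * c⁻¹) * s := by group
      _ = y := by rw [he]; group

variable (H : Lifts z Q f ρ)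

include H

theorem t_even [Finite G] {x : G} (hx : IsConj z x) : Even (orderOf (x * t)) := by
  by_contra hodd
  have ht1 : t ≠ 1 := fun e => M.not_mem_of_img ht invC.P_ne (e ▸ one_mem Q)
  have hxo := Involutions.isConj_invol hx M.ord
  have hto : orderOf t = 2 := orderOf_eq_prime (by rw [sq, ht2]) ht1
  obtain ⟨k, hk⟩ := isConj_iff.1
    (hx.trans (Involutions.isConj_of_odd_prod hxo hto (Nat.not_even_iff_odd.1 hodd)))
  exact M.not_conj_z ht ht2 hk

/-- The test decides whether the involution of `⟨x, t⟩` is `z`. -/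
theorem half_iff [Finite G] (hau : au Q f t = stC) {x : G} (hxC : x ∈ Cz z) (hx : IsConj z x)
    {r : Au × ℕ × Bool} (hr : r ∈ xList) (he : au Q f x = r.1) :
    DGroup.half x t = z ↔ r.2.2 = true := by
  obtain ⟨a, n, b⟩ := r
  have htest := List.all_eq_true.1 xList_test _ hr
  simp only [rowTest, Bool.and_eq_true, beq_iff_eq, bne_iff_ne, ne_eq] at htest he
  obtain ⟨⟨⟨⟨⟨hn2, hn0⟩, hgn⟩, hww⟩, hw1⟩, hb⟩ := htest
  have hgC : x * t ∈ Cz z := mul_mem hxC ht.mem
  have hg : au Q f (x * t) = a.mul stC := by rw [au_mul M hxC ht.mem, he, hau]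
  have hwau : au Q f ((x * t) ^ (n / 2)) = (a.mul stC).pw (n / 2) := by
    rw [au_pow M hgC, hg]
  set w := (x * t) ^ (n / 2) with hw
  have hwC : w ∈ Cz z := pow_mem hgC _
  rw [← hwau] at hww hw1 hb
  have hsq : w * w = (x * t) ^ n := by rw [hw, ← pow_add]; congr 1; omega
  have hgn' : (x * t) ^ n = 1 ∨ (x * t) ^ n = z := by
    have h : au Q f ((x * t) ^ n) = au Q f (1 : G) := by rw [au_pow M hgC, hg, hgn, au_id M]
    rcases au_inj M (one_mem _) (pow_mem hgC n) h.symm with h1 | h1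
    · exact Or.inl h1
    · exact Or.inr (h1.trans (one_mul z))
  have hwz : w * w = z ↔ b = true := by
    split at hb
    · simp only [Bool.and_eq_true, beq_iff_eq] at hb
      obtain ⟨hin, hbq⟩ := hb
      have hl : au Q f (lv Q f (dual (au Q f w).s)) = au Q f w := by
        rw [au_q M (lv_mem M _), f_lv M, hin]
      obtain ⟨c, hwq⟩ : ∃ c, w = lv Q f (dual (au Q f w).s) * zp z c := by
        rcases au_inj M (M.le (lv_mem M _)) hwC hl with h | h
        · exact ⟨false, by rw [zp_false, mul_one]; exact h⟩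
        · exact ⟨true, h⟩
      have hwQ : w ∈ Q := hwq ▸ mul_mem (lv_mem M _) (zp_mem M c)
      have hfw : f w = dual (au Q f w).s := by
        have h1 : au Q f w = inner (f w) := au_q M hwQ
        conv_rhs => rw [h1, dual_inner]
      rw [M.sq_zp hwQ, hfw, ← hbq]
      cases b
      · exact iff_of_false (by rw [zp_false]; exact M.z_ne.symm) (by simp)
      · exact iff_of_true rfl rfl
    · rename_i hm
      simp only [Bool.and_eq_true, beq_iff_eq] at hb hm
      obtain ⟨hcert, hbk⟩ := hb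
      have hiff := sq_iff M H hwC hww hm fun hk => by simpa [hk] using hcert
      rw [hbk, bne_iff_ne, ne_eq, ← hiff, hsq]
      rcases hgn' with h | h
      · rw [h]; exact iff_of_false M.z_ne.symm (fun h' => h' rfl)
      · rw [h]; exact iff_of_true rfl M.z_ne
  have heven := t_even M ht ht2 H hx
  set h := orderOf (x * t) with hh
  have hhalf : DGroup.half x t = (x * t) ^ (h / 2) := rfl
  have hhalf2 : (x * t) ^ (h / 2) * (x * t) ^ (h / 2) = 1 := by
    rw [← pow_add, show h / 2 + h / 2 = h by obtain ⟨m, hm⟩ := heven; omega, hh, pow_orderOf_eq_one]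
  have hpow : ∀ j : ℕ, ((x * t) ^ (h / 2)) ^ j =
      if Even j then 1 else (x * t) ^ (h / 2) := by
    intro j
    induction j with
    | zero => simp
    | succ j ih =>
      rw [pow_succ, ih]
      rcases Nat.even_or_odd j with he' | he'
      · rw [if_pos he', if_neg (Nat.not_even_iff_odd.2 he'.add_one), one_mul]
      · rw [if_neg (Nat.not_even_iff_odd.2 he'), if_pos he'.add_one, hhalf2]
  rw [← hwz]
  refine ⟨fun hz => ?_, fun hz => ?_⟩
  · by_contra hne
    have h1 : (x * t) ^ n = 1 := hgn'.resolve_right (hsq ▸ hne)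
    obtain ⟨j, hj⟩ := orderOf_dvd_of_pow_eq_one h1
    rw [← hh] at hj
    have hw' : w = ((x * t) ^ (h / 2)) ^ j := by
      rw [hw, ← pow_mul, hj]; congr 1
      obtain ⟨m, hm⟩ := heven
      rw [hm, show (m + m) * j = 2 * (m * j) by ring, Nat.mul_div_cancel_left _ two_pos,
        show (m + m) / 2 = m by omega]
    rw [hhalf] at hz
    apply hw1
    rw [hw', hpow]
    split
    · exact au_id M
    · rw [hz, au_q M M.z_mem, M.f_z]
      decide +kernel
  · have h1 : (x * t) ^ n = z := hsq ▸ hz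
    obtain ⟨j, hj⟩ : h ∣ 2 * n := orderOf_dvd_of_pow_eq_one (by
      rw [mul_comm, pow_mul, h1, sq, M.zz])
    have hn : n = h / 2 * j := by
      obtain ⟨m, hm⟩ := heven
      rw [show h / 2 = m by omega]
      rw [hm, show (m + m) * j = 2 * (m * j) by ring] at hj
      omega
    rw [hn, pow_mul, hpow] at h1
    split at h1
    · exact absurd h1.symm M.z_ne
    · exact h1

/-- The number of involutions of the first class whose product with `t` has the central
involution `z`. -/
theorem fiber_card [Finite G] (hau : au Q f t = stC) :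
    Nat.card {x : G // IsConj z x ∧ DGroup.half x t = z} = 236 := by
  classical
  have hto : orderOf t = 2 := orderOf_eq_prime (by rw [sq, ht2])
    (fun e => M.not_mem_of_img ht invC.P_ne (e ▸ one_mem Q))
  let good : List Au := (xList.filter fun r => r.2.2).map Prod.fst
  have hnd : good.Nodup := xList_nodup.sublist (List.filter_sublist.map _)
  have hlen : good.length = 118 := by rw [List.length_map, xList_count]
  have hreal : ∀ r ∈ xList, ∃ x : G, x ∈ Cz z ∧ au Q f x = r.1 ∧ x * x = 1 ∧ x ≠ 1 ∧ x ≠ z ∧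
      IsConj z x := by
    intro r hr
    have hk := List.all_eq_true.1 xList_kind r hr
    simp only [rowKind, Bool.or_eq_true, Bool.and_eq_true, beq_iff_eq, Bool.not_eq_true',
      bne_iff_ne, ne_eq, List.contains_iff_mem] at hk
    rcases hk with ⟨⟨⟨-, hin⟩, hq⟩, h0⟩ | ⟨⟨⟨hm, h2⟩, hc⟩, hcert⟩
    · have hnc := M.Nc_of_f (lv_mem M (dual r.1.s)) (by rw [f_lv M]; exact hq)
        (by rw [f_lv M]; exact h0)
      obtain ⟨k, hk⟩ := M.nc_conj_z hnc
      exact ⟨_, M.le (lv_mem M _), by rw [au_q M (lv_mem M _), f_lv M, hin], hnc.2.1, hnc.2.2.1,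
        hnc.2.2.2, isConj_iff.2 ⟨k, hk⟩⟩
    · obtain ⟨p, hp, hpm⟩ := List.mem_map.1 hm
      have hw := List.all_eq_true.1 aList_words p hp
      simp only [Bool.and_eq_true, beq_iff_eq, bne_iff_ne, ne_eq] at hw
      obtain ⟨⟨hw, htA⟩, hne⟩ := hw
      obtain ⟨u, g, W⟩ := M.exists_Swap
      obtain ⟨x1, hx1, -, hx12⟩ := M.exists_DA W
      obtain ⟨s, hs⟩ := exists_img (show (p.2.map P).prod ∈ ρ.range from
        list_prod_mem fun π hπ => by
          obtain ⟨i, -, rfl⟩ := List.mem_map.1 hπ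
          exact named_mem M.range_le M.ρ_card i)
      have hI := hx1.conj hs
      set x0 := s * x1 * s⁻¹
      have hx02 : x0 * x0 = 1 := conj_sq_one s hx12
      have hO := M.img_O hI
      have hm0 : (au Q f x0).m = r.1.m := by
        rw [au_m M hI, ← hpm]
        have he : ∀ v, ((p.2.map P).prod * P ixA * ((p.2.map P).prod)⁻¹) v = p.1.ap v := by
          intro v
          have h1 := congrArg (fun a : Mat => a.ap (((p.2.map P).prod)⁻¹ v)) hw
          simp only [ap_mul, wordM_perm] at h1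
          rw [Perm.mul_apply, Perm.mul_apply, P_apply, ← h1]
          simp
        refine mat_ext fun j => ?_
        rw [← O_apply hO, he]
      have hx01 : x0 ≠ 1 := fun e => by
        refine hne (mat_ext fun j => ?_)
        rw [hpm, ← hm0, e, au_id M]
        rfl
      have hπ : (p.2.map P).prod * P ixA * ((p.2.map P).prod)⁻¹ ≠ 1 := fun e =>
        invA.P_ne (conj_eq_one_iff.1 e)
      have h02 : (au Q f x0).mul (au Q f x0) = Au.id := by
        rw [← au_mul M hI.mem hI.mem, hx02, au_id M]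
      have hk4 : kOf r.1.m = 4 := by rw [kOf, if_pos (hpm ▸ htA)]
      have hk0 : cnt (au Q f x0) = kOf r.1.m := by rw [cnt_invol M H hI hx02 hπ, hm0]
      have hx0mem : au Q f x0 ∈ xList.map Prod.fst := by
        have ha0 : (⟨r.1.m, (au Q f x0).s⟩ : Au) = au Q f x0 := by rw [← hm0]
        have := List.all_eq_true.1 (List.all_eq_true.1 xList_complete_a _ (List.mem_map.2 ⟨p, hp, hpm⟩))
          (au Q f x0).s (List.mem_finRange _)
        simp only [ha0, h02, hk0.trans hk4, beq_self_eq_true, Bool.and_self, Bool.not_true,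
          Bool.false_or, List.contains_iff_mem] at this
        exact this
      obtain ⟨r0, hr0, hr0e⟩ := List.mem_map.1 hx0mem
      have hc0 := List.all_eq_true.1 hcert r0 hr0
      simp only [hr0e, hm0, bne_self_eq_false, Bool.false_or, Bool.and_eq_true, beq_iff_eq] at hc0
      set v := dual (vadd r.1.s (au Q f x0).s)
      obtain ⟨⟨hfix, hsg⟩, hprod⟩ := hc0
      have hxQ : x0 * lv Q f v ∈ Cz z := mul_mem hI.mem (M.le (lv_mem M v))
      have hau' : au Q f (x0 * lv Q f v) = r.1 := by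
        rw [au_mul M hI.mem (M.le (lv_mem M v)), au_q M (lv_mem M v), f_lv M, hprod]
      have hinv : x0 * lv Q f v * x0⁻¹ = (lv Q f v)⁻¹ := by
        have := (lv_inverted M hI v false).2 ⟨hm0 ▸ hfix, hsg⟩
        rwa [zp_false, mul_one] at this
      have hsq := (M.inverted_iff hx02).2 hinv
      have hnQ : x0 * lv Q f v ∉ Q := M.not_mem_of_img (M.img_mul_q hI (lv_mem M v)) hπ
      have h1 : x0 * lv Q f v ≠ 1 := fun e => hnQ (e ▸ one_mem Q)
      exact ⟨_, hxQ, hau', hsq, h1, fun e => hnQ (e ▸ M.z_mem),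
        (conj_cases M hxQ hsq h1).2 (Or.inr (by rw [hau', ← hpm]; exact htA))⟩
  have hgood : ∀ i : Fin good.length, ∃ r ∈ xList, r.2.2 = true ∧ good.get i = r.1 := by
    intro i
    obtain ⟨r, hr, he⟩ := List.mem_map.1 (List.get_mem good i)
    exact ⟨r, (List.mem_filter.1 hr).1, (List.mem_filter.1 hr).2, he.symm⟩
  choose rr hrr hrb hre using hgood
  choose xx hxC hxau hx2 hx1 hxz hxconj using fun i => hreal (rr i) (hrr i)
  let φ : Fin good.length × Bool → {x : G // IsConj z x ∧ DGroup.half x t = z} := fun w =>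
    ⟨xx w.1 * zp z w.2, by
      have hc : IsConj z (xx w.1 * zp z w.2) := by
        cases w.2
        · rw [zp_false, mul_one]; exact hxconj w.1
        · rw [zp_true]
          exact (conj_z_mul M (hxC w.1) (hx2 w.1) (hx1 w.1) (hxz w.1) (hxconj w.1)).1
      have hC : xx w.1 * zp z w.2 ∈ Cz z := mul_mem (hxC w.1) (M.le (zp_mem M _))
      refine ⟨hc, (half_iff M ht ht2 H hau hC hc (hrr w.1) ?_).2 (hrb w.1)⟩
      cases w.2
      · rw [zp_false, mul_one, hxau]
      · rw [zp_true, au_mul_z M, hxau]⟩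
  have hinj : Function.Injective φ := by
    rintro ⟨i, a⟩ ⟨j, b⟩ he
    have he' : xx i * zp z a = xx j * zp z b := congrArg Subtype.val he
    have hij : i = j := by
      have h1 := congrArg (au Q f) he'
      have hz : ∀ k c, au Q f (xx k * zp z c) = good.get k := by
        intro k c
        cases c
        · rw [zp_false, mul_one, hxau, hre]
        · rw [zp_true, au_mul_z M, hxau, hre]
      rw [hz, hz] at h1
      exact hnd.get_inj_iff.1 h1
    subst hij
    exact Prod.ext rfl (M.zp_inj (mul_left_cancel he'))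
  have hsur : Function.Surjective φ := by
    rintro ⟨x, hc, hhalf⟩
    have hxo := Involutions.isConj_invol hc M.ord
    have hx2' : x * x = 1 := by rw [← sq, ← hxo, pow_orderOf_eq_one]
    have hx1' : x ≠ 1 := fun e => by rw [e, orderOf_one] at hxo; omega
    have heven := t_even M ht ht2 H hc
    have hxC' : x ∈ Cz z := mem_Cz.2 (by
      conv_lhs => rw [← hhalf]
      conv_rhs => rw [← hhalf]
      exact ((Involutions.half_comm_left hxo hto heven).eq).symm)
    have hxz' : x ≠ z := by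
      intro e
      rw [e] at hhalf
      have hzt : orderOf (z * t) = 2 := by
        refine orderOf_eq_prime ?_ fun e' => M.not_mem_of_img ht invC.P_ne ?_
        · rw [sq]
          calc z * t * (z * t) = z * (t * z) * t := by group
            _ = z * (z * t) * t := by rw [mem_Cz.1 ht.mem]
            _ = z * z * (t * t) := by group
            _ = 1 := by rw [M.zz, ht2, one_mul]
        · rw [show t = z⁻¹ from eq_inv_of_mul_eq_one_right e']
          exact inv_mem M.z_mem
      rw [DGroup.half, hzt, show 2 / 2 = 1 from rfl, pow_one, mul_eq_left] at hhalf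
      exact M.not_mem_of_img ht invC.P_ne (hhalf ▸ one_mem Q)
    obtain ⟨r, hr, he⟩ : ∃ r ∈ xList, au Q f x = r.1 := by
      suffices au Q f x ∈ xList.map Prod.fst by
        obtain ⟨r, hr, he⟩ := List.mem_map.1 this
        exact ⟨r, hr, he.symm⟩
      by_cases hQ : x ∈ Q
      · have h0 : f x ≠ 0 := fun e => ((M.f_ker x hQ).1 e).elim hx1' hxz'
        have hq : qb (f x) = false := by
          have h := M.sq_zp hQ
          rw [hx2'] at h
          exact M.zp_inj (h.symm.trans (zp_false z).symm)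
        have := List.all_eq_true.1 xList_complete_q (f x)
          (List.mem_filter.2 ⟨List.mem_finRange _, by simp [h0, hq]⟩)
        rw [au_q M hQ]
        simpa using this
      · have hA := ((conj_cases M hxC' hx2' hx1').1 hc).resolve_left hQ
        have hI : Img ρ x _ := Img.mk' hxC'
        have hπ : ρ ⟨x, hxC'⟩ ≠ 1 := fun e => hQ (M.img_one_mem (e ▸ hI))
        have hmem : (au Q f x).m ∈ aList.map Prod.fst := by
          rw [au_m M hI] at hA ⊢
          exact mat_mem_aList (M.img_O hI) hA hπ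
        have hk : cnt (au Q f x) = 4 := by
          rw [cnt_invol M H hI hx2' hπ, kOf, if_pos hA]
        have h2' : (au Q f x).mul (au Q f x) = Au.id := by
          rw [← au_mul M hxC' hxC', hx2', au_id M]
        have := List.all_eq_true.1 (List.all_eq_true.1 xList_complete_a _ hmem)
          (au Q f x).s (List.mem_finRange _)
        simp only [show (⟨(au Q f x).m, (au Q f x).s⟩ : Au) = au Q f x from rfl, h2', hk,
          beq_self_eq_true, Bool.and_self, Bool.not_true, Bool.false_or,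
          List.contains_iff_mem] at this
        exact this
    have hb := (half_iff M ht ht2 H hau hxC' hc hr he).1 hhalf
    obtain ⟨i, hi⟩ := List.get_of_mem (l := good) (a := r.1)
      (List.mem_map.2 ⟨r, List.mem_filter.2 ⟨hr, hb⟩, rfl⟩)
    rcases au_inj M (hxC i) hxC' (by rw [hxau, ← hre, hi, he]) with h | h
    · exact ⟨(i, false), Subtype.ext (by show xx i * zp z false = x; rw [h, zp_false, mul_one])⟩
    · exact ⟨(i, true), Subtype.ext (by show xx i * zp z true = x; rw [h, zp_true])⟩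
  rw [← Nat.card_congr (Equiv.ofBijective φ ⟨hinj, hsur⟩), Nat.card_prod, Nat.card_eq_fintype_card,
    Nat.card_eq_fintype_card, Fintype.card_fin, Fintype.card_bool, hlen]

omit ht ht2 in
/-- An involution over `ixC` with the named signs. -/
theorem exists_stC : ∃ t' : G, Img ρ t' (P ixC) ∧ t' * t' = 1 ∧ au Q f t' = stC := by
  obtain ⟨x0, hI, hx02⟩ := M.exists_C
  obtain ⟨hm, h2, hc⟩ := stC_spec
  have hk : kOf stC.m = 12 := by decide +kernel
  have hm0 : (au Q f x0).m = stC.m := by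
    rw [au_m M hI, hm]
    exact mat_ext fun j => by rw [← O_apply (P_mem ixC), P_apply]
  have h02 : (au Q f x0).mul (au Q f x0) = Au.id := by
    rw [← au_mul M hI.mem hI.mem, hx02, au_id M]
  have hk0 : cnt (au Q f x0) = kOf stC.m := by rw [cnt_invol M H hI hx02 invC.P_ne, hm0]
  have hc0 := List.all_eq_true.1 stC_cert (au Q f x0).s (List.mem_finRange _)
  have ha0 : (⟨stC.m, (au Q f x0).s⟩ : Au) = au Q f x0 := by rw [← hm0]
  simp only [ha0, h02, hk0, beq_self_eq_true, Bool.and_self, Bool.not_true, Bool.false_or,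
    Bool.and_eq_true, beq_iff_eq] at hc0
  set v := dual (vadd stC.s (au Q f x0).s)
  obtain ⟨⟨hfix, hsg⟩, hprod⟩ := hc0
  refine ⟨x0 * lv Q f v, M.img_mul_q hI (lv_mem M v), ?_, ?_⟩
  · have := (lv_inverted M hI v false).2 ⟨hm0 ▸ hfix, hsg⟩
    rw [zp_false, mul_one] at this
    exact (M.inverted_iff hx02).2 this
  · rw [au_mul M hI.mem (M.le (lv_mem M v)), au_q M (lv_mem M v), f_lv M, hprod]

/-- The pairs at `z`. -/
theorem pairs_z [Finite G] (hT : Nat.card (Tz z t) = 512) :
    Nat.card (DGroup.Pairs z t z) = 1529280 := by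
  classical
  obtain ⟨t', ht', ht'2, hau⟩ := exists_stC M H
  have hN := fiber_card M ht' ht'2 H hau
  have hto : orderOf t = 2 := orderOf_eq_prime (by rw [sq, ht2])
    (fun e => M.not_mem_of_img ht invC.P_ne (e ▸ one_mem Q))
  obtain ⟨c0, hc0, he0⟩ := M.class_C ht' ht'2 ht ht2
  -- the fibre over any conjugate in the centraliser
  have hfib : ∀ c ∈ Cz z, ∀ y, c * t' * c⁻¹ = y →
      Nat.card {x : G // IsConj z x ∧ DGroup.half x y = z} = 236 := by
    intro c hc y he
    rw [← hN]
    refine (Nat.card_congr ((MulAut.conj c).toEquiv.subtypeEquiv fun x => ?_)).symm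
    show _ ↔ IsConj z (c * x * c⁻¹) ∧ DGroup.half (c * x * c⁻¹) y = z
    refine and_congr ⟨fun h => h.trans (isConj_iff.2 ⟨c, rfl⟩),
      fun h => h.trans (isConj_iff.2 ⟨c, rfl⟩).symm⟩ ?_
    rw [← he, DGroup.half_conj, mul_inv_eq_iff_eq_mul, ← mem_Cz.1 hc, mul_right_inj]
  let Y := {y : G // y ∈ Cz z ∧ IsConj t y}
  have hpair : ∀ p : DGroup.Pairs z t z, p.1.2 ∈ Cz z := by
    rintro ⟨⟨x, y⟩, hx, hy, hh⟩
    have hxo := Involutions.isConj_invol hx M.ord
    have hyo := Involutions.isConj_invol hy hto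
    have heven : Even (orderOf (x * y)) := by
      by_contra hodd
      obtain ⟨k, hk⟩ := isConj_iff.1 ((hx.trans (Involutions.isConj_of_odd_prod hxo hyo
        (Nat.not_even_iff_odd.1 hodd))).trans hy.symm)
      exact M.not_conj_z ht ht2 hk
    show y ∈ Cz z
    refine mem_Cz.2 ?_
    rw [← hh]
    exact ((Involutions.half_comm_right hxo hyo heven).eq).symm
  have e : DGroup.Pairs z t z ≃ Σ y : Y, {x : G // IsConj z x ∧ DGroup.half x y.1 = z} :=
    { toFun := fun p => ⟨⟨p.1.2, hpair p, p.2.2.1⟩, ⟨p.1.1, p.2.1, p.2.2.2⟩⟩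
      invFun := fun w => ⟨(w.2.1, w.1.1), w.2.2.1, w.1.2.2, w.2.2.2⟩
      left_inv := fun p => rfl
      right_inv := fun w => rfl }
  have hY : Nat.card Y = 6480 := by
    let T' : Subgroup (Cz z) := centralizer ({⟨t, ht.mem⟩} : Set (Cz z))
    have h1 : Nat.card T' = 512 := by
      rw [← hT]
      refine Nat.card_congr
        ⟨fun a => ⟨(a.1 : G), ⟨a.1.2, Subgroup.mem_centralizer_singleton_iff.2
            (congrArg Subtype.val (Subgroup.mem_centralizer_singleton_iff.1 a.2))⟩⟩,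
          fun a => ⟨⟨a.1, a.2.1⟩, Subgroup.mem_centralizer_singleton_iff.2
            (Subtype.ext (Subgroup.mem_centralizer_singleton_iff.1 a.2.2))⟩,
          fun a => rfl, fun a => rfl⟩
    have h2 : Nat.card Y = Nat.card {x : Cz z // IsConj (⟨t, ht.mem⟩ : Cz z) x} := by
      refine Nat.card_congr
        ⟨fun y => ⟨⟨y.1, y.2.1⟩, by
            obtain ⟨c, hc, he⟩ := (class_t M ht ht2).1 y.2
            exact isConj_iff.2 ⟨⟨c, hc⟩, Subtype.ext he⟩⟩,
          fun x => ⟨(x.1 : G), x.1.2, by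
            obtain ⟨c, hc⟩ := isConj_iff.1 x.2
            exact isConj_iff.2 ⟨(c : G), congrArg Subtype.val hc⟩⟩,
          fun y => rfl, fun x => rfl⟩
    have h3 := CfsgLib.Chars.card_isConj_mul_card_centralizer (⟨t, ht.mem⟩ : Cz z)
    rw [card_cz M, ← h2, h1] at h3
    omega
  haveI : Fintype Y := Fintype.ofFinite Y
  rw [Nat.card_congr e, Nat.card_sigma]
  have hall : ∀ y : Y, Nat.card {x : G // IsConj z x ∧ DGroup.half x y.1 = z} = 236 := fun y => by
    obtain ⟨c, hc, he⟩ := (class_t M ht ht2).1 y.2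
    exact hfib (c * c0) (mul_mem hc hc0) _ (by rw [← he, ← he0]; group)
  rw [Finset.sum_congr rfl fun y _ => hall y, Finset.sum_const, Finset.card_univ,
    ← Nat.card_eq_fintype_card, hY]
  rfl

end SignModel

end CfsgLib.Small.SuzOrder
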