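import Mathlib
import Cfsg.Agent.Lib.L34Cent.Four

/-!
Generic lemmas: a four-group self-centralising modulo a central subgroup of odd order, groups of
order twelve, split central extensions.
-/

set_option autoImplicit false
set_option linter.style.haveILetI false
set_option linter.unusedSectionVars false

namespace CfsgLib.Small.SuzOrder

open Subgroup

universe u

/-! ### Centralisers and conjugation -/

section Conj

variable {G : Type u} [Group G]

theorem map_centralizer_conj (g : G) (S : Subgroup G) :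
    (centralizer (S : Set G)).map (MulAut.conj g).toMonoidHom =
      centralizer ((S.map (MulAut.conj g).toMonoidHom : Subgroup G) : Set G) := by
  ext x
  constructor
  · rintro ⟨c, hc, rfl⟩
    refine mem_centralizer_iff.2 ?_
    rintro _ ⟨s, hs, rfl⟩
    rw [← map_mul, ← map_mul, mem_centralizer_iff.1 hc s hs]
  · intro hx
    refine ⟨g⁻¹ * x * g, mem_centralizer_iff.2 fun s hs => ?_, by simp [MulAut.conj_apply, mul_assoc]⟩
    have h := mem_centralizer_iff.1 hx _ ⟨s, hs, rfl⟩
    simp only [MulEquiv.toMonoidHom_eq_coe, MonoidHom.coe_coe, MulAut.conj_apply] at h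
    calc s * (g⁻¹ * x * g) = g⁻¹ * (g * s * g⁻¹ * x) * g := by group
      _ = g⁻¹ * (x * (g * s * g⁻¹)) * g := by rw [h]
      _ = g⁻¹ * x * g * s := by group

theorem card_centralizer_conj (g x : G) :
    Nat.card (centralizer ({g * x * g⁻¹} : Set G)) = Nat.card (centralizer ({x} : Set G)) := by
  refine (Nat.card_congr ((MulAut.conj g).toEquiv.subtypeEquiv fun c => ?_)).symm
  simp only [mem_centralizer_singleton_iff, MulEquiv.toEquiv_eq_coe, MulEquiv.coe_toEquiv,
    MulAut.conj_apply]
  constructor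
  · intro h
    calc g * c * g⁻¹ * (g * x * g⁻¹) = g * (c * x) * g⁻¹ := by group
      _ = g * (x * c) * g⁻¹ := by rw [h]
      _ = g * x * g⁻¹ * (g * c * g⁻¹) := by group
  · intro h
    calc c * x = g⁻¹ * (g * c * g⁻¹ * (g * x * g⁻¹)) * g := by group
      _ = g⁻¹ * (g * x * g⁻¹ * (g * c * g⁻¹)) * g := by rw [h]
      _ = x * c := by group

theorem card_inf_centralizer_conj (g a b : G) :
    Nat.card ↥(centralizer ({g * a * g⁻¹} : Set G) ⊓ centralizer {g * b * g⁻¹}) =
      Nat.card ↥(centralizer ({a} : Set G) ⊓ centralizer {b}) := by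
  have h : ∀ c d : G, g * c * g⁻¹ * (g * d * g⁻¹) = g * d * g⁻¹ * (g * c * g⁻¹) ↔ c * d = d * c := by
    intro c d
    constructor
    · intro h
      calc c * d = g⁻¹ * (g * c * g⁻¹ * (g * d * g⁻¹)) * g := by group
        _ = g⁻¹ * (g * d * g⁻¹ * (g * c * g⁻¹)) * g := by rw [h]
        _ = d * c := by group
    · intro h
      calc g * c * g⁻¹ * (g * d * g⁻¹) = g * (c * d) * g⁻¹ := by group
        _ = g * (d * c) * g⁻¹ := by rw [h]
        _ = g * d * g⁻¹ * (g * c * g⁻¹) := by group
  refine (Nat.card_congr ((MulAut.conj g).toEquiv.subtypeEquiv fun c => ?_)).symm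
  simp only [mem_inf, mem_centralizer_singleton_iff, MulEquiv.toEquiv_eq_coe, MulEquiv.coe_toEquiv,
    MulAut.conj_apply, h]

end Conj

/-! ### A four-group self-centralising modulo a central subgroup -/

section Quot

variable {X : Type u} [Group X] [Finite X] (Z : Subgroup X) [Z.Normal]
  (hodd : Odd (Nat.card Z)) (hZ : Z ≤ center X) (V : Subgroup X) [IsKleinFour V]

include hodd in
theorem eq_one_of_sq_mem {v : X} (hv : v * v = 1) (h : v ∈ Z) : v = 1 := by
  have h3 : Odd (orderOf v) := by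
    refine hodd.of_dvd_nat ?_
    rw [← Subgroup.orderOf_mk v h]
    exact orderOf_dvd_natCard _
  have h2 : orderOf v ∣ 2 := orderOf_dvd_of_pow_eq_one (by rw [pow_two, hv])
  rcases (Nat.dvd_prime Nat.prime_two).1 h2 with e | e
  · exact orderOf_eq_one_iff.1 e
  · rw [e] at h3; exact absurd h3 (by decide)

include hodd hZ in
/-- Two involutions with the same image are equal. -/
theorem eq_of_mk_eq {a b : X} (ha : a * a = 1) (hb : b * b = 1)
    (h : (a : X ⧸ Z) = b) : a = b := by
  have hc : a⁻¹ * b ∈ Z := QuotientGroup.eq.1 h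
  have hcc : (a⁻¹ * b) * (a⁻¹ * b) = 1 := by
    have hcomm := mem_center_iff.1 (hZ hc) a
    have hai : a⁻¹ = a := inv_eq_of_mul_eq_one_right ha
    rw [hai] at hcomm ⊢
    calc a * b * (a * b) = a * b * a * b := by group
      _ = a * (a * b) * b := by rw [hcomm]
      _ = (a * a) * (b * b) := by group
      _ = 1 := by rw [ha, hb, one_mul]
  have := eq_one_of_sq_mem Z hodd hcc hc
  exact inv_mul_eq_one.1 this

include hodd hZ in
theorem mk_injOn {a b : X} (ha : a ∈ V) (hb : b ∈ V) (h : (a : X ⧸ Z) = b) : a = b :=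
  eq_of_mk_eq Z hodd hZ (CfsgLib.L34Cent.klein_sq V ha) (CfsgLib.L34Cent.klein_sq V hb) h

include hodd hZ in
theorem klein_map : IsKleinFour (V.map (QuotientGroup.mk' Z)) := by
  have hinj : Function.Injective ((QuotientGroup.mk' Z).comp V.subtype) := fun a b h =>
    Subtype.ext (mk_injOn Z hodd hZ V a.2 b.2 h)
  have hr : ((QuotientGroup.mk' Z).comp V.subtype).range = V.map (QuotientGroup.mk' Z) := by
    rw [MonoidHom.range_eq_map, ← Subgroup.map_map, ← MonoidHom.range_eq_map, Subgroup.range_subtype]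
  have e : V ≃* ↥(V.map (QuotientGroup.mk' Z)) :=
    (MonoidHom.ofInjective hinj).trans (MulEquiv.subgroupCongr hr)
  exact ⟨(Nat.card_congr e.toEquiv).symm.trans IsKleinFour.card_four,
    (Monoid.exponent_eq_of_mulEquiv e).symm.trans IsKleinFour.exponent_two⟩

variable (hC : ∀ v ∈ V, v ≠ 1 → Nat.card (centralizer ({v} : Set X)) = 4 * Nat.card Z)

include hodd hZ hC in
theorem cent_map : ∀ w ∈ V.map (QuotientGroup.mk' Z), w ≠ 1 →
    centralizer ({w} : Set (X ⧸ Z)) = V.map (QuotientGroup.mk' Z) := by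
  rintro _ ⟨v, hv, rfl⟩ hw
  have hv1 : v ≠ 1 := fun e => hw (by rw [e, map_one])
  have hv2 := CfsgLib.L34Cent.klein_sq V hv
  haveI := klein_map Z hodd hZ V
  set Cv := centralizer ({v} : Set X) with hCv
  have hVC : V ≤ Cv := fun a ha =>
    mem_centralizer_singleton_iff.2 (CfsgLib.L34Cent.klein_comm V ha hv)
  have hZC : Z ≤ Cv := fun a ha =>
    mem_centralizer_singleton_iff.2 (mem_center_iff.1 (hZ ha) v).symm
  have hle : centralizer ({QuotientGroup.mk' Z v} : Set (X ⧸ Z)) ≤ Cv.map (QuotientGroup.mk' Z) := by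
    intro x hx
    obtain ⟨g, rfl⟩ := QuotientGroup.mk'_surjective Z x
    refine ⟨g, mem_centralizer_singleton_iff.2 ?_, rfl⟩
    have hcomm := mem_centralizer_singleton_iff.1 hx
    have h := eq_of_mk_eq Z hodd hZ (a := g * v * g⁻¹) (b := v)
      (by calc g * v * g⁻¹ * (g * v * g⁻¹) = g * (v * v) * g⁻¹ := by group
            _ = 1 := by rw [hv2]; group) hv2 (by
        rw [← QuotientGroup.mk'_apply, ← QuotientGroup.mk'_apply, map_mul, map_mul, hcomm,
          map_inv, mul_inv_cancel_right])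
    exact mul_inv_eq_iff_eq_mul.1 h
  have hcard : Nat.card ↥(Cv.map (QuotientGroup.mk' Z)) = 4 := by
    have h1 := (Z.subgroupOf Cv).card_mul_index
    have h2 : ((QuotientGroup.mk' Z).comp Cv.subtype).ker = Z.subgroupOf Cv := by
      ext x; simp [Subgroup.mem_subgroupOf]
    have h3 : Nat.card ↥(Cv.map (QuotientGroup.mk' Z)) = (Z.subgroupOf Cv).index := by
      rw [← h2, Subgroup.index_ker, MonoidHom.range_eq_map, ← Subgroup.map_map,
        ← MonoidHom.range_eq_map, Subgroup.range_subtype]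
    rw [Nat.card_congr (subgroupOfEquivOfLe hZC).toEquiv, hCv, hC v hv hv1, ← hCv, ← h3,
      mul_comm 4] at h1
    exact Nat.eq_of_mul_eq_mul_left Nat.card_pos h1
  refine le_antisymm (hle.trans (eq_of_le_of_card_ge (map_mono hVC) ?_).ge) fun x hx => ?_
  · rw [hcard, CfsgLib.L34Cent.klein_card]
  · exact mem_centralizer_singleton_iff.2
      (CfsgLib.L34Cent.klein_comm _ hx (mem_map_of_mem _ hv))

include hodd hZ hC in
/-- The three possible orders. -/
theorem card_cases_quot :
    Nat.card X = 4 * Nat.card Z ∨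
    (Nat.card X = 12 * Nat.card Z ∧ (V.map (QuotientGroup.mk' Z)).Normal) ∨
    (Nat.card X = 60 * Nat.card Z ∧ IsSimpleGroup (X ⧸ Z)) := by
  haveI := klein_map Z hodd hZ V
  have h := Subgroup.card_eq_card_quotient_mul_card_subgroup Z
  rcases CfsgLib.L34Cent.card_cases _ (cent_map Z hodd hZ V hC) with e | ⟨e, f⟩ | ⟨e, f⟩
  · exact Or.inl (by rw [h, e])
  · exact Or.inr (Or.inl ⟨by rw [h, e], f⟩)
  · exact Or.inr (Or.inr ⟨by rw [h, e], f⟩)

include hodd hZ hC in
/-- Every involution is conjugate into the four-group. -/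
theorem invol_conj_mem {i : X} (hi : orderOf i = 2) : ∃ g : X, g * i * g⁻¹ ∈ V := by
  haveI := klein_map Z hodd hZ V
  have hi2 : i * i = 1 := by rw [← sq, ← hi, pow_orderOf_eq_one]
  have hi1 : i ≠ 1 := fun e => by rw [e, orderOf_one] at hi; omega
  have hord : orderOf (QuotientGroup.mk' Z i) = 2 :=
    orderOf_eq_prime (by rw [← map_pow, sq, hi2, map_one]) fun e =>
      hi1 (eq_one_of_sq_mem Z hodd hi2 ((QuotientGroup.eq_one_iff i).1 e))
  obtain ⟨w, v, hv, hvw⟩ := CfsgLib.L34Cent.conj_mem _ (cent_map Z hodd hZ V hC) hord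
  obtain ⟨g, rfl⟩ := QuotientGroup.mk'_surjective Z w
  refine ⟨g, ?_⟩
  have h := eq_of_mk_eq Z hodd hZ (a := g * i * g⁻¹) (b := v)
    (by calc g * i * g⁻¹ * (g * i * g⁻¹) = g * (i * i) * g⁻¹ := by group
          _ = 1 := by rw [hi2]; group) (CfsgLib.L34Cent.klein_sq V hv) (by
      rw [← QuotientGroup.mk'_apply, ← QuotientGroup.mk'_apply, hvw, map_mul, map_mul, map_inv])
  rw [h]; exact hv

end Quot

/-! ### Order twelve -/

theorem iso_alternating_four {K : Type u} [Group K] [Finite K] (V : Subgroup K) [IsKleinFour V]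
    [hVn : V.Normal] (h12 : Nat.card K = 12)
    (hC : ∀ v ∈ V, v ≠ 1 → centralizer ({v} : Set K) = V) :
    Nonempty (K ≃* alternatingGroup (Fin 4)) := by
  classical
  haveI : Fact (Nat.Prime 3) := ⟨Nat.prime_three⟩
  obtain ⟨x, hx⟩ := exists_prime_orderOf_dvd_card' (G := K) 3 (by rw [h12]; norm_num)
  set H := zpowers x with hH
  have hHcard : Nat.card H = 3 := by rw [hH, Nat.card_zpowers, hx]
  have hidx : H.index = 4 := by
    have := H.card_mul_index
    rw [hHcard, h12] at this
    omega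
  have hdisj : ∀ y ∈ H, y ∈ V → y = 1 := fun y hy hyV => by
    have h1 : orderOf y ∣ 3 := by
      rw [← Subgroup.orderOf_mk y hy, ← hHcard]; exact orderOf_dvd_natCard _
    have h2 : orderOf y ∣ 2 := orderOf_dvd_of_pow_eq_one (by rw [pow_two, CfsgLib.L34Cent.klein_sq V hyV])
    exact orderOf_eq_one_iff.1 (Nat.eq_one_of_dvd_coprimes (by norm_num) h1 h2)
  have hcore : H.normalCore = ⊥ := by
    by_contra hne
    have hd := card_dvd_of_le H.normalCore_le
    rw [hHcard] at hd
    rcases (Nat.dvd_prime Nat.prime_three).1 hd with e | e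
    · exact hne (eq_bot_of_card_eq _ e)
    have heq : H.normalCore = H := eq_of_le_of_card_ge H.normalCore_le (by rw [e, hHcard])
    have hHn : H.Normal := heq ▸ normalCore_normal H
    obtain ⟨a, ha, -, -, ha1, -, -⟩ := CfsgLib.L34Cent.klein_exists V
    have hca := commute_of_normal_of_disjoint H V hHn hVn
      (disjoint_def.2 fun hy hyV => hdisj _ hy hyV) x a (mem_zpowers x) ha
    have hxV : x ∈ V := CfsgLib.L34Cent.mem_of_comm V hC ha ha1 hca
    rw [hdisj x (mem_zpowers x) hxV, orderOf_one] at hx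
    omega
  set φ : K →* Equiv.Perm (K ⧸ H) := MulAction.toPermHom K (K ⧸ H) with hφ
  have hinj : Function.Injective φ := by
    rw [← MonoidHom.ker_eq_bot_iff, hφ, ← normalCore_eq_ker, hcore]
  have hcardq : Nat.card (K ⧸ H) = 4 := hidx
  let e4 : (K ⧸ H) ≃ Fin 4 := (Finite.equivFin _).trans (finCongr hcardq)
  set ψ : K →* Equiv.Perm (Fin 4) := e4.permCongrHom.toMonoidHom.comp φ with hψ
  have hψi : Function.Injective ψ := e4.permCongrHom.injective.comp hinj
  have hr : ψ.range.index = 2 := by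
    have h1 := ψ.range.card_mul_index
    rw [← Nat.card_congr (MonoidHom.ofInjective hψi).toEquiv, h12, Nat.card_perm,
      Nat.card_eq_fintype_card, Fintype.card_fin, show Nat.factorial 4 = 24 from rfl] at h1
    omega
  exact ⟨(MonoidHom.ofInjective hψi).trans
    (MulEquiv.subgroupCongr (Equiv.Perm.eq_alternatingGroup_of_index_eq_two hr))⟩

/-! ### Split central extensions -/

theorem iso_prod_quot {X : Type u} [Group X] [Finite X] (Z : Subgroup X) [Z.Normal]
    (hZ : Z ≤ center X) (hco : Nat.Coprime (Nat.card Z) Z.index) :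
    Nonempty (X ≃* ↥Z × (X ⧸ Z)) := by
  obtain ⟨Q, hQ⟩ := exists_right_complement'_of_coprime hco
  let φ : ↥Z × ↥Q →* X :=
    { toFun := fun p => (p.1 : X) * p.2
      map_one' := by simp
      map_mul' := fun p q => by
        have hc := mem_center_iff.1 (hZ q.1.2) (p.2 : X)
        simp only [Prod.fst_mul, Prod.snd_mul, Subgroup.coe_mul]
        calc (p.1 : X) * q.1 * (p.2 * q.2) = p.1 * ((q.1 : X) * p.2) * q.2 := by group
          _ = p.1 * ((p.2 : X) * q.1) * q.2 := by rw [hc]
          _ = (p.1 : X) * p.2 * (q.1 * q.2) := by group }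
  have hbij : Function.Bijective φ := hQ
  exact ⟨(MulEquiv.ofBijective φ hbij).symm.trans
    (MulEquiv.prodCongr (MulEquiv.refl _) hQ.symm.QuotientMulEquiv.symm)⟩

end CfsgLib.Small.SuzOrder
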