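import Cfsg.Agent.Lib.Small.SuzOrder.SylowSeven

/-!
The Sylow 5-subgroups: elementary abelian of order 25, two classes of subgroups of order five.
-/

set_option autoImplicit false
set_option linter.style.haveILetI false
set_option linter.unusedSectionVars false

namespace CfsgLib.Small.SuzOrder

open Subgroup
open scoped Pointwise

universe u

/-! ### A simple group of order sixty -/

theorem twelve (n c : ℕ) (h : n * c = 12) (hm : n % 5 = 1 % 5) (h1 : n ≠ 1) : c = 2 := by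
  have hle : n ≤ 12 := Nat.le_of_dvd (by norm_num) ⟨c, h.symm⟩
  interval_cases n <;> omega

theorem sixty {Y : Type u} [Group Y] [Finite Y] (h60 : Nat.card Y = 60) (hs : IsSimpleGroup Y)
    (Q : Subgroup Y) (hQ : Nat.card Q = 5) :
    Nat.card (normalizer (Q : Set Y)) = 10 ∧ Nat.card (centralizer (Q : Set Y)) = 5 := by
  haveI : Fact (Nat.Prime 5) := ⟨by norm_num⟩
  obtain ⟨P, hP⟩ := (IsPGroup.of_card (p := 5) (n := 1) (G := Q) (by rw [hQ, pow_one])).exists_le_sylow
  have hPc : Nat.card (P : Subgroup Y) = 5 := by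
    rw [P.card_eq_multiplicity, h60, show (60 : ℕ).factorization 5 = 1 from ?_, pow_one]
    rw [show (60 : ℕ) = 5 * 12 by rfl, Nat.factorization_mul (by norm_num) (by norm_num),
      Finsupp.add_apply, Nat.Prime.factorization_self (by norm_num),
      Nat.factorization_eq_zero_of_not_dvd (n := 12) (p := 5) (by norm_num)]
  obtain rfl : Q = (P : Subgroup Y) := eq_of_le_of_card_ge hP (by rw [hPc, hQ])
  have hnn : ¬ (P : Subgroup Y).Normal := fun h => by
    rcases hs.eq_bot_or_eq_top_of_normal _ h with e | e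
    · rw [e, card_bot] at hQ; omega
    · rw [e, card_top, h60] at hQ; omega
  set N := normalizer ((P : Subgroup Y) : Set Y)
  set C := centralizer ((P : Subgroup Y) : Set Y)
  have hsyl : Nat.card (Sylow 5 Y) * Nat.card N = 60 := by
    rw [P.card_eq_index_normalizer, mul_comm, show (normalizer (P : Set Y)).index = N.index from rfl,
      N.card_mul_index, h60]
  have hPN : (P : Subgroup Y) ≤ N := le_normalizer
  have hN5 : 5 ∣ Nat.card N := hQ ▸ card_dvd_of_le hPN
  have hmod := card_sylow_modEq_one 5 Y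
  rw [Nat.ModEq] at hmod
  have hn1 : Nat.card (Sylow 5 Y) ≠ 1 := fun h => by
    rw [h, one_mul] at hsyl
    refine hnn (normalizer_eq_top_iff.1 (eq_top_of_card_eq _ ?_))
    rw [hsyl, h60]
  have hN : Nat.card N = 10 := by
    obtain ⟨c, hc⟩ := hN5
    rw [hc] at hsyl ⊢
    have h12 : Nat.card (Sylow 5 Y) * c = 12 := by linarith
    rw [twelve _ _ h12 hmod hn1]
  refine ⟨hN, ?_⟩
  have hcomm : ∀ a b : (P : Subgroup Y), a * b = b * a := by
    haveI := isCyclic_of_prime_card (p := 5) hQ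
    exact fun a b => (IsCyclic.commGroup (α := (P : Subgroup Y))).mul_comm a b
  have hPC : (P : Subgroup Y) ≤ C := fun a ha => mem_centralizer_iff.2 fun b hb =>
    congrArg Subtype.val (hcomm ⟨b, hb⟩ ⟨a, ha⟩)
  have h5 : 5 ∣ Nat.card C := hQ ▸ card_dvd_of_le hPC
  have h10 : Nat.card C ∣ 10 := hN ▸ card_dvd_of_le (centralizer_le_normalizer _)
  by_contra hne
  have hC : Nat.card C = 10 := by
    have := Nat.le_of_dvd (by norm_num) h10
    have hpos : 0 < Nat.card C := Nat.card_pos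
    obtain ⟨c, hc⟩ := h5
    omega
  have hle : N ≤ C := (eq_of_le_of_card_ge (centralizer_le_normalizer _) (by rw [hN, hC])).ge
  have hK := MonoidHom.ker_transferSylow_isComplement' P hle
  have hcm := hK.card_mul_card
  rw [hQ, h60] at hcm
  rcases hs.eq_bot_or_eq_top_of_normal _ (MonoidHom.normal_ker (MonoidHom.transferSylow P hle)) with e | e
  · rw [e, card_bot] at hcm; omega
  · rw [e, card_top, h60] at hcm; omega

/-! ### Actions on an elementary abelian group of order 25 -/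

/-- An element of order three acting on a cyclic group of order five centralises it. -/
theorem comm_of_cube {G : Type u} [Group G] {r a : G} (hr : r ^ 3 = 1) (ha : a ^ 5 = 1)
    (h : r * a * r⁻¹ ∈ zpowers a) : r * a * r⁻¹ = a := by
  by_cases ha1 : a = 1
  · rw [ha1]; group
  have ho : orderOf a = 5 := by
    haveI : Fact (Nat.Prime 5) := ⟨by norm_num⟩
    exact orderOf_eq_prime ha ha1
  have hfo : IsOfFinOrder a := isOfFinOrder_iff_pow_eq_one.2 ⟨5, by norm_num, ha⟩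
  obtain ⟨i, hi⟩ := hfo.mem_powers_iff_mem_zpowers.2 h
  dsimp only at hi
  have hstep : ∀ j : ℕ, r * a ^ j * r⁻¹ = a ^ (i * j) := fun j => by
    rw [← conj_pow, ← hi, ← pow_mul]
  have h3 : a ^ (i * (i * i)) = a := by
    have e : r ^ 3 * a * (r ^ 3)⁻¹ = a := by rw [hr]; group
    rw [show r ^ 3 * a * (r ^ 3)⁻¹ = r * (r * (r * a * r⁻¹) * r⁻¹) * r⁻¹ by
        rw [show r ^ 3 = r * r * r by rw [pow_succ, pow_two]]; group, ← hi, hstep, hstep] at e
    exact e
  have hm : i * (i * i) ≡ 1 [MOD 5] := by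
    rw [← ho, ← pow_eq_pow_iff_modEq, pow_one, h3]
  have key : ∀ x : ZMod 5, x * (x * x) = 1 → x = 1 := by decide
  have h1 : ((i : ZMod 5)) = ((1 : ℕ) : ZMod 5) := by
    rw [Nat.cast_one]
    apply key
    have := (ZMod.natCast_eq_natCast_iff _ _ _).2 hm
    push_cast at this
    exact this
  rw [← hi]
  conv_rhs => rw [← pow_one a]
  rw [pow_eq_pow_iff_modEq, ho]
  exact (ZMod.natCast_eq_natCast_iff _ _ _).1 h1

/-- `g` acts as a power map as soon as it fixes three lines. -/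
theorem scalar_of_three {G : Type u} [Group G] {P : Subgroup G}
    (hc : ∀ a ∈ P, ∀ b ∈ P, a * b = b * a) (h5 : ∀ a ∈ P, a ^ 5 = 1) {g : G} {a b : G}
    (ha : a ∈ P) (hb : b ∈ P) (hspan : ∀ x ∈ P, ∃ i j : ℕ, x = a ^ i * b ^ j)
    (hind : ∀ i j : ℕ, a ^ i * b ^ j = 1 → 5 ∣ i ∧ 5 ∣ j)
    {m n : ℕ} (hm : ¬ 5 ∣ m) (hn : ¬ 5 ∣ n)
    (hga : g * a * g⁻¹ ∈ zpowers a) (hgb : g * b * g⁻¹ ∈ zpowers b)
    (hgc : g * (a ^ m * b ^ n) * g⁻¹ ∈ zpowers (a ^ m * b ^ n)) :
    ∃ i : ℕ, ∀ x ∈ P, g * x * g⁻¹ = x ^ i := by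
  have fo : ∀ x ∈ P, IsOfFinOrder x := fun x hx =>
    isOfFinOrder_iff_pow_eq_one.2 ⟨5, by norm_num, h5 x hx⟩
  have hcP : a ^ m * b ^ n ∈ P := mul_mem (pow_mem ha _) (pow_mem hb _)
  obtain ⟨i, hi⟩ := (fo a ha).mem_powers_iff_mem_zpowers.2 hga
  obtain ⟨j, hj⟩ := (fo b hb).mem_powers_iff_mem_zpowers.2 hgb
  obtain ⟨k, hk⟩ := (fo _ hcP).mem_powers_iff_mem_zpowers.2 hgc
  dsimp only at hi hj hk
  have hconj : ∀ p q : ℕ, g * (a ^ p * b ^ q) * g⁻¹ = a ^ (i * p) * b ^ (j * q) := fun p q => by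
    rw [show g * (a ^ p * b ^ q) * g⁻¹ = (g * a ^ p * g⁻¹) * (g * b ^ q * g⁻¹) by group,
      ← conj_pow, ← conj_pow, ← hi, ← hj, ← pow_mul, ← pow_mul]
  have hab : Commute a b := hc a ha b hb
  have e1 : a ^ (i * m) * b ^ (j * n) = a ^ (m * k) * b ^ (n * k) := by
    rw [← hconj, ← hk, (hab.pow_pow m n).mul_pow, ← pow_mul, ← pow_mul]
  have e2 : ∀ p q p' q' : ℕ, a ^ p * b ^ q = a ^ p' * b ^ q' →
      (p : ZMod 5) = p' ∧ (q : ZMod 5) = q' := by
    intro p q p' q' h
    have h' : a ^ (p + 4 * p') * b ^ (q + 4 * q') = 1 := by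
      rw [pow_add, pow_add,
        show a ^ p * a ^ (4 * p') * (b ^ q * b ^ (4 * q')) =
          a ^ p * (a ^ (4 * p') * b ^ q) * b ^ (4 * q') by group,
        (hab.pow_pow (4 * p') q).eq, ← mul_assoc, h,
        show a ^ p' * b ^ q' * a ^ (4 * p') * b ^ (4 * q') =
          a ^ p' * (b ^ q' * a ^ (4 * p')) * b ^ (4 * q') by group,
        ← (hab.pow_pow (4 * p') q').eq, ← mul_assoc, ← pow_add, mul_assoc, ← pow_add,
        show p' + 4 * p' = 5 * p' by ring, show q' + 4 * q' = 5 * q' by ring, pow_mul, pow_mul,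
        h5 a ha, h5 b hb, one_pow, one_pow, one_mul]
    obtain ⟨h1, h2⟩ := hind _ _ h'
    rw [← ZMod.natCast_eq_zero_iff] at h1 h2
    push_cast at h1 h2
    have key : ∀ x y : ZMod 5, x + 4 * y = 0 → x = y := by decide
    exact ⟨key _ _ h1, key _ _ h2⟩
  obtain ⟨em, en⟩ := e2 _ _ _ _ e1
  push_cast at em en
  have hm' : (m : ZMod 5) ≠ 0 := fun h => hm ((ZMod.natCast_eq_zero_iff _ _).1 h)
  have hn' : (n : ZMod 5) ≠ 0 := fun h => hn ((ZMod.natCast_eq_zero_iff _ _).1 h)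
  haveI : Fact (Nat.Prime 5) := ⟨by norm_num⟩
  have hik : i ≡ k [MOD 5] := (ZMod.natCast_eq_natCast_iff _ _ _).1
    (mul_right_cancel₀ hm' (by rw [em, mul_comm]))
  have hjk : j ≡ k [MOD 5] := (ZMod.natCast_eq_natCast_iff _ _ _).1
    (mul_right_cancel₀ hn' (by rw [en, mul_comm]))
  refine ⟨k, fun x hx => ?_⟩
  obtain ⟨p, q, rfl⟩ := hspan x hx
  rw [hconj, (hab.pow_pow p q).mul_pow, ← pow_mul, ← pow_mul]
  have hpm : ∀ (y : G), y ∈ P → ∀ r s : ℕ, r ≡ s [MOD 5] → y ^ r = y ^ s := fun y hy r s h =>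
    pow_eq_pow_iff_modEq.2 (h.of_dvd (orderOf_dvd_of_pow_eq_one (h5 y hy)))
  rw [hpm a ha (i * p) (p * k) (by rw [mul_comm p k]; exact hik.mul_right p),
    hpm b hb (j * q) (q * k) (by rw [mul_comm q k]; exact hjk.mul_right q)]

/-- An element of order three fixing a line of `P` centralises `P`. -/
theorem comm_of_fix_line {G : Type u} [Group G] [Finite G] {P : Subgroup G}
    (hcard : Nat.card P = 25) (hc : ∀ a ∈ P, ∀ b ∈ P, a * b = b * a) (h5 : ∀ a ∈ P, a ^ 5 = 1)
    {r a : G} (hr : r ^ 3 = 1) (hrP : ∀ x ∈ P, r * x * r⁻¹ ∈ P) (ha : a ∈ P) (ha1 : a ≠ 1)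
    (hfix : r * a * r⁻¹ ∈ zpowers a) : ∀ x ∈ P, r * x * r⁻¹ = x := by
  classical
  haveI : Fact (Nat.Prime 5) := ⟨by norm_num⟩
  have hra := comm_of_cube hr (h5 a ha) hfix
  let δ : P →* P :=
    { toFun := fun x => ⟨r * x * r⁻¹ * (x : G)⁻¹, mul_mem (hrP x x.2) (inv_mem x.2)⟩
      map_one' := Subtype.ext (by simp)
      map_mul' := fun x y => Subtype.ext (by
        simp only [Subgroup.coe_mul, mul_inv_rev]
        rw [hc _ (inv_mem y.2) _ (inv_mem x.2),
          show r * ((x : G) * y) * r⁻¹ * ((x : G)⁻¹ * (y : G)⁻¹) =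
            (r * x * r⁻¹) * ((r * y * r⁻¹) * (x : G)⁻¹) * (y : G)⁻¹ by group,
          hc _ (hrP y y.2) _ (inv_mem x.2)]
        group) }
  have hδa : δ ⟨a, ha⟩ = 1 := Subtype.ext (by
    show r * a * r⁻¹ * a⁻¹ = 1
    rw [hra, mul_inv_cancel])
  have hrange : Nat.card δ.range ∣ 5 := by
    have h1 := δ.ker.card_mul_index
    rw [index_ker, hcard] at h1
    have h2 : orderOf (⟨a, ha⟩ : P) ∣ Nat.card δ.ker := by
      rw [← Subgroup.orderOf_mk (⟨a, ha⟩ : P) (MonoidHom.mem_ker.2 hδa)]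
      exact orderOf_dvd_natCard _
    rw [Subgroup.orderOf_mk, orderOf_eq_prime (h5 a ha) ha1] at h2
    obtain ⟨c, hc⟩ := h2
    exact Dvd.intro_left c (by rw [hc, mul_assoc] at h1; omega)
  intro x hx
  set y : G := r * x * r⁻¹ * x⁻¹ with hy
  have hyP : y ∈ P := mul_mem (hrP x hx) (inv_mem hx)
  have hyy : r * y * r⁻¹ ∈ zpowers y := by
    have hmem : (⟨r * y * r⁻¹, hrP y hyP⟩ : P) ∈ δ.range :=
      ⟨⟨r * x * r⁻¹, hrP x hx⟩, Subtype.ext (by
        show r * (r * x * r⁻¹) * r⁻¹ * (r * x * r⁻¹)⁻¹ = r * y * r⁻¹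
        rw [hy]; group)⟩
    by_cases hy1 : y = 1
    · rw [hy1, mul_one, mul_inv_cancel]; exact one_mem _
    have hy' : (⟨y, hyP⟩ : P) ∈ δ.range := ⟨⟨x, hx⟩, rfl⟩
    have hz : zpowers (⟨y, hyP⟩ : P) = δ.range := by
      refine eq_of_le_of_card_ge (zpowers_le.2 hy') ?_
      rw [Nat.card_zpowers, Subgroup.orderOf_mk, orderOf_eq_prime (h5 y hyP) hy1]
      exact Nat.le_of_dvd (by norm_num) hrange
    rw [← hz] at hmem
    obtain ⟨k, hk⟩ := mem_zpowers_iff.1 hmem
    exact mem_zpowers_iff.2 ⟨k, by simpa using congrArg Subtype.val hk⟩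
  have hry := comm_of_cube hr (h5 y hyP) hyy
  have e1 : r * x * r⁻¹ = y * x := by rw [hy]; group
  have e3 : r ^ 3 * x * (r ^ 3)⁻¹ = y ^ 3 * x := by
    have hc1 : ∀ w : G, r * (y * w) * r⁻¹ = y * (r * w * r⁻¹) := fun w => by
      rw [show r * (y * w) * r⁻¹ = (r * y * r⁻¹) * (r * w * r⁻¹) by group, hry]
    rw [show r ^ 3 * x * (r ^ 3)⁻¹ = r * (r * (r * x * r⁻¹) * r⁻¹) * r⁻¹ by
        rw [show r ^ 3 = r * r * r by rw [pow_succ, pow_two]]; group, e1, hc1, e1,
      hc1, hc1, e1, show y ^ 3 = y * y * y by rw [pow_succ, pow_two]]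
    group
  rw [hr, inv_one, mul_one, one_mul, eq_comm, mul_eq_right] at e3
  have hy1 : y = 1 := orderOf_eq_one_iff.1 (Nat.eq_one_of_dvd_coprimes (by norm_num)
    (orderOf_dvd_of_pow_eq_one e3) (orderOf_dvd_of_pow_eq_one (h5 y hyP)))
  rw [e1, hy1, one_mul]

/-! ### Lines and their permutations -/

variable {G : Type u} [Group G]

/-- The subgroups of order five of `P`. -/
abbrev Line (P : Subgroup G) : Type u := {L : Subgroup G // L ≤ P ∧ Nat.card L = 5}

instance lineAction (P : Subgroup G) : MulAction ↥(normalizer (P : Set G)) (Line P) where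
  smul g L := ⟨L.1.map (MulAut.conj (g : G)).toMonoidHom, by
    refine ⟨?_, ?_⟩
    · rintro _ ⟨x, hx, rfl⟩
      exact (mem_normalizer_iff.1 g.2 x).1 (L.2.1 hx)
    · exact (Nat.card_congr (L.1.equivMapOfInjective _ (MulAut.conj (g : G)).injective).toEquiv).symm.trans L.2.2⟩
  one_smul L := Subtype.ext (by
    show L.1.map (MulAut.conj ((1 : ↥(normalizer (P : Set G))) : G)).toMonoidHom = L.1
    ext x; simp)
  mul_smul g h L := Subtype.ext (by
    show L.1.map (MulAut.conj ((g * h : ↥(normalizer (P : Set G))) : G)).toMonoidHom =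
      (L.1.map (MulAut.conj (h : G)).toMonoidHom).map (MulAut.conj (g : G)).toMonoidHom
    rw [Subgroup.map_map]
    congr 1
    ext x; simp [mul_assoc])

theorem smul_line_val {P : Subgroup G} (g : ↥(normalizer (P : Set G))) (L : Line P) :
    (g • L).1 = L.1.map (MulAut.conj (g : G)).toMonoidHom := rfl

theorem conj_mem_of_fix {P : Subgroup G} {g : ↥(normalizer (P : Set G))} {L : Line P}
    (h : g • L = L) {x : G} (hx : x ∈ L.1) : (g : G) * x * (g : G)⁻¹ ∈ L.1 := by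
  have h' := congrArg Subtype.val h
  rw [smul_line_val] at h'
  exact (SetLike.ext_iff.1 h' _).1 ⟨x, hx, rfl⟩

theorem line_eq [Finite G] {P : Subgroup G} (L : Line P) {x : G} (hx : x ∈ L.1) (hx1 : x ≠ 1) :
    zpowers x = L.1 := by
  haveI : Fact (Nat.Prime 5) := ⟨by norm_num⟩
  refine eq_of_le_of_card_ge (zpowers_le.2 hx) ?_
  have h : orderOf x ∣ 5 := by
    rw [← L.2.2, ← Subgroup.orderOf_mk x hx]; exact orderOf_dvd_natCard _
  rcases (Nat.dvd_prime (by norm_num)).1 h with e | e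
  · exact absurd (orderOf_eq_one_iff.1 e) hx1
  · rw [L.2.2, Nat.card_zpowers, e]

theorem card_lines [Finite G] {P : Subgroup G} (hcard : Nat.card P = 25)
    (h5 : ∀ a ∈ P, a ^ 5 = 1) : Nat.card (Line P) = 6 := by
  classical
  haveI : Fact (Nat.Prime 5) := ⟨by norm_num⟩
  haveI := Fintype.ofFinite (Line P)
  let φ : {x : P // x ≠ 1} → Line P := fun x => ⟨zpowers (x.1 : G), zpowers_le.2 x.1.2, by
    rw [Nat.card_zpowers, orderOf_eq_prime (h5 _ x.1.2) (fun e => x.2 (Subtype.ext e))]⟩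
  have hfib : ∀ L : Line P, Nat.card {x // φ x = L} = 4 := by
    intro L
    have e : {x // φ x = L} ≃ {l : L.1 // l ≠ 1} :=
      { toFun := fun x => ⟨⟨x.1.1, by
            have h := congrArg Subtype.val x.2
            exact h ▸ mem_zpowers _⟩, fun h => x.1.2 (Subtype.ext (congrArg (fun y : L.1 => (y : G)) h))⟩
        invFun := fun l => ⟨⟨⟨l.1.1, L.2.1 l.1.2⟩, fun h => l.2 (Subtype.ext (congrArg (fun y : P => (y : G)) h))⟩,
          Subtype.ext (line_eq L l.1.2 fun h => l.2 (Subtype.ext h))⟩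
        left_inv := fun x => rfl
        right_inv := fun l => rfl }
    rw [Nat.card_congr e]
    haveI := Fintype.ofFinite L.1
    rw [Nat.card_eq_fintype_card, Fintype.card_subtype_compl, Fintype.card_subtype_eq,
      ← Nat.card_eq_fintype_card, L.2.2]
  have h := Nat.card_congr (Equiv.sigmaFiberEquiv φ)
  rw [Nat.card_sigma, Finset.sum_congr rfl fun L _ => hfib L, Finset.sum_const, smul_eq_mul,
    Finset.card_univ, ← Nat.card_eq_fintype_card] at h
  haveI := Fintype.ofFinite P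
  have h24 : Nat.card {x : P // x ≠ 1} = 24 := by
    rw [Nat.card_eq_fintype_card, Fintype.card_subtype_compl, Fintype.card_subtype_eq,
      ← Nat.card_eq_fintype_card, hcard]
  omega

end CfsgLib.Small.SuzOrder
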