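import Cfsg.Agent.Lib.Small.SuzOrder.Interface
import Cfsg.Agent.Lib.Small.SuzOrder.SylowBasic

/-!
The order of the group and the normaliser of a Sylow 7-subgroup.
-/

set_option autoImplicit false
set_option linter.style.haveILetI false
set_option linter.unusedSectionVars false

namespace CfsgLib.Small.SuzOrder

open Subgroup

universe u

variable {G : Type u} [Group G] {z t : G}

theorem card_eq [Finite G] (L : Loc z t) (S : Second z t) : Nat.card G = 448345497600 := by
  rw [DGroup.thompson_formula L.ord_z L.ord_t L.not_conj L.two, S.card_H, L.pairs_z, L.card_cz,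
    S.pairs_t]

namespace Second

variable (S : Second z t)

include S

theorem klein [Finite G] : IsKleinFour S.V := by
  haveI : Nontrivial S.V := Finite.one_lt_card_iff_nontrivial.1 (by rw [S.card_V]; norm_num)
  refine ⟨S.card_V, ?_⟩
  rcases (Nat.dvd_prime Nat.prime_two).1 ((Monoid.exponent_dvd_iff_forall_pow_eq_one).2
    (fun v : S.V => Subtype.ext (by
      rw [Subgroup.coe_pow, sq, S.V_sq v v.2, Subgroup.coe_one]))) with h | h
  · rw [Monoid.exp_eq_one_iff] at h
    exact absurd h (not_subsingleton S.V)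
  · exact h

theorem M_le : S.M ≤ centralizer ({t} : Set G) := fun g hg =>
  mem_centralizer_singleton_iff.2 ((S.M_eq g).1 hg t S.t_mem)

theorem relIndex_M [Finite G] : S.M.relIndex (centralizer ({t} : Set G)) = 2 := by
  have h := (S.M.subgroupOf (centralizer ({t} : Set G))).card_mul_index
  rw [Nat.card_congr (subgroupOfEquivOfLe S.M_le).toEquiv, S.card_M, S.card_H] at h
  rw [relIndex]
  omega

/-- Elements of odd order of the centraliser of `t` centralise `V`. -/
theorem mem_M [Finite G] {x : G} (hx : x ∈ centralizer ({t} : Set G)) (hodd : Odd (orderOf x)) :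
    x ∈ S.M := by
  obtain ⟨k, hk⟩ := hodd
  have h := Subgroup.mul_self_mem_of_index_two S.relIndex_M
    (⟨x ^ (k + 1), pow_mem hx _⟩ : centralizer ({t} : Set G))
  rw [mem_subgroupOf, Subgroup.coe_mul] at h
  change x ^ (k + 1) * x ^ (k + 1) ∈ S.M at h
  rwa [← pow_add, show k + 1 + (k + 1) = (2 * k + 1) + 1 by ring, pow_succ, ← hk,
    pow_orderOf_eq_one, one_mul] at h

/-- The centraliser in `C(x)` of an involution of `V`. -/
theorem card_inf_cent [Finite G] {x v : G} (hx : x ∈ S.M) (hp : orderOf x = 5 ∨ orderOf x = 7)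
    (hv : v ∈ S.V) (hv1 : v ≠ 1) :
    Nat.card ↥(centralizer ({x} : Set G) ⊓ centralizer {v}) = 4 * orderOf x := by
  classical
  haveI := S.klein
  have hle : zpowers x ⊔ S.V ≤ centralizer ({x} : Set G) ⊓ centralizer {v} := by
    refine sup_le (zpowers_le.2 ⟨mem_centralizer_singleton_iff.2 rfl,
      mem_centralizer_singleton_iff.2 ((S.M_eq x).1 hx v hv)⟩) fun w hw => ?_
    exact ⟨mem_centralizer_singleton_iff.2 ((S.M_eq x).1 hx w hw).symm,
      mem_centralizer_singleton_iff.2 (CfsgLib.L34Cent.klein_comm S.V hw hv)⟩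
  have hge : centralizer ({x} : Set G) ⊓ centralizer {v} ≤ zpowers x ⊔ S.V := by
    intro g hg
    have h1 := mem_centralizer_singleton_iff.1 hg.1
    have h2 := mem_centralizer_singleton_iff.1 hg.2
    obtain ⟨k, w, hw, rfl⟩ : ∃ k : ℕ, ∃ w ∈ S.V, g = x ^ k * w := by
      rcases hp with h | h
      · exact S.cent_five x h v hv hv1 hx g h1 h2
      · exact S.cent_seven x h v hv hv1 hx g h1 h2
    exact mul_mem (mem_sup_left (pow_mem (mem_zpowers x) k)) (mem_sup_right hw)
  rw [le_antisymm hge hle]
  let φ : zpowers x × S.V →* G :=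
    MonoidHom.noncommCoprod (zpowers x).subtype S.V.subtype (by
      rintro ⟨a, ha⟩ ⟨w, hw⟩
      exact (S.M_eq a).1 ((zpowers_le.2 hx) ha) w hw)
  have hinj : Function.Injective φ := by
    rw [injective_iff_map_eq_one]
    rintro ⟨⟨a, ha⟩, ⟨w, hw⟩⟩ h
    change a * w = 1 at h
    have hw1 : w = 1 := by
      have hd1 : orderOf w ∣ orderOf x := by
        rw [show w = a⁻¹ from (eq_inv_of_mul_eq_one_right h), orderOf_inv, ← Nat.card_zpowers x,
          ← Subgroup.orderOf_mk a ha]
        exact orderOf_dvd_natCard _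
      have hd2 : orderOf w ∣ 2 := orderOf_dvd_of_pow_eq_one (by rw [sq, S.V_sq w hw])
      refine orderOf_eq_one_iff.1 (Nat.eq_one_of_dvd_coprimes ?_ hd1 hd2)
      rcases hp with h | h <;> rw [h] <;> norm_num
    rw [hw1, mul_one] at h
    exact Prod.ext (Subtype.ext h) (Subtype.ext hw1)
  have hr : φ.range = zpowers x ⊔ S.V := by
    rw [MonoidHom.noncommCoprod_range, range_subtype, range_subtype]
  rw [← hr, ← Nat.card_congr (MonoidHom.ofInjective hinj).toEquiv, Nat.card_prod,
    Nat.card_zpowers, S.card_V, mul_comm]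

/-- The hypotheses of `SylowBasic` for the centraliser of an element of order five or seven. -/
theorem cent_setup [Finite G] {x : G} (hx : x ∈ S.M) (hp : orderOf x = 5 ∨ orderOf x = 7) :
    let X := centralizer ((zpowers x : Subgroup G) : Set G)
    let Z := (zpowers x).subgroupOf X
    let V := S.V.subgroupOf X
    Z.Normal ∧ Odd (Nat.card Z) ∧ Z ≤ center X ∧ IsKleinFour V ∧ Nat.card Z = orderOf x ∧
      ∀ v ∈ V, v ≠ 1 → Nat.card (centralizer ({v} : Set X)) = 4 * Nat.card Z := by
  intro X Z V
  haveI := S.klein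
  have hXx : X = centralizer ({x} : Set G) := by
    show centralizer ((zpowers x : Subgroup G) : Set G) = _
    rw [zpowers_eq_closure, centralizer_closure]
  have hxX : zpowers x ≤ X := zpowers_le.2 (hXx ▸ mem_centralizer_singleton_iff.2 rfl)
  have hVX : S.V ≤ X := fun w hw =>
    hXx ▸ mem_centralizer_singleton_iff.2 ((S.M_eq x).1 hx w hw).symm
  have hZ : Z ≤ center X := fun a ha => mem_center_iff.2 fun b =>
    Subtype.ext (mem_centralizer_iff.1 b.2 a.1 ha).symm
  have hcZ : Nat.card Z = orderOf x := by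
    rw [Nat.card_congr (subgroupOfEquivOfLe hxX).toEquiv, Nat.card_zpowers]
  refine ⟨⟨fun a ha g => ?_⟩, ?_, hZ, ?_, hcZ, ?_⟩
  · rwa [mem_center_iff.1 (hZ ha) g, mul_inv_cancel_right]
  · rw [hcZ]; rcases hp with h | h <;> rw [h] <;> decide
  · let e := subgroupOfEquivOfLe hVX
    exact ⟨(Nat.card_congr e.toEquiv).trans IsKleinFour.card_four,
      (Monoid.exponent_eq_of_mulEquiv e).trans IsKleinFour.exponent_two⟩
  · intro v hv hv1
    have hv' : (v : G) ≠ 1 := fun e => hv1 (Subtype.ext e)
    have h := S.card_inf_cent hx hp (show (v : G) ∈ S.V from hv) hv'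
    rw [hcZ, ← h]
    refine Nat.card_congr
      { toFun := fun c => ⟨c.1.1, ⟨(SetLike.ext_iff.1 hXx _).1 c.1.2,
            mem_centralizer_singleton_iff.2
              (congrArg Subtype.val (mem_centralizer_singleton_iff.1 c.2))⟩⟩
        invFun := fun c => ⟨⟨c.1, (SetLike.ext_iff.1 hXx _).2 c.2.1⟩, mem_centralizer_singleton_iff.2
              (Subtype.ext (mem_centralizer_singleton_iff.1 c.2.2))⟩
        left_inv := fun c => rfl
        right_inv := fun c => rfl }

end Second

/-- Transport of the conclusion along conjugation. -/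
theorem conj_normalizer_card (g : G) (B : Subgroup G) :
    Nat.card ↥(normalizer ((B.map (MulAut.conj g).toMonoidHom : Subgroup G) : Set G)) =
      Nat.card ↥(normalizer (B : Set G)) := by
  rw [← Subgroup.map_equiv_normalizer_eq B (MulAut.conj g)]
  exact Nat.card_congr ((normalizer (B : Set G)).equivMapOfInjective _
    (MulAut.conj g).injective).toEquiv.symm

theorem card_sylow_seven [Finite G] (hG : Nat.card G = 448345497600) (B : Sylow 7 G) :
    Nat.card (B : Subgroup G) = 7 := by
  haveI : Fact (Nat.Prime 7) := ⟨by norm_num⟩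
  obtain ⟨k, hk⟩ := IsPGroup.iff_card.1 B.2
  have h1 : (7 : ℕ) ∣ Nat.card (B : Subgroup G) := by
    rw [B.card_eq_multiplicity]
    exact dvd_pow_self 7 (Nat.Prime.factorization_pos_of_dvd (by norm_num) Nat.card_pos.ne'
      (by rw [hG]; norm_num)).ne'
  have h2 : 7 ^ k ∣ 448345497600 := hG ▸ hk ▸ (B : Subgroup G).card_subgroup_dvd_card
  rcases k with _ | _ | k
  · rw [hk, pow_zero] at h1; exact absurd h1 (by norm_num)
  · rw [hk, zero_add, pow_one]
  · exfalso
    have : 7 ^ 2 ∣ 448345497600 := (pow_dvd_pow 7 (by omega)).trans h2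
    norm_num at this

/-- Centraliser and normaliser of a Sylow 7-subgroup. -/
theorem sylow_seven [Finite G] (L : Loc z t) (S : Second z t) (B : Sylow 7 G) :
    Nonempty (↥(centralizer ((B : Subgroup G) : Set G)) ≃*
        Multiplicative (ZMod 7) × alternatingGroup (Fin 4)) ∧
      Nat.card ↥(normalizer ((B : Subgroup G) : Set G)) = 504 := by
  haveI : Fact (Nat.Prime 7) := ⟨by norm_num⟩
  have hG := card_eq L S
  obtain ⟨x, hx, hxM⟩ := S.seven
  obtain ⟨B₀, hB₀⟩ := (IsPGroup.of_card (p := 7) (n := 1) (G := zpowers x)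
    (by rw [Nat.card_zpowers, hx, pow_one])).exists_le_sylow
  have hB₀eq : (B₀ : Subgroup G) = zpowers x :=
    (eq_of_le_of_card_ge hB₀ (by rw [card_sylow_seven hG, Nat.card_zpowers, hx])).symm
  obtain ⟨g, hg⟩ := MulAction.exists_smul_eq G B₀ B
  have hB : (B : Subgroup G) = (zpowers x).map (MulAut.conj g).toMonoidHom := by
    rw [← hg, Sylow.coe_subgroup_smul, hB₀eq]; rfl
  obtain ⟨hZn, hodd, hZ, hK, hcZ, hC⟩ := S.cent_setup hxM (Or.inr hx)
  set X := centralizer ((zpowers x : Subgroup G) : Set G) with hX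
  set Z := (zpowers x).subgroupOf X
  set V := S.V.subgroupOf X
  -- Sylow's congruence
  set N := normalizer ((zpowers x : Subgroup G) : Set G) with hN
  have hXN : X ≤ N := centralizer_le_normalizer _
  haveI : IsCyclic (zpowers x) := isCyclic_zpowers x
  have hd : X.relIndex N ∣ 6 := by
    have hker : (normalizerMonoidHom (zpowers x)).ker = X.subgroupOf N := normalizerMonoidHom_ker _
    rw [relIndex, ← hker, index_ker]
    refine (card_subgroup_dvd_card _).trans ?_
    rw [IsCyclic.card_mulAut, Nat.card_zpowers, hx, Nat.totient_prime (by norm_num)]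
  have hNX : Nat.card N = Nat.card X * X.relIndex N := by
    have h := (X.subgroupOf N).card_mul_index
    rw [Nat.card_congr (subgroupOfEquivOfLe hXN).toEquiv] at h
    exact h.symm
  have hsyl : Nat.card (Sylow 7 G) * Nat.card N = 448345497600 := by
    have he : (normalizer ((B₀ : Subgroup G) : Set G)).index = N.index := by rw [hB₀eq]
    rw [B₀.card_eq_index_normalizer, show (normalizer (B₀ : Set G)).index = N.index from he,
      mul_comm, N.card_mul_index, hG]
  have hmod := card_sylow_modEq_one 7 G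
  set n7 := Nat.card (Sylow 7 G)
  rw [Nat.ModEq] at hmod
  have hmain : Nat.card X = 84 ∧ (V.map (QuotientGroup.mk' Z)).Normal ∧ Nat.card N = 504 := by
    obtain ⟨d, hd', hd6⟩ : ∃ d, X.relIndex N = d ∧ (d = 1 ∨ d = 2 ∨ d = 3 ∨ d = 6) := by
      refine ⟨_, rfl, ?_⟩
      have hle := Nat.le_of_dvd (by norm_num) hd
      obtain ⟨c, hc⟩ := hd
      interval_cases h : X.relIndex N <;> omega
    rcases card_cases_quot Z hodd hZ V hC with e | ⟨e, f⟩ | ⟨e, -⟩ <;> rw [hcZ, hx] at e
    · exfalso
      rw [e, hd'] at hNX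
      rw [hNX] at hsyl
      rcases hd6 with rfl | rfl | rfl | rfl <;> omega
    · rw [e, hd'] at hNX
      rw [hNX] at hsyl
      refine ⟨e, f, ?_⟩
      rcases hd6 with rfl | rfl | rfl | rfl <;> omega
    · exfalso
      rw [e, hd'] at hNX
      rw [hNX] at hsyl
      rcases hd6 with rfl | rfl | rfl | rfl <;> omega
  obtain ⟨hcX, hVn, hcN⟩ := hmain
  refine ⟨?_, ?_⟩
  · haveI := klein_map Z hodd hZ V
    have hidx : Z.index = 12 := by
      have h := Z.card_mul_index
      rw [hcZ, hx, hcX] at h
      omega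
    haveI := hVn
    obtain ⟨a⟩ := iso_alternating_four (V.map (QuotientGroup.mk' Z)) hidx (cent_map Z hodd hZ V hC)
    obtain ⟨b⟩ := iso_prod_quot Z hZ (by rw [hcZ, hx, hidx]; norm_num)
    haveI : Fact (Nat.Prime 7) := ⟨by norm_num⟩
    let c : ↥Z ≃* Multiplicative (ZMod 7) :=
      mulEquivOfPrimeCardEq (p := 7) (by rw [hcZ, hx]) (by simp)
    rw [hB, ← map_centralizer_conj]
    exact ⟨((equivMapOfInjective X _ (MulAut.conj g).injective).symm.trans b).trans
      (MulEquiv.prodCongr c a)⟩
  · rw [hB, conj_normalizer_card]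
    exact hcN

end CfsgLib.Small.SuzOrder
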